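import Cfsg.Agent.Lib.LocalEven.CoprimeGen
import Cfsg.Agent.Lib.Solvable.Generation
import Cfsg.Agent.Lib.Signalizer.Basic

/-!
Coprime action of an elementary abelian group: lifting of fixed points, generation by the fixed points of the
subgroups of index at most `p`, and the averaging criterion for abelian sections.
-/

set_option autoImplicit false
set_option linter.unusedSectionVars false
set_option linter.style.haveILetI false

namespace CfsgLib.CoprimeClass

open Subgroup Cfsg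
open scoped commutatorElement

variable {Γ : Type*} [Group Γ] [Finite Γ] {p : ℕ} [hp : Fact p.Prime] {A G : Subgroup Γ}

/-- The standing hypotheses: `A` elementary abelian, `G` normal of order prime to `p`. -/
structure CopAct (p : ℕ) (A G : Subgroup Γ) : Prop where
  elem : IsElementaryAbelian p A
  normal : G.Normal
  ndvd : ¬ p ∣ Nat.card G

/-- A subgroup of `A` of index at most `p`. -/
def Hyp (p : ℕ) (A B : Subgroup Γ) : Prop := B ≤ A ∧ Nat.card A ≤ p * Nat.card B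

/-- A subgroup of `A` of index at most `p ^ j`. -/
def CoB (p j : ℕ) (A W : Subgroup Γ) : Prop := W ≤ A ∧ Nat.card A ≤ p ^ j * Nat.card W

/-- The fixed points in `G`. -/
def fixH (G S : Subgroup Γ) : Subgroup Γ := G ⊓ centralizer (S : Set Γ)

/-- The subgroup spanned by the pieces at `B`. -/
def NB (p m : ℕ) (A G B : Subgroup Γ) : Subgroup Γ :=
  ⨆ U : {U : Subgroup Γ // U ≤ B ∧ U ≤ A ∧ p ^ 2 ≤ Nat.card U},
    (fixH G U.1).lowerCentralSeries m ⊓ centralizer (B : Set Γ)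

theorem le_NB {m : ℕ} {B U : Subgroup Γ} (hUB : U ≤ B) (hUA : U ≤ A) (hU : p ^ 2 ≤ Nat.card U) :
    (fixH G U).lowerCentralSeries m ⊓ centralizer (B : Set Γ) ≤ NB p m A G B :=
  le_iSup (fun U : {U : Subgroup Γ // U ≤ B ∧ U ≤ A ∧ p ^ 2 ≤ Nat.card U} =>
    (fixH G U.1).lowerCentralSeries m ⊓ centralizer (B : Set Γ)) ⟨U, hUB, hUA, hU⟩

theorem card_mul_card_le {U V A : Subgroup Γ} (hU : U ≤ A) (hV : V ≤ A) :
    Nat.card U * Nat.card V ≤ Nat.card ↥(U ⊓ V) * Nat.card A := by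
  have h1 : (V ⊓ U).relIndex U ≤ V.relIndex A := by
    rw [inf_relIndex_right]
    exact relIndex_le_of_le_right hU (by rw [relIndex]; exact index_ne_zero_of_finite)
  have h2 : Nat.card U = Nat.card ↥(U ⊓ V) * (V ⊓ U).relIndex U := by
    have := relIndex_mul_relIndex (⊥ : Subgroup Γ) (V ⊓ U) U bot_le inf_le_right
    rw [relIndex_bot_left, relIndex_bot_left] at this
    rw [← this, inf_comm]
  have h3 : Nat.card V * V.relIndex A = Nat.card A := by
    have := relIndex_mul_relIndex (⊥ : Subgroup Γ) V A bot_le hV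
    rwa [relIndex_bot_left, relIndex_bot_left] at this
  calc Nat.card U * Nat.card V = Nat.card ↥(U ⊓ V) * ((V ⊓ U).relIndex U * Nat.card V) := by rw [h2]; ring
    _ ≤ Nat.card ↥(U ⊓ V) * (V.relIndex A * Nat.card V) := by
        exact Nat.mul_le_mul_left _ (Nat.mul_le_mul_right _ h1)
    _ = Nat.card ↥(U ⊓ V) * Nat.card A := by rw [mul_comm (V.relIndex A), h3]

theorem CoB.inf {i j : ℕ} {U V : Subgroup Γ} (hU : CoB p i A U) (hV : CoB p j A V) : CoB p (i + j) A (U ⊓ V) := by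
  refine ⟨inf_le_left.trans hU.1, ?_⟩
  have h := card_mul_card_le hU.1 hV.1
  have h2 : Nat.card A * Nat.card A ≤ p ^ (i + j) * (Nat.card U * Nat.card V) := by
    calc Nat.card A * Nat.card A ≤ (p ^ i * Nat.card U) * (p ^ j * Nat.card V) := Nat.mul_le_mul hU.2 hV.2
      _ = _ := by rw [pow_add]; ring
  have h3 := h2.trans (Nat.mul_le_mul_left _ h)
  rw [← mul_assoc] at h3
  exact Nat.le_of_mul_le_mul_right h3 Nat.card_pos

theorem CoB.card_ge {j e k : ℕ} {W : Subgroup Γ} (hW : CoB p j A W) (hA : Nat.card A = p ^ k) (h : j + e ≤ k) :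
    p ^ e ≤ Nat.card W := by
  refine Nat.le_of_mul_le_mul_left (le_trans ?_ hW.2) (pow_pos hp.out.pos j)
  rw [hA, ← pow_add]
  exact Nat.pow_le_pow_right hp.out.pos h

theorem Hyp.coB {B : Subgroup Γ} (h : Hyp p A B) : CoB p 1 A B := ⟨h.1, by rw [pow_one]; exact h.2⟩

theorem CopAct.comm (hA : CopAct p A G) {a b : Γ} (ha : a ∈ A) (hb : b ∈ A) : a * b = b * a :=
  CfsgLib.PGroup.elemAb_comm hA.elem ha hb

theorem CopAct.coprime (hA : CopAct p A G) {S H : Subgroup Γ} (hS : S ≤ A) (hH : H ≤ G) :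
    (Nat.card S).Coprime (Nat.card H) := by
  obtain ⟨n, hn⟩ := IsPGroup.iff_card.1 ((CfsgLib.PGroup.elemAb_isPGroup hA.elem).to_le hS)
  rw [hn]
  exact Nat.Coprime.pow_left n (hp.out.coprime_iff_not_dvd.2 fun h => hA.ndvd (h.trans (card_dvd_of_le hH)))

theorem CopAct.solvable (hA : CopAct p A G) {S : Subgroup Γ} (hS : S ≤ A) : Group.IsSolvable S :=
  Group.isSolvable_of_comm fun x y => Subtype.ext (hA.comm (hS x.2) (hS y.2))

theorem CopAct.le_normalizer (hA : CopAct p A G) : A ≤ normalizer (G : Set Γ) := by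
  haveI := hA.normal
  rw [normalizer_eq_top]; exact le_top

theorem CopAct.le_centralizer (hA : CopAct p A G) {S T : Subgroup Γ} (hS : S ≤ A) (hT : T ≤ A) :
    S ≤ centralizer (T : Set Γ) :=
  fun s hs => mem_centralizer_iff.2 fun t ht => hA.comm (hT ht) (hS hs)

theorem conj_mem_lcs {H : Subgroup Γ} {g : Γ} (hg : g ∈ normalizer (H : Set Γ)) (m : ℕ) :
    g ∈ normalizer (H.lowerCentralSeries m : Set Γ) := by
  rw [mem_normalizer_iff_map_conj_eq, map_lowerCentralSeries, mem_normalizer_iff_map_conj_eq.1 hg]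

theorem CopAct.le_normalizer_fixH (hA : CopAct p A G) {S : Subgroup Γ} (hS : S ≤ A) :
    A ≤ normalizer (fixH G S : Set Γ) :=
  CfsgLib.Solvable.le_normalizer_inf hA.le_normalizer
    ((hA.le_centralizer le_rfl hS).trans Subgroup.le_normalizer)

theorem CopAct.centralizer_le_normalizer_lcs (hA : CopAct p A G) {U B : Subgroup Γ} (hUB : U ≤ B) (m : ℕ) :
    centralizer (B : Set Γ) ≤ normalizer ((fixH G U).lowerCentralSeries m : Set Γ) := by
  intro g hg
  haveI := hA.normal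
  refine conj_mem_lcs ?_ m
  exact CfsgLib.Solvable.le_normalizer_inf (by rw [normalizer_eq_top]; exact le_top)
    ((centralizer_le hUB).trans Subgroup.le_normalizer) hg

theorem NB_le (m : ℕ) (B : Subgroup Γ) :
    NB p m A G B ≤ G.lowerCentralSeries m ⊓ centralizer (B : Set Γ) :=
  iSup_le fun _ => inf_le_inf_right _ (lowerCentralSeries_mono m inf_le_left)

theorem CopAct.centralizer_le_normalizer_NB (hA : CopAct p A G) (m : ℕ) (B : Subgroup Γ) :
    centralizer (B : Set Γ) ≤ normalizer (NB p m A G B : Set Γ) := by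
  refine CfsgLib.Solvable.le_normalizer_of_conj_mem fun g hg x hx => ?_
  suffices NB p m A G B ≤ (NB p m A G B).comap (MulAut.conj g).toMonoidHom from this hx
  refine iSup_le fun U y hy => ?_
  exact le_NB U.2.1 U.2.2.1 U.2.2.2
    ⟨(mem_normalizer_iff.1 (hA.centralizer_le_normalizer_lcs U.2.1 m hg) y).1 hy.1,
      mul_mem (mul_mem hg hy.2) (Subgroup.inv_mem _ hg)⟩

/-- Fixed points lift through kernels. -/
theorem CopAct.lift_fixed (hA : CopAct p A G) {S H N : Subgroup Γ} (hS : S ≤ A) (hH : H ≤ G)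
    (hSH : S ≤ normalizer (H : Set Γ)) (hSN : S ≤ normalizer (N : Set Γ)) {x : Γ} (hx : x ∈ H)
    (hfix : ∀ s ∈ S, ⁅s, x⁆ ∈ N) : ∃ n ∈ H ⊓ N, n * x ∈ centralizer (S : Set Γ) := by
  refine CfsgLib.Solvable.exists_mul_mem_centralizer S (H ⊓ N) (CfsgLib.Solvable.le_normalizer_inf hSH hSN)
    (hA.coprime hS (inf_le_left.trans hH)) (Or.inl (hA.solvable hS)) x fun s hs => ⟨?_, hfix s hs⟩
  rw [commutatorElement_def]
  exact mul_mem ((mem_normalizer_iff.1 (hSH hs) x).1 hx) (Subgroup.inv_mem _ hx)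

theorem CopAct.map_inf_centralizer (hA : CopAct p A G) {S H N : Subgroup Γ} [N.Normal] (hS : S ≤ A)
    (hH : H ≤ G) (hSH : S ≤ normalizer (H : Set Γ)) :
    H.map (QuotientGroup.mk' N) ⊓ centralizer (S.map (QuotientGroup.mk' N) : Set (Γ ⧸ N)) ≤
      (H ⊓ centralizer (S : Set Γ)).map (QuotientGroup.mk' N) := by
  rintro _ ⟨⟨x, hx, rfl⟩, hc⟩
  obtain ⟨n, hn, hnx⟩ := hA.lift_fixed hS hH hSH (N := N) (by rw [normalizer_eq_top]; exact le_top) hx
    fun s hs => (QuotientGroup.eq_one_iff _).1 (by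
      show QuotientGroup.mk' N ⁅s, x⁆ = 1
      rw [map_commutatorElement, commutatorElement_eq_one_iff_mul_comm]
      exact mem_centralizer_iff.1 hc _ ⟨s, hs, rfl⟩)
  refine ⟨n * x, ⟨mul_mem hn.1 hx, hnx⟩, ?_⟩
  rw [map_mul, show QuotientGroup.mk' N n = 1 from (QuotientGroup.eq_one_iff n).2 hn.2, one_mul]

theorem map_inf_centralizer_le {Δ : Type*} [Group Δ] (f : Γ →* Δ) (H S : Subgroup Γ) :
    (H ⊓ centralizer (S : Set Γ)).map f ≤ H.map f ⊓ centralizer (S.map f : Set Δ) := by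
  rintro _ ⟨x, hx, rfl⟩
  refine ⟨⟨x, hx.1, rfl⟩, mem_centralizer_iff.2 ?_⟩
  rintro _ ⟨s, hs, rfl⟩
  rw [← map_mul, ← map_mul, mem_centralizer_iff.1 hx.2 s hs]

theorem card_sup_zpowers_le' (hA : CopAct p A G) {E : Subgroup Γ} (hE : E ≤ A) {b : Γ} (hb : b ∈ A) :
    Nat.card ↥(E ⊔ zpowers b) ≤ p * Nat.card E := by
  have hn : zpowers b ≤ normalizer (E : Set Γ) :=
    ((hA.le_centralizer (zpowers_le.2 hb) hE)).trans (centralizer_le_normalizer _)
  let f : E × zpowers b → ↥(E ⊔ zpowers b) := fun x =>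
    ⟨x.1 * x.2, mul_mem (mem_sup_left x.1.2) (mem_sup_right x.2.2)⟩
  have hf : Function.Surjective f := by
    rintro ⟨g, hg⟩
    rw [← SetLike.mem_coe, coe_mul_of_right_le_normalizer_left _ _ hn] at hg
    obtain ⟨x, hx, y, hy, rfl⟩ := hg
    exact ⟨(⟨x, hx⟩, ⟨y, hy⟩), rfl⟩
  refine (Nat.card_le_card_of_surjective f hf).trans ?_
  rw [Nat.card_prod, Nat.card_zpowers, mul_comm]
  exact Nat.mul_le_mul_right _ (Nat.le_of_dvd hp.out.pos (orderOf_dvd_of_pow_eq_one (hA.elem.2 b hb)))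

theorem mem_of_zpow_mem {E : Subgroup Γ} {a : Γ} (ha : a ^ p = 1) {i : ℤ} (h : a ^ i ∈ E) (hne : a ^ i ≠ 1) :
    a ∈ E := by
  have hle : zpowers (a ^ i) ≤ zpowers a := zpowers_le.2 (zpow_mem (mem_zpowers a) i)
  have ho : orderOf (a ^ i) = p := orderOf_eq_prime (by rw [← zpow_natCast, ← zpow_mul, mul_comm, zpow_mul,
    zpow_natCast, ha, one_zpow]) hne
  have heq : zpowers (a ^ i) = zpowers a := eq_of_le_of_card_ge hle (by
    rw [Nat.card_zpowers, Nat.card_zpowers, ho]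
    exact Nat.le_of_dvd hp.out.pos (orderOf_dvd_of_pow_eq_one ha))
  exact zpowers_le.2 h (heq ▸ mem_zpowers a)

/-- An invariant subgroup is generated by the fixed points of the subgroups of index at most `p`. -/
theorem CopAct.le_of_hyps (hA : CopAct p A G) {H T : Subgroup Γ} (hH : H ≤ G)
    (hAH : A ≤ normalizer (H : Set Γ)) (h : ∀ B, Hyp p A B → H ⊓ centralizer (B : Set Γ) ≤ T) : H ≤ T := by
  suffices key : ∀ d, ∀ E : Subgroup Γ, E ≤ A → Nat.card A - Nat.card E = d → H ⊓ centralizer (E : Set Γ) ≤ T from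
    fun x hx => key _ ⊥ bot_le rfl ⟨hx, mem_centralizer_iff.2 fun e he => by
      rw [Subgroup.mem_bot.1 he, one_mul, mul_one]⟩
  intro d
  induction d using Nat.strong_induction_on with
  | _ d ih =>
  intro E hE hd
  by_cases hEH : Nat.card A ≤ p * Nat.card E
  · exact h E ⟨hE, hEH⟩
  obtain ⟨b, hb, hbE⟩ : ∃ b ∈ A, b ∉ E := by
    by_contra hc
    push Not at hc
    exact hEH ((card_le_of_le hc).trans (Nat.le_mul_of_pos_left _ hp.out.pos))
  obtain ⟨a, ha, haE⟩ : ∃ a ∈ A, a ∉ E ⊔ zpowers b := by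
    by_contra hc
    push Not at hc
    exact hEH ((card_le_of_le hc).trans (card_sup_zpowers_le' hA hE hb))
  set A₀ := zpowers a ⊔ zpowers b with hA₀
  have hA₀A : A₀ ≤ A := sup_le (zpowers_le.2 ha) (zpowers_le.2 hb)
  have hcomm : ∀ x ∈ A₀, ∀ y ∈ A₀, x * y = y * x := fun x hx y hy => hA.comm (hA₀A hx) (hA₀A hy)
  have hnc : ¬ IsCyclic A₀ := by
    intro hcy
    obtain ⟨g, hg⟩ := hcy.exists_generator
    have hle : A₀ ≤ zpowers (g : Γ) := fun x hx => by
      obtain ⟨i, hi⟩ := hg ⟨x, hx⟩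
      exact ⟨i, by simpa using congrArg Subtype.val hi⟩
    have hb1 : b ≠ 1 := fun hb1 => hbE (hb1 ▸ one_mem E)
    have hlt : zpowers b < A₀ := lt_of_le_of_ne le_sup_right fun he =>
      haE (mem_sup_right (he ▸ mem_sup_left (mem_zpowers a)))
    have h1 : Nat.card (zpowers b) = p := by
      rw [Nat.card_zpowers]; exact orderOf_eq_prime (hA.elem.2 b hb) hb1
    have h2 : Nat.card A₀ ≤ p := (card_le_of_le hle).trans (by
      rw [Nat.card_zpowers]
      exact Nat.le_of_dvd hp.out.pos (orderOf_dvd_of_pow_eq_one (hA.elem.2 _ (hA₀A g.2))))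
    exact hlt.ne (eq_of_le_of_card_ge hlt.le (h2.trans h1.ge))
  have hA₀H : A₀ ≤ normalizer ((H ⊓ centralizer (E : Set Γ) : Subgroup Γ) : Set Γ) :=
    hA₀A.trans (CfsgLib.Solvable.le_normalizer_inf hAH ((hA.le_centralizer le_rfl hE).trans Subgroup.le_normalizer))
  rw [← CfsgLib.Solvable.iSup_centralizer_eq hcomm hnc hA₀H (hA.coprime hA₀A (inf_le_left.trans hH))]
  refine iSup₂_le fun e he x hx => ?_
  obtain ⟨heA₀, he1⟩ := he
  have heE : e ∉ E := by
    intro heE
    have hn : zpowers b ≤ normalizer (zpowers a : Set Γ) :=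
      (hA.le_centralizer (zpowers_le.2 hb) (zpowers_le.2 ha)).trans (centralizer_le_normalizer _)
    rw [hA₀, ← SetLike.mem_coe, coe_mul_of_right_le_normalizer_left _ _ hn] at heA₀
    obtain ⟨_, ⟨i, rfl⟩, _, ⟨j, rfl⟩, rfl⟩ := heA₀
    by_cases hi : a ^ i = 1
    · simp only [hi, one_mul] at heE he1
      exact hbE (mem_of_zpow_mem (hA.elem.2 b hb) heE he1)
    · refine haE (mem_of_zpow_mem (hA.elem.2 a ha) ?_ hi)
      have := mul_mem (mem_sup_left (T := zpowers b) heE)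
        (mem_sup_right (S := E) (inv_mem (zpow_mem (mem_zpowers b) j)))
      rwa [mul_inv_cancel_right] at this
  have hlt : E < E ⊔ zpowers e := lt_of_le_of_ne le_sup_left fun hh => heE (hh ▸ mem_sup_right (mem_zpowers e))
  have hE' : E ⊔ zpowers e ≤ A := sup_le hE (zpowers_le.2 (hA₀A heA₀))
  have hcl : Nat.card E < Nat.card ↥(E ⊔ zpowers e) :=
    lt_of_le_of_ne (card_le_of_le hlt.le) fun hh => hlt.ne (eq_of_le_of_card_ge hlt.le hh.ge)
  have hcA := card_le_of_le hE'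
  refine ih _ (by omega) _ hE' rfl ⟨hx.1.1, ?_⟩
  have hsup : E ⊔ zpowers e ≤ centralizer ({x} : Set Γ) :=
    sup_le (fun y hy => mem_centralizer_singleton_iff.2 (mem_centralizer_iff.1 hx.1.2 y hy))
      (zpowers_le.2 (mem_centralizer_singleton_iff.2 (mem_centralizer_singleton_iff.1 hx.2).symm))
  exact mem_centralizer_iff.2 fun y hy => mem_centralizer_singleton_iff.1 (hsup hy)

theorem mem_of_pow_mem_coprime {K : Subgroup Γ} {x : Γ} {n : ℕ} (hc : (orderOf x).Coprime n) (h : x ^ n ∈ K) :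
    x ∈ K := by
  obtain ⟨m, hm⟩ := exists_pow_eq_self_of_coprime hc.symm
  exact hm ▸ pow_mem h m

/-- The generators allowed in the averaging criterion. -/
def Good (p m : ℕ) (A G N : Subgroup Γ) (c : Γ) : Prop :=
  ∃ (W H : Subgroup Γ) (f : Γ → Γ), W ≤ A ∧ p ^ 3 ≤ Nat.card W ∧ H ≤ G ∧ W ≤ normalizer (H : Set Γ) ∧
    (∀ x ∈ H, f x ∈ N) ∧ (∀ x ∈ H, ∀ y ∈ H, f (x * y) = f x * f y) ∧
    (∀ w ∈ W, ∀ x ∈ H, f (w * x * w⁻¹) = w * f x * w⁻¹) ∧
    (∀ B₀ ≤ W, p ^ 2 ≤ Nat.card B₀ → ∀ h ∈ H ⊓ centralizer (B₀ : Set Γ),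
      f h ∈ (fixH G B₀).lowerCentralSeries m) ∧
    ∃ h ∈ H, f h = c

/-- The averaging criterion. -/
theorem CopAct.fixed_le_NB (hA : CopAct p A G) {m : ℕ} {N B : Subgroup Γ} (hNG : N ≤ G)
    (hNc : ∀ x ∈ N, ∀ y ∈ N, x * y = y * x) (hAN : A ≤ normalizer (N : Set Γ)) (hB : Hyp p A B)
    (hgen : N ≤ closure {c | Good p m A G N c}) : N ⊓ centralizer (B : Set Γ) ≤ NB p m A G B := by
  classical
  letI : CommGroup N := { (inferInstance : Group N) with mul_comm := fun x y => Subtype.ext (hNc x x.2 y y.2) }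
  let cj : A → N →* N := fun a => MonoidHom.mk'
    (fun x => ⟨(a : Γ) * x * (a : Γ)⁻¹, (mem_normalizer_iff.1 (hAN a.2) x).1 x.2⟩)
    (fun x y => Subtype.ext (by simp only [Subgroup.coe_mul]; group))
  have hcj : ∀ a b x, cj (a * b) x = cj a (cj b x) := fun a b x =>
    Subtype.ext (by simp [cj, mul_assoc])
  haveI : ∀ S : Subgroup A, Fintype S := fun S => Fintype.ofFinite S
  let avg : Subgroup A → N →* N := fun S => ∏ s : S, cj s
  have havg : ∀ S x, avg S x = ∏ s : S, cj s x := fun S x => MonoidHom.finsetProd_apply _ _ _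
  have hfix : ∀ (S : Subgroup A) (t : S) x, cj t (avg S x) = avg S x := by
    intro S t x
    rw [havg, map_prod]
    exact Fintype.prod_equiv (Equiv.mulLeft t) _ _ fun s => (hcj t s x).symm
  have hcoS : ∀ (S : Subgroup A) (x : Γ), x ∈ N → (orderOf x).Coprime (Nat.card S) := by
    intro S x hx
    refine Nat.Coprime.symm (Nat.Coprime.coprime_dvd_left ?_ ((hA.coprime le_rfl hNG).coprime_dvd_right
      (orderOf_mk x hx ▸ orderOf_dvd_natCard (⟨x, hx⟩ : N))))
    exact Subgroup.card_subgroup_dvd_card S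
  set SB := B.subgroupOf A with hSB
  have hgood : ∀ c, Good p m A G N c → ∀ hc : c ∈ N, ((avg SB ⟨c, hc⟩ : N) : Γ) ∈ NB p m A G B := by
    rintro c ⟨W, H, f, hWA, hW, hHG, hWH, hfN, hfm, hfe, hfl, h, hhH, rfl⟩ hc
    set B₀ := B ⊓ W with hB₀
    set S₀ := B₀.subgroupOf A with hS₀
    have hB₀A : B₀ ≤ A := inf_le_right.trans hWA
    have hc₀ : p ^ 2 ≤ Nat.card B₀ := by
      have h1 := card_mul_card_le hB.1 hWA
      have h2 : Nat.card B * p ^ 3 ≤ Nat.card ↥(B ⊓ W) * (p * Nat.card B) :=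
        ((Nat.mul_le_mul_left _ hW).trans h1).trans (Nat.mul_le_mul_left _ hB.2)
      refine Nat.le_of_mul_le_mul_left ?_ (Nat.mul_pos hp.out.pos (Nat.card_pos (α := B)))
      rw [hB₀]
      calc p * Nat.card B * p ^ 2 = Nat.card B * p ^ 3 := by ring
        _ ≤ _ := h2
        _ = _ := by ring
    have hone : f 1 = 1 := mul_left_cancel (a := f 1) (by rw [← hfm 1 (one_mem H) 1 (one_mem H), one_mul, mul_one])
    -- the partial average is a value at a fixed point
    have hval : ∀ s : Finset S₀, ∃ z ∈ H, f z = ((∏ i ∈ s, cj (i : A) ⟨f h, hc⟩ : N) : Γ) := by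
      intro s
      induction s using Finset.induction_on with
      | empty => exact ⟨1, one_mem H, by rw [Finset.prod_empty, hone]; rfl⟩
      | insert i s his ih =>
        obtain ⟨z, hz, e⟩ := ih
        have hi : ((i : A) : Γ) ∈ W := (show ((i : A) : Γ) ∈ B₀ from i.2).2
        refine ⟨((i : A) : Γ) * h * ((i : A) : Γ)⁻¹ * z,
          mul_mem ((mem_normalizer_iff.1 (hWH hi) h).1 hhH) hz, ?_⟩
        rw [Finset.prod_insert his, Subgroup.coe_mul, hfm _ ((mem_normalizer_iff.1 (hWH hi) h).1 hhH) _ hz, e,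
          hfe _ hi h hhH]
        rfl
    obtain ⟨z, hz, hfz⟩ := hval Finset.univ
    rw [← havg] at hfz
    -- move to a fixed preimage
    let ker : Subgroup Γ :=
      { carrier := {x | x ∈ H ∧ f x = 1}
        one_mem' := ⟨one_mem H, hone⟩
        mul_mem' := fun {x y} hx hy => ⟨mul_mem hx.1 hy.1, by rw [hfm x hx.1 y hy.1, hx.2, hy.2, one_mul]⟩
        inv_mem' := fun {x} hx => ⟨inv_mem hx.1, by
          have := hfm x hx.1 x⁻¹ (inv_mem hx.1)
          rw [mul_inv_cancel, hone, hx.2, one_mul] at this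
          exact this.symm⟩ }
    have hWker : B₀ ≤ normalizer (ker : Set Γ) := by
      refine CfsgLib.Solvable.le_normalizer_of_conj_mem fun w hw x hx =>
        ⟨(mem_normalizer_iff.1 (hWH hw.2) x).1 hx.1, ?_⟩
      rw [hfe w hw.2 x hx.1, hx.2, mul_one, mul_inv_cancel]
    obtain ⟨n, hn, hnz⟩ := hA.lift_fixed hB₀A hHG (inf_le_right.trans hWH) hWker hz fun w hw => by
      refine ⟨mul_mem ((mem_normalizer_iff.1 (hWH hw.2) z).1 hz) (inv_mem hz), ?_⟩
      have h1 : f (w * z * w⁻¹) = f z := by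
        rw [hfe w hw.2 z hz, hfz]
        exact congrArg Subtype.val (hfix S₀ ⟨⟨w, hB₀A hw⟩, hw⟩ _)
      have h2 := hfm _ ((mem_normalizer_iff.1 (hWH hw.2) z).1 hz) z⁻¹ (inv_mem hz)
      rw [commutatorElement_def, h2, h1, ← hfm z hz z⁻¹ (inv_mem hz), mul_inv_cancel, hone]
    set y : N := avg S₀ ⟨f h, hc⟩
    have hy : (y : Γ) ∈ (fixH G B₀).lowerCentralSeries m := by
      have := hfl B₀ inf_le_right hc₀ (n * z) ⟨mul_mem hn.1 hz, hnz⟩
      rwa [hfm n hn.1 z hz, hn.2.2, one_mul, hfz] at this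
    -- average over `B`
    have hBn : B ≤ normalizer ((fixH G B₀).lowerCentralSeries m : Set Γ) := fun b hb =>
      conj_mem_lcs (hA.le_normalizer_fixH hB₀A (hB.1 hb)) m
    have hy' : ((avg SB y : N) : Γ) ∈ (fixH G B₀).lowerCentralSeries m := by
      rw [havg]
      induction (Finset.univ : Finset SB) using Finset.induction_on with
      | empty => rw [Finset.prod_empty]; exact one_mem _
      | insert i s his ih =>
        rw [Finset.prod_insert his, Subgroup.coe_mul]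
        exact mul_mem ((mem_normalizer_iff.1 (hBn (show ((i : A) : Γ) ∈ B from i.2)) _).1 hy) ih
    have hyB : ((avg SB y : N) : Γ) ∈ centralizer (B : Set Γ) := by
      refine mem_centralizer_iff.2 fun b hb => ?_
      have := congrArg Subtype.val (hfix SB ⟨⟨b, hB.1 hb⟩, hb⟩ y)
      exact mul_inv_eq_iff_eq_mul.1 this
    have hNB : ((avg SB y : N) : Γ) ∈ NB p m A G B := le_NB inf_le_left hB₀A hc₀ ⟨hy', hyB⟩
    have hpow : avg SB y = avg SB ⟨f h, hc⟩ ^ Nat.card S₀ := by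
      show avg SB (avg S₀ _) = _
      rw [havg S₀, map_prod, Finset.prod_eq_pow_card (b := avg SB ⟨f h, hc⟩), Finset.card_univ,
        Nat.card_eq_fintype_card]
      intro s _
      have hs : (s : A) ∈ SB := (show ((s : A) : Γ) ∈ B₀ from s.2).1
      rw [havg, havg]
      refine Fintype.prod_equiv (Equiv.mulRight ⟨(s : A), hs⟩) _ _ fun t => ?_
      exact (hcj t s _).symm
    rw [hpow, SubgroupClass.coe_pow] at hNB
    exact mem_of_pow_mem_coprime (hcoS S₀ _ (avg SB ⟨f h, hc⟩).2) hNB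
  intro x hx
  have hall : ∀ y : N, ((avg SB y : N) : Γ) ∈ NB p m A G B := by
    intro y
    have hg : closure {c | Good p m A G N c} ≤ N := (closure_le _).2 fun c hc => by
      obtain ⟨W, H, f, -, -, -, -, hfN, -, -, -, h, hh, rfl⟩ := hc
      exact hfN h hh
    have hmem : (y : Γ) ∈ ((NB p m A G B).comap (N.subtype.comp (avg SB))).map N.subtype := by
      refine (closure_le _).2 ?_ (hgen y.2)
      intro c hc
      exact ⟨⟨c, hg (subset_closure hc)⟩, hgood c hc _, rfl⟩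
    obtain ⟨y', hy', e⟩ := hmem
    rw [← Subtype.ext (show (y' : Γ) = y from e)]
    exact hy'
  have hxx := hall ⟨x, hx.1⟩
  rw [havg, Finset.prod_eq_pow_card (b := (⟨x, hx.1⟩ : N)), SubgroupClass.coe_pow, Finset.card_univ,
    ← Nat.card_eq_fintype_card] at hxx
  · exact mem_of_pow_mem_coprime (hcoS SB x hx.1) hxx
  · intro s _
    refine Subtype.ext ?_
    show ((s : A) : Γ) * x * ((s : A) : Γ)⁻¹ = x
    rw [mem_centralizer_iff.1 hx.2 _ (show ((s : A) : Γ) ∈ B from s.2), mul_inv_cancel_right]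

end CfsgLib.CoprimeClass
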