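import Cfsg.Agent.Lib.CoprimeClass.GenC

/-!
Derived series of subgroups, the pieces spanned by the fixed points of subgroups of bounded index, and the
averaging criterion for them.
-/

set_option autoImplicit false
set_option linter.unusedSectionVars false
set_option linter.style.haveILetI false

namespace CfsgLib.CoprimeClass

open Subgroup Cfsg
open scoped commutatorElement

variable {Γ : Type*} [Group Γ]

/-- The derived series of a subgroup. -/
def dser (H : Subgroup Γ) : ℕ → Subgroup Γ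
  | 0 => H
  | j + 1 => ⁅dser H j, dser H j⁆

theorem map_subtype_derivedSeries (H : Subgroup Γ) : ∀ j, (derivedSeries ↥H j).map H.subtype = dser H j := by
  intro j
  induction j with
  | zero => rw [derivedSeries_zero, ← MonoidHom.range_eq_map, range_subtype]; rfl
  | succ j ih => rw [derivedSeries_succ, map_commutator, ih]; rfl

theorem map_dser {Δ : Type*} [Group Δ] (f : Γ →* Δ) (H : Subgroup Γ) :
    ∀ j, (dser H j).map f = dser (H.map f) j := by
  intro j
  induction j with
  | zero => rfl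
  | succ j ih => rw [dser, map_commutator, ih]; rfl

theorem dser_succ_le (H : Subgroup Γ) (j : ℕ) : dser H (j + 1) ≤ dser H j := commutator_le_self _

theorem dser_antitone (H : Subgroup Γ) : Antitone (dser H) := antitone_nat_of_succ_le (dser_succ_le H)

theorem dser_le_self (H : Subgroup Γ) (j : ℕ) : dser H j ≤ H := dser_antitone H (Nat.zero_le j)

theorem dser_mono {H K : Subgroup Γ} (h : H ≤ K) : ∀ j, dser H j ≤ dser K j
  | 0 => h
  | j + 1 => commutator_mono (dser_mono h j) (dser_mono h j)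

theorem conj_mem_dser {H : Subgroup Γ} {g : Γ} (hg : g ∈ normalizer (H : Set Γ)) (j : ℕ) :
    g ∈ normalizer (dser H j : Set Γ) := by
  rw [mem_normalizer_iff_map_conj_eq, map_dser, mem_normalizer_iff_map_conj_eq.1 hg]

theorem dser_normal (H : Subgroup Γ) [hH : H.Normal] : ∀ j, (dser H j).Normal
  | 0 => hH
  | j + 1 => by haveI := dser_normal H j; exact commutator_normal _ _

/-- Commutators with a generating set span, for a normal subgroup on the left. -/
theorem commutator_le_closure_gens [Finite Γ] {P R : Subgroup Γ} (hP : P.Normal) {S : Set Γ}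
    (hS : R ≤ closure S) : ⁅P, R⁆ ≤ closure {c | ∃ h ∈ P, ∃ y ∈ S, ⁅h, y⁆ = c} := by
  set T := closure {c | ∃ h ∈ P, ∃ y ∈ S, ⁅h, y⁆ = c} with hT
  have hTP : T ≤ P := (closure_le _).2 (by
    rintro _ ⟨h, hh, y, -, rfl⟩
    exact commutator_le_left P ⊤ (commutator_mem_commutator hh (mem_top y)))
  let Z := finSub {g | ∀ h ∈ P, ⁅h, g⁆ ∈ T} (fun h _ => by rw [commutatorElement_one_right]; exact one_mem _)
    (fun a ha b hb h hh => by
      rw [show ⁅h, a * b⁆ = ⁅h, a⁆ * (⁅⁅h, b⁆, a⁆⁻¹ * ⁅h, b⁆) by simp only [commutatorElement_def]; group]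
      exact mul_mem (ha h hh) (mul_mem (inv_mem (ha _ (hTP (hb h hh)))) (hb h hh)))
  rw [commutator_le]
  intro h hh g hg
  exact (show R ≤ Z from hS.trans ((closure_le Z).2 fun y hy h hh => subset_closure ⟨h, hh, y, hy, rfl⟩)) hg h hh

variable [Finite Γ] {p : ℕ} [hp : Fact p.Prime] {A G : Subgroup Γ}

/-- The piece at `U` inside the centraliser of `B`. -/
def piece (j : ℕ) (G U B : Subgroup Γ) : Subgroup Γ := dser (fixH G U) j ⊓ centralizer (B : Set Γ)

/-- The subgroup spanned by the pieces of index at most `p ^ r` in `B`. -/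
def DB (p r j : ℕ) (G B : Subgroup Γ) : Subgroup Γ :=
  ⨆ U : {U : Subgroup Γ // U ≤ B ∧ Nat.card B ≤ p ^ r * Nat.card U}, piece j G U.1 B

theorem le_DB {r j : ℕ} {B U : Subgroup Γ} (hUB : U ≤ B) (hU : Nat.card B ≤ p ^ r * Nat.card U) :
    piece j G U B ≤ DB p r j G B :=
  le_iSup (fun U : {U : Subgroup Γ // U ≤ B ∧ Nat.card B ≤ p ^ r * Nat.card U} => piece j G U.1 B) ⟨U, hUB, hU⟩

theorem DB_le (r j : ℕ) (B : Subgroup Γ) : DB p r j G B ≤ dser G j ⊓ centralizer (B : Set Γ) :=
  iSup_le fun _ => inf_le_inf_right _ (dser_mono inf_le_left j)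

theorem CopAct.normalizes_piece (hA : CopAct p A G) (j : ℕ) {U B : Subgroup Γ} (hUB : U ≤ B) :
    centralizer (B : Set Γ) ≤ normalizer (piece j G U B : Set Γ) := by
  intro g hg
  haveI := hA.normal
  refine CfsgLib.Solvable.le_normalizer_inf (H := dser (fixH G U) j) (K := centralizer (B : Set Γ))
    ?_ Subgroup.le_normalizer hg
  intro x hx
  refine conj_mem_dser ?_ j
  exact CfsgLib.Solvable.le_normalizer_inf (by rw [normalizer_eq_top]; exact le_top)
    ((centralizer_le hUB).trans Subgroup.le_normalizer) hx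

theorem CopAct.normalizes_piece' (hA : CopAct p A G) (j : ℕ) {U B : Subgroup Γ} (hU : U ≤ A) (hB : B ≤ A) :
    A ≤ normalizer (piece j G U B : Set Γ) :=
  CfsgLib.Solvable.le_normalizer_inf (fun _ ha => conj_mem_dser (hA.le_normalizer_fixH hU ha) j)
    ((hA.le_centralizer le_rfl hB).trans Subgroup.le_normalizer)

/-- Fixed points of a product of invariant pieces. -/
theorem CopAct.sup_inf_centralizer_le (hA : CopAct p A G) {S X Y : Subgroup Γ} (hS : S ≤ A) (hX : X ≤ G)
    (hSX : S ≤ normalizer (X : Set Γ)) (hSY : S ≤ normalizer (Y : Set Γ)) (hXY : X ≤ normalizer (Y : Set Γ)) :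
    (X ⊔ Y) ⊓ centralizer (S : Set Γ) ≤ (X ⊓ centralizer (S : Set Γ)) ⊔ (Y ⊓ centralizer (S : Set Γ)) := by
  rintro g ⟨hg, hgS⟩
  replace hg : g ∈ ((X ⊔ Y : Subgroup Γ) : Set Γ) := hg
  rw [coe_mul_of_left_le_normalizer_right _ _ hXY] at hg
  obtain ⟨x, hx, y, hy, rfl⟩ := hg
  show x * y ∈ _
  replace hgS : x * y ∈ centralizer (S : Set Γ) := hgS
  obtain ⟨n, hn, hnx⟩ := hA.lift_fixed hS hX hSX hSY (x := x) hx fun s hs => by
    have hfix : s * (x * y) * s⁻¹ = x * y := by rw [mem_centralizer_iff.1 hgS s hs, mul_inv_cancel_right]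
    have h1 : s * y * s⁻¹ ∈ Y := (mem_normalizer_iff.1 (hSY hs) y).1 hy
    have h2 : ⁅s, x⁆ = x * (y * (s * y * s⁻¹)⁻¹) * x⁻¹ := by
      calc ⁅s, x⁆ = s * (x * y) * s⁻¹ * (s * y * s⁻¹)⁻¹ * x⁻¹ := by simp only [commutatorElement_def]; group
        _ = _ := by rw [hfix]; group
    rw [h2]
    exact (mem_normalizer_iff.1 (hXY hx) _).1 (mul_mem hy (inv_mem h1))
  have hnx' : n * x ∈ X ⊓ centralizer (S : Set Γ) := ⟨mul_mem hn.1 hx, hnx⟩
  rw [show x * y = (n * x) * ((n * x)⁻¹ * (x * y)) by rw [mul_inv_cancel_left]]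
  refine mul_mem (mem_sup_left hnx') (mem_sup_right ⟨?_, Subgroup.mul_mem _ (Subgroup.inv_mem _ hnx) hgS⟩)
  show (n * x)⁻¹ * (x * y) ∈ Y
  rw [show (n * x)⁻¹ * (x * y) = x⁻¹ * n⁻¹ * x * y by group]
  exact Subgroup.mul_mem _ (by simpa using (mem_normalizer_iff.1 (hXY (Subgroup.inv_mem _ hx)) n⁻¹).1 (Subgroup.inv_mem _ hn.2)) hy

/-- Fixed points in the span of the pieces at `B₀` are spanned by pieces at `B`. -/
theorem CopAct.DB_inf_centralizer_le (hA : CopAct p A G) {r r' j : ℕ} {B B₀ : Subgroup Γ} (hB : B ≤ A)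
    (hB₀ : B₀ ≤ B) (hr : ∀ U ≤ B₀, Nat.card B₀ ≤ p ^ r * Nat.card U → Nat.card B ≤ p ^ r' * Nat.card U) :
    DB p r j G B₀ ⊓ centralizer (B : Set Γ) ≤ DB p r' j G B := by
  classical
  let ι := {U : Subgroup Γ // U ≤ B₀ ∧ Nat.card B₀ ≤ p ^ r * Nat.card U}
  haveI : Fintype ι := Fintype.ofFinite _
  let P : ι → Subgroup Γ := fun U => piece j G U.1 B₀
  have hPG : ∀ i, P i ≤ G := fun i => inf_le_left.trans ((dser_le_self _ j).trans inf_le_left)
  have hPn : ∀ i k, P i ≤ normalizer (P k : Set Γ) := fun i k =>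
    inf_le_right.trans (hA.normalizes_piece j k.2.1)
  have hAn : ∀ i, B ≤ normalizer (P i : Set Γ) := fun i =>
    hB.trans (hA.normalizes_piece' j (i.2.1.trans (hB₀.trans hB)) (hB₀.trans hB))
  have key : ∀ s : Finset ι, s.sup P ⊓ centralizer (B : Set Γ) ≤ DB p r' j G B := by
    intro s
    induction s using Finset.induction_on with
    | empty => rw [Finset.sup_empty, bot_inf_eq]; exact bot_le
    | insert i s his ih =>
      rw [Finset.sup_insert]
      have hn : ∀ g : Γ, (∀ k, g ∈ normalizer (P k : Set Γ)) → g ∈ normalizer ((s.sup P : Subgroup Γ) : Set Γ) := by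
        intro g hg
        rw [mem_normalizer_iff_map_conj_eq]
        clear ih his
        induction s using Finset.induction_on with
        | empty => rw [Finset.sup_empty, Subgroup.map_bot]
        | insert k s _ ihs =>
          rw [Finset.sup_insert, Subgroup.map_sup, ihs, mem_normalizer_iff_map_conj_eq.1 (hg k)]
      refine (hA.sup_inf_centralizer_le hB (hPG i) (hAn i) (fun g hg => hn g fun k => hAn k hg)
        (fun g hg => hn g fun k => hPn i k hg)).trans (sup_le ?_ ih)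
      refine le_trans ?_ (le_DB (i.2.1.trans hB₀) (hr i.1 i.2.1 i.2.2))
      exact le_inf (inf_le_left.trans inf_le_left) inf_le_right
  intro x hx
  refine key Finset.univ ⟨?_, hx.2⟩
  exact (iSup_le fun i : ι => Finset.le_sup (f := P) (Finset.mem_univ i) : DB p r j G B₀ ≤ Finset.univ.sup P) hx.1

/-- The generators allowed in the averaging criterion. -/
def GoodD (p R j : ℕ) (A G N : Subgroup Γ) (c : Γ) : Prop :=
  ∃ (W H : Subgroup Γ) (w r : ℕ) (f : Γ → Γ), W ≤ A ∧ Nat.card A ≤ p ^ w * Nat.card W ∧ w + r ≤ R ∧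
    H ≤ G ∧ W ≤ normalizer (H : Set Γ) ∧
    (∀ x ∈ H, f x ∈ N) ∧ (∀ x ∈ H, ∀ y ∈ H, f (x * y) = f x * f y) ∧
    (∀ v ∈ W, ∀ x ∈ H, f (v * x * v⁻¹) = v * f x * v⁻¹) ∧
    (∀ B₀ ≤ W, ∀ h ∈ H ⊓ centralizer (B₀ : Set Γ), f h ∈ DB p r j G B₀) ∧
    ∃ h ∈ H, f h = c

/-- The averaging criterion. -/
theorem CopAct.fixed_le_DB (hA : CopAct p A G) {R j : ℕ} {N B : Subgroup Γ} (hNG : N ≤ G)
    (hNc : ∀ x ∈ N, ∀ y ∈ N, x * y = y * x) (hAN : A ≤ normalizer (N : Set Γ)) (hB : B ≤ A)
    (hgen : N ≤ closure {c | GoodD p R j A G N c}) : N ⊓ centralizer (B : Set Γ) ≤ DB p R j G B := by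
  classical
  letI : CommGroup N := { (inferInstance : Group N) with mul_comm := fun x y => Subtype.ext (hNc x x.2 y y.2) }
  let cj : A → N →* N := fun a => MonoidHom.mk'
    (fun x => ⟨(a : Γ) * x * (a : Γ)⁻¹, (mem_normalizer_iff.1 (hAN a.2) x).1 x.2⟩)
    (fun x y => Subtype.ext (by simp only [Subgroup.coe_mul]; group))
  have hcj : ∀ a b x, cj (a * b) x = cj a (cj b x) := fun a b x =>
    Subtype.ext (by simp [cj, mul_assoc])
  haveI : ∀ S : Subgroup A, Fintype S := fun S => Fintype.ofFinite S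
  let avg : Subgroup A → N →* N := fun S => ∏ s : S, cj s
  have havg : ∀ S x, avg S x = ∏ s : S, cj s x := fun S x => MonoidHom.finsetProd_apply _ _ _
  have hfix : ∀ (S : Subgroup A) (t : S) x, cj t (avg S x) = avg S x := by
    intro S t x
    rw [havg, map_prod]
    exact Fintype.prod_equiv (Equiv.mulLeft t) _ _ fun s => (hcj t s x).symm
  have hcoS : ∀ (S : Subgroup A) (x : Γ), x ∈ N → (orderOf x).Coprime (Nat.card S) := by
    intro S x hx
    refine Nat.Coprime.symm (Nat.Coprime.coprime_dvd_left ?_ ((hA.coprime le_rfl hNG).coprime_dvd_right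
      (orderOf_mk x hx ▸ orderOf_dvd_natCard (⟨x, hx⟩ : N))))
    exact Subgroup.card_subgroup_dvd_card S
  set SB := B.subgroupOf A with hSB
  have hgood : ∀ c, GoodD p R j A G N c → ∀ hc : c ∈ N, ((avg SB ⟨c, hc⟩ : N) : Γ) ∈ DB p R j G B := by
    rintro c ⟨W, H, w, r, f, hWA, hW, hwr, hHG, hWH, hfN, hfm, hfe, hfl, h, hhH, rfl⟩ hc
    set B₀ := B ⊓ W with hB₀
    set S₀ := B₀.subgroupOf A with hS₀
    have hB₀A : B₀ ≤ A := inf_le_right.trans hWA
    have hone : f 1 = 1 := mul_left_cancel (a := f 1) (by rw [← hfm 1 (one_mem H) 1 (one_mem H), one_mul, mul_one])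
    -- the partial average is a value at a fixed point
    have hval : ∀ s : Finset S₀, ∃ z ∈ H, f z = ((∏ i ∈ s, cj (i : A) ⟨f h, hc⟩ : N) : Γ) := by
      intro s
      induction s using Finset.induction_on with
      | empty => exact ⟨1, one_mem H, by rw [Finset.prod_empty, hone]; rfl⟩
      | insert i s his ih =>
        obtain ⟨z, hz, e⟩ := ih
        have hi : ((i : A) : Γ) ∈ W := (show ((i : A) : Γ) ∈ B₀ from i.2).2
        refine ⟨((i : A) : Γ) * h * ((i : A) : Γ)⁻¹ * z,
          mul_mem ((mem_normalizer_iff.1 (hWH hi) h).1 hhH) hz, ?_⟩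
        rw [Finset.prod_insert his, Subgroup.coe_mul, hfm _ ((mem_normalizer_iff.1 (hWH hi) h).1 hhH) _ hz, e,
          hfe _ hi h hhH]
        rfl
    obtain ⟨z, hz, hfz⟩ := hval Finset.univ
    rw [← havg] at hfz
    -- move to a fixed preimage
    let ker : Subgroup Γ :=
      { carrier := {x | x ∈ H ∧ f x = 1}
        one_mem' := ⟨one_mem H, hone⟩
        mul_mem' := fun {x y} hx hy => ⟨mul_mem hx.1 hy.1, by rw [hfm x hx.1 y hy.1, hx.2, hy.2, one_mul]⟩
        inv_mem' := fun {x} hx => ⟨inv_mem hx.1, by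
          have := hfm x hx.1 x⁻¹ (inv_mem hx.1)
          rw [mul_inv_cancel, hone, hx.2, one_mul] at this
          exact this.symm⟩ }
    have hWker : B₀ ≤ normalizer (ker : Set Γ) := by
      refine CfsgLib.Solvable.le_normalizer_of_conj_mem fun w hw x hx =>
        ⟨(mem_normalizer_iff.1 (hWH hw.2) x).1 hx.1, ?_⟩
      rw [hfe w hw.2 x hx.1, hx.2, mul_one, mul_inv_cancel]
    obtain ⟨n, hn, hnz⟩ := hA.lift_fixed hB₀A hHG (inf_le_right.trans hWH) hWker hz fun w hw => by
      refine ⟨mul_mem ((mem_normalizer_iff.1 (hWH hw.2) z).1 hz) (inv_mem hz), ?_⟩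
      have h1 : f (w * z * w⁻¹) = f z := by
        rw [hfe w hw.2 z hz, hfz]
        exact congrArg Subtype.val (hfix S₀ ⟨⟨w, hB₀A hw⟩, hw⟩ _)
      have h2 := hfm _ ((mem_normalizer_iff.1 (hWH hw.2) z).1 hz) z⁻¹ (inv_mem hz)
      rw [commutatorElement_def, h2, h1, ← hfm z hz z⁻¹ (inv_mem hz), mul_inv_cancel, hone]
    set y : N := avg S₀ ⟨f h, hc⟩
    have hy : (y : Γ) ∈ DB p r j G B₀ := by
      have := hfl B₀ inf_le_right (n * z) ⟨mul_mem hn.1 hz, hnz⟩
      rwa [hfm n hn.1 z hz, hn.2.2, one_mul, hfz] at this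
    -- average over `B`
    have hBn : B ≤ normalizer (DB p r j G B₀ : Set Γ) := by
      intro b hb
      rw [mem_normalizer_iff_map_conj_eq, DB, Subgroup.map_iSup]
      exact iSup_congr fun U => mem_normalizer_iff_map_conj_eq.1
        (hA.normalizes_piece' j (U.2.1.trans hB₀A) hB₀A (hB hb))
    have hy' : ((avg SB y : N) : Γ) ∈ DB p r j G B₀ := by
      rw [havg]
      induction (Finset.univ : Finset SB) using Finset.induction_on with
      | empty => rw [Finset.prod_empty]; exact one_mem _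
      | insert i s his ih =>
        rw [Finset.prod_insert his, Subgroup.coe_mul]
        exact mul_mem ((mem_normalizer_iff.1 (hBn (show ((i : A) : Γ) ∈ B from i.2)) _).1 hy) ih
    have hyB : ((avg SB y : N) : Γ) ∈ centralizer (B : Set Γ) := by
      refine mem_centralizer_iff.2 fun b hb => ?_
      have := congrArg Subtype.val (hfix SB ⟨⟨b, hB hb⟩, hb⟩ y)
      exact mul_inv_eq_iff_eq_mul.1 this
    have hcard : Nat.card B ≤ p ^ w * Nat.card B₀ := by
      have h1 := card_mul_card_le hB hWA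
      have h2 := h1.trans (Nat.mul_le_mul_left _ hW)
      rw [← hB₀, ← mul_assoc, mul_comm (Nat.card B₀)] at h2
      exact Nat.le_of_mul_le_mul_right h2 Nat.card_pos
    have hNB : ((avg SB y : N) : Γ) ∈ DB p R j G B :=
      hA.DB_inf_centralizer_le (r := r) hB inf_le_left (fun U _ hU => by
        refine hcard.trans ((Nat.mul_le_mul_left _ hU).trans ?_)
        rw [← mul_assoc, ← pow_add]
        exact Nat.mul_le_mul_right _ (Nat.pow_le_pow_right hp.out.pos hwr)) ⟨hy', hyB⟩
    have hpow : avg SB y = avg SB ⟨f h, hc⟩ ^ Nat.card S₀ := by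
      show avg SB (avg S₀ _) = _
      rw [havg S₀, map_prod, Finset.prod_eq_pow_card (b := avg SB ⟨f h, hc⟩), Finset.card_univ,
        Nat.card_eq_fintype_card]
      intro s _
      have hs : (s : A) ∈ SB := (show ((s : A) : Γ) ∈ B₀ from s.2).1
      rw [havg, havg]
      refine Fintype.prod_equiv (Equiv.mulRight ⟨(s : A), hs⟩) _ _ fun t => ?_
      exact (hcj t s _).symm
    rw [hpow, SubgroupClass.coe_pow] at hNB
    exact mem_of_pow_mem_coprime (hcoS S₀ _ (avg SB ⟨f h, hc⟩).2) hNB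
  intro x hx
  have hall : ∀ y : N, ((avg SB y : N) : Γ) ∈ DB p R j G B := by
    intro y
    have hg : closure {c | GoodD p R j A G N c} ≤ N := (closure_le _).2 fun c hc => by
      obtain ⟨W, H, w, r, f, -, -, -, -, -, hfN, -, -, -, h, hh, rfl⟩ := hc
      exact hfN h hh
    have hmem : (y : Γ) ∈ ((DB p R j G B).comap (N.subtype.comp (avg SB))).map N.subtype := by
      refine (closure_le _).2 ?_ (hgen y.2)
      intro c hc
      exact ⟨⟨c, hg (subset_closure hc)⟩, hgood c hc _, rfl⟩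
    obtain ⟨y', hy', e⟩ := hmem
    rw [← Subtype.ext (show (y' : Γ) = y from e)]
    exact hy'
  have hxx := hall ⟨x, hx.1⟩
  rw [havg, Finset.prod_eq_pow_card (b := (⟨x, hx.1⟩ : N)), SubgroupClass.coe_pow, Finset.card_univ,
    ← Nat.card_eq_fintype_card] at hxx
  · exact mem_of_pow_mem_coprime (hcoS SB x hx.1) hxx
  · intro s _
    refine Subtype.ext ?_
    show ((s : A) : Γ) * x * ((s : A) : Γ)⁻¹ = x
    rw [mem_centralizer_iff.1 hx.2 _ (show ((s : A) : Γ) ∈ B from s.2), mul_inv_cancel_right]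

end CfsgLib.CoprimeClass
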