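import Cfsg.Agent.Lib.CoprimeClass.DerivedBasic

/-!
The fixed points of any subgroup `B` in the `j`-th derived subgroup are generated by the `j`-th derived subgroups of
the fixed points of the subgroups of index at most `p ^ (2 ^ j - 1)` in `B`.
-/

set_option autoImplicit false
set_option linter.unusedSectionVars false
set_option linter.style.haveILetI false

namespace CfsgLib.CoprimeClass

open Subgroup Cfsg
open scoped commutatorElement

universe u

variable {Γ : Type u} [Group Γ] [Finite Γ] {p : ℕ} [hp : Fact p.Prime] {A G : Subgroup Γ}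

/-- The conclusion of the generation theorem. -/
def GenAt (p j : ℕ) (A G : Subgroup Γ) : Prop :=
  ∀ B ≤ A, dser G j ⊓ centralizer (B : Set Γ) ≤ DB p (2 ^ j - 1) j G B

/-- Elements of the derived subgroups of fixed points of subgroups of index at most `p ^ 2 ^ j`. -/
def dgens (p j : ℕ) (A G : Subgroup Γ) : Set Γ :=
  {y | ∃ U, U ≤ A ∧ Nat.card A ≤ p ^ 2 ^ j * Nat.card U ∧ y ∈ dser (fixH G U) j}

theorem CopAct.dser_le_closure (hA : CopAct p A G) {j : ℕ} (h : GenAt p j A G) :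
    dser G j ≤ closure (dgens p j A G) := by
  refine hA.le_of_hyps (dser_le_self G j) (fun a ha => conj_mem_dser (hA.le_normalizer ha) j) fun B hB => ?_
  refine (h B hB.1).trans (iSup_le fun U x hx => subset_closure ⟨U.1, U.2.1.trans hB.1, ?_, hx.1⟩)
  refine hB.2.trans ((Nat.mul_le_mul_left _ U.2.2).trans ?_)
  rw [← mul_assoc, ← pow_succ', Nat.sub_add_cancel Nat.one_le_two_pow]

/-- Chains of commutators with generators, linear modulo the derived subgroup of `P`. -/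
def Chain (p i : ℕ) (A G P : Subgroup Γ) (φ : Γ → Γ) : Prop :=
  ∃ W, W ≤ A ∧ Nat.card A ≤ p ^ (2 ^ i - 1) * Nat.card W ∧
    (∀ v ∈ W, ∀ x, φ (v * x * v⁻¹) = v * φ x * v⁻¹) ∧ (∀ x ∈ P, φ x ∈ P) ∧
    (∀ a ∈ P, ∀ b ∈ P, (φ a * φ b)⁻¹ * φ (a * b) ∈ ⁅P, P⁆) ∧
    (∀ B₀ ≤ W, ∀ x ∈ P ⊓ centralizer (B₀ : Set Γ), φ x ∈ dser (fixH G B₀) i)

theorem conj_fixH {U : Subgroup Γ} {i : ℕ} {y : Γ} (hy : y ∈ dser (fixH G U) i) {v : Γ} (hv : v ∈ U) :
    v * y * v⁻¹ = y :=
  conj_fix (show y ∈ centralizer (U : Set Γ) from (dser_le_self _ i hy).2) hv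

theorem CopAct.le_chain (hA : CopAct p A G) {P : Subgroup Γ} [P.Normal] (hPG : P ≤ G) :
    ∀ i, (∀ i' < i, GenAt p i' A G) → (∀ i' < i, P ≤ ⁅P, dser G i'⁆) →
      P ≤ closure {c | ∃ φ, Chain p i A G P φ ∧ ∃ x ∈ P, φ x = c} ⊔ ⁅P, P⁆ := by
  intro i
  induction i with
  | zero =>
    intro _ _ x hx
    refine mem_sup_left (subset_closure ⟨id, ⟨A, le_rfl, by simp, fun _ _ _ => rfl, fun y hy => hy,
      fun a _ b _ => by simp, fun B₀ _ y hy => ⟨hPG hy.1, hy.2⟩⟩, x, hx, rfl⟩)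
  | succ i ih =>
    intro hgen hperf
    set T := closure {c | ∃ φ, Chain p (i + 1) A G P φ ∧ ∃ x ∈ P, φ x = c} ⊔ ⁅P, P⁆ with hT
    refine (hperf i (Nat.lt_succ_self i)).trans ((commutator_le_closure_gens ‹_›
      (hA.dser_le_closure (hgen i (Nat.lt_succ_self i)))).trans ((closure_le _).2 ?_))
    rintro _ ⟨h, hh, y, ⟨U, hUA, hU, hy⟩, rfl⟩
    have hTP : T ≤ P := sup_le ((closure_le _).2 (by
      rintro _ ⟨φ, ⟨W, -, -, -, hφP, -⟩, x, hx, rfl⟩; exact hφP x hx)) (commutator_le_self P)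
    let Z := finSub {a | a ∈ P ∧ ⁅a, y⁆ ∈ T} ⟨one_mem _, by rw [commutatorElement_one_left]; exact one_mem _⟩
      (fun a ha b hb => ⟨mul_mem ha.1 hb.1, by
        rw [show ⁅a * b, y⁆ = ⁅a, ⁅b, y⁆⁆ * ⁅b, y⁆ * ⁅a, y⁆ by simp only [commutatorElement_def]; group]
        exact mul_mem (mul_mem (mem_sup_right (commutator_mem_commutator ha.1 (hTP hb.2))) hb.2) ha.2⟩)
    refine ((ih (fun i' hi' => hgen i' (hi'.trans (Nat.lt_succ_self i)))
      (fun i' hi' => hperf i' (hi'.trans (Nat.lt_succ_self i)))).trans (show _ ≤ Z from sup_le ?_ ?_) hh).2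
    · refine (closure_le Z).2 ?_
      rintro _ ⟨φ, ⟨W, hWA, hW, hφe, hφP, hφm, hφd⟩, x, hx, rfl⟩
      refine mem_finSub.2 ⟨hφP x hx, mem_sup_left (subset_closure ⟨fun z => ⁅φ z, y⁆,
        ⟨W ⊓ U, inf_le_left.trans hWA, ?_, fun v hv z => ?_, fun z hz => ?_, fun a ha b hb => ?_,
          fun B₀ hB₀ z hz => ?_⟩, x, hx, rfl⟩)⟩
      · have h1 := (CoB.inf (p := p) (⟨hWA, hW⟩ : CoB p _ A W) (⟨hUA, hU⟩ : CoB p _ A U)).2
        rwa [show 2 ^ i - 1 + 2 ^ i = 2 ^ (i + 1) - 1 by rw [pow_succ]; have := @Nat.one_le_two_pow i; omega] at h1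
      · show ⁅φ (v * z * v⁻¹), y⁆ = v * ⁅φ z, y⁆ * v⁻¹
        rw [hφe v hv.1 z]
        calc ⁅v * φ z * v⁻¹, y⁆ = ⁅v * φ z * v⁻¹, v * y * v⁻¹⁆ := by rw [conj_fixH hy hv.2]
          _ = _ := by simp only [commutatorElement_def]; group
      · exact commutator_le_left P ⊤ (commutator_mem_commutator (hφP z hz) (mem_top y))
      · have hm : ∀ g ∈ P, ⁅g, y⁆ ∈ P := fun g hg =>
          commutator_le_left P ⊤ (commutator_mem_commutator hg (mem_top y))
        set π := QuotientGroup.mk' (⁅P, P⁆ : Subgroup Γ) with hπ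
        have hcomm : ∀ u ∈ P, ∀ v ∈ P, π u * π v = π v * π u := fun u hu v hv => by
          rw [← commutatorElement_eq_one_iff_mul_comm, ← map_commutatorElement]
          exact (QuotientGroup.eq_one_iff _).2 (commutator_mem_commutator hu hv)
        have e : π (φ (a * b)) = π (φ a) * π (φ b) := by
          rw [← map_mul]; exact (QuotientGroup.eq.2 (hφm a ha b hb)).symm
        refine (QuotientGroup.eq_one_iff _).1 ?_
        show π ((⁅φ a, y⁆ * ⁅φ b, y⁆)⁻¹ * ⁅φ (a * b), y⁆) = 1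
        rw [map_mul, map_inv, inv_mul_eq_one, map_commutatorElement π (φ (a * b)), e, ← map_mul π (φ a),
          ← map_commutatorElement, show ⁅φ a * φ b, y⁆ = φ a * ⁅φ b, y⁆ * (φ a)⁻¹ * ⁅φ a, y⁆ by
            simp only [commutatorElement_def]; group]
        simp only [map_mul, map_inv]
        rw [hcomm _ (hφP a ha) _ (hm _ (hφP b hb)), mul_inv_cancel_right,
          hcomm _ (hm _ (hφP b hb)) _ (hm _ (hφP a ha))]
      · exact commutator_mem_commutator (hφd B₀ (hB₀.trans inf_le_left) z hz)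
          (dser_mono (inf_le_inf_left _ (centralizer_le (hB₀.trans inf_le_right))) i hy)
    · exact fun z hz => mem_finSub.2 ⟨commutator_le_self P hz, mem_sup_right
        (commutator_le_left ⁅P, P⁆ ⊤ (commutator_mem_commutator hz (mem_top y)))⟩

/-- An abelian normal subgroup of the next derived subgroup on which the averaging criterion works. -/
theorem CopAct.exists_goodD (hA : CopAct p A G) [Group.IsSolvable G] {j : ℕ} (hgen : ∀ i ≤ j, GenAt p i A G)
    (hne : dser G (j + 1) ≠ ⊥) :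
    ∃ N : Subgroup Γ, N.Normal ∧ N ≠ ⊥ ∧ N ≤ G ∧ (∀ x ∈ N, ∀ y ∈ N, x * y = y * x) ∧
      N ≤ closure {c | GoodD p (2 ^ (j + 1) - 1) (j + 1) A G N c} := by
  classical
  haveI := hA.normal
  set R := dser G j with hR
  haveI hRn : R.Normal := dser_normal G j
  have hRG : R ≤ G := dser_le_self G j
  obtain ⟨P, ⟨hPn, hPR, hPne⟩, hPmin⟩ := Set.exists_min_image
    {P : Subgroup Γ | P.Normal ∧ P ≤ R ∧ ⁅P, R⁆ ≠ ⊥} (fun P => Nat.card P) (Set.toFinite _) ⟨R, hRn, le_rfl, hne⟩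
  haveI := hPn
  have hPG := hPR.trans hRG
  have hcent : ∀ Z : Subgroup Γ, Z.Normal → Z ≤ P → Z ≠ P → ⁅Z, R⁆ = ⊥ := fun Z hZn hZP hZ => by
    by_contra h
    exact hZ (eq_of_le_of_card_ge hZP (hPmin Z ⟨hZn, hZP.trans hPR, h⟩))
  set N₁ := ⁅P, R⁆ with hN₁
  have hN₁P : N₁ ≤ P := commutator_le_left P R
  have hAn : ∀ S : Subgroup Γ, S.Normal → A ≤ normalizer (S : Set Γ) := fun S hS => by
    haveI := hS
    rw [normalizer_eq_top]; exact le_top
  -- the first criterion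
  have hcase1 : (∀ u ∈ P, ∀ n ∈ N₁, u * n = n * u) →
      ∃ N : Subgroup Γ, N.Normal ∧ N ≠ ⊥ ∧ N ≤ G ∧ (∀ x ∈ N, ∀ y ∈ N, x * y = y * x) ∧
        N ≤ closure {c | GoodD p (2 ^ (j + 1) - 1) (j + 1) A G N c} := by
    intro hc
    refine ⟨N₁, inferInstance, hPne, hN₁P.trans hPG, fun x hx y hy => hc x (hN₁P hx) y hy, ?_⟩
    refine (commutator_le_closure_gens hPn (hA.dser_le_closure (hgen j le_rfl))).trans (closure_mono ?_)
    rintro _ ⟨h, hh, y, ⟨U, hUA, hU, hy⟩, rfl⟩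
    have hyR : y ∈ R := dser_mono inf_le_left j hy
    refine ⟨U, P, 2 ^ j, 2 ^ j - 1, fun x => ⁅x, y⁆, hUA, hU,
      by rw [pow_succ]; have := @Nat.one_le_two_pow j; omega, hPG, hUA.trans (hAn P hPn),
      fun x hx => commutator_mem_commutator hx hyR, fun a ha b hb => ?_, fun v hv x _ => ?_,
      fun B₀ hB₀ z hz => ?_, h, hh, rfl⟩
    · show ⁅a * b, y⁆ = ⁅a, y⁆ * ⁅b, y⁆
      have hb' := commutator_mem_commutator hb hyR
      rw [show ⁅a * b, y⁆ = a * ⁅b, y⁆ * a⁻¹ * ⁅a, y⁆ by simp only [commutatorElement_def]; group,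
        hc a ha _ hb', mul_inv_cancel_right]
      exact hc _ (hN₁P hb') _ (commutator_mem_commutator ha hyR)
    · show ⁅v * x * v⁻¹, y⁆ = v * ⁅x, y⁆ * v⁻¹
      calc ⁅v * x * v⁻¹, y⁆ = ⁅v * x * v⁻¹, v * y * v⁻¹⁆ := by rw [conj_fixH hy hv]
        _ = _ := by simp only [commutatorElement_def]; group
    · show ⁅z, y⁆ ∈ DB p (2 ^ j - 1) (j + 1) G B₀
      set E := DB p (2 ^ j - 1) (j + 1) G B₀ with hE
      have hEn : G ⊓ centralizer (B₀ : Set Γ) ≤ normalizer (E : Set Γ) := by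
        intro g hg
        rw [mem_normalizer_iff_map_conj_eq, hE, DB, Subgroup.map_iSup]
        exact iSup_congr fun U' => mem_normalizer_iff_map_conj_eq.1
          (hA.normalizes_piece (j + 1) U'.2.1 hg.2)
      let S := finSub {g | g ∈ G ⊓ centralizer (B₀ : Set Γ) ∧ ⁅g, y⁆ ∈ E}
        ⟨one_mem _, by rw [commutatorElement_one_left]; exact one_mem _⟩
        (fun a ha b hb => ⟨mul_mem ha.1 hb.1, by
          rw [show ⁅a * b, y⁆ = a * ⁅b, y⁆ * a⁻¹ * ⁅a, y⁆ by simp only [commutatorElement_def]; group]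
          exact mul_mem ((mem_normalizer_iff.1 (hEn ha.1) _).1 hb.2) ha.2⟩)
      refine ((hgen j le_rfl B₀ (hB₀.trans hUA)).trans (show _ ≤ S from iSup_le fun U' g hg => ?_)
        ⟨hPR hz.1, hz.2⟩).2
      refine mem_finSub.2 ⟨⟨(dser_le_self _ j hg.1).1, hg.2⟩, le_DB U'.2.1 U'.2.2 ⟨commutator_mem_commutator hg.1
        (dser_mono (inf_le_inf_left _ (centralizer_le (U'.2.1.trans hB₀))) j hy), ?_⟩⟩
      have hyB : y ∈ centralizer (B₀ : Set Γ) := centralizer_le hB₀ (dser_le_self _ j hy).2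
      rw [commutatorElement_def]
      exact Subgroup.mul_mem _ (Subgroup.mul_mem _ (Subgroup.mul_mem _ hg.2 hyB) (Subgroup.inv_mem _ hg.2))
        (Subgroup.inv_mem _ hyB)
  by_cases hPeq : N₁ = P
  swap
  · have h := commutator_eq_bot_iff_le_centralizer.1 (hcent N₁ inferInstance hN₁P hPeq)
    exact hcase1 fun u hu n hn => mem_centralizer_iff.1 (h hn) u (hPR hu)
  by_cases hPab : ⁅P, P⁆ = ⊥
  · have h := commutator_eq_bot_iff_le_centralizer.1 hPab
    exact hcase1 fun u hu n hn => mem_centralizer_iff.1 (h (hN₁P hn)) u hu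
  -- the second criterion
  set N := ⁅P, P⁆ with hN
  have hNlt : N ≠ P := by
    intro he
    haveI : Group.IsSolvable P := CfsgLib.Solvable.isSolvable_of_le ‹_› hPG
    haveI : Nontrivial P := (nontrivial_iff_ne_bot P).2 fun h0 => hPab (by rw [hN, h0, commutator_bot_left])
    refine (Group.IsSolvable.commutator_lt_top_of_nontrivial ↥P).ne ?_
    apply map_injective P.subtype_injective
    rw [map_subtype_commutator, ← hN, he, ← MonoidHom.range_eq_map, range_subtype]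
  have hNP : N ≤ P := commutator_le_self P
  have hNc : ∀ u ∈ P, ∀ n ∈ N, u * n = n * u := fun u hu n hn =>
    mem_centralizer_iff.1 (commutator_eq_bot_iff_le_centralizer.1 (hcent N inferInstance hNP hNlt) hn) u (hPR hu)
  refine ⟨N, inferInstance, hPab, hNP.trans hPG, fun x hx y hy => hNc x (hNP hx) y hy, ?_⟩
  have hperf : ∀ i' < j, P ≤ ⁅P, dser G i'⁆ := fun i' hi' =>
    hPeq.ge.trans (commutator_mono le_rfl (dser_antitone G hi'.le))
  have hch := hA.le_chain hPG j (fun i' hi' => hgen i' hi'.le) hperf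
  set T := closure {c | GoodD p (2 ^ (j + 1) - 1) (j + 1) A G N c} with hT
  -- bilinearity
  have hlin : ∀ c ∈ P, ∀ u ∈ P, ∀ v ∈ P, ⁅c, u * v⁆ = ⁅c, u⁆ * ⁅c, v⁆ := by
    intro c hc u hu v hv
    rw [show ⁅c, u * v⁆ = ⁅c, u⁆ * (u * ⁅c, v⁆ * u⁻¹) by simp only [commutatorElement_def]; group,
      hNc u hu _ (commutator_mem_commutator hc hv), mul_inv_cancel_right]
  have hlin' : ∀ c ∈ P, ∀ d ∈ P, ∀ u ∈ P, ⁅c * d, u⁆ = ⁅c, u⁆ * ⁅d, u⁆ := by
    intro c hc d hd u hu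
    rw [show ⁅c * d, u⁆ = c * ⁅d, u⁆ * c⁻¹ * ⁅c, u⁆ by simp only [commutatorElement_def]; group,
      hNc c hc _ (commutator_mem_commutator hd hu), mul_inv_cancel_right]
    exact (hNc _ (hNP (commutator_mem_commutator hd hu)) _ (commutator_mem_commutator hc hu))
  have hzero : ∀ c ∈ P, ∀ n ∈ N, ⁅c, n⁆ = 1 ∧ ⁅n, c⁆ = 1 := fun c hc n hn =>
    ⟨commutatorElement_eq_one_iff_mul_comm.2 (hNc c hc n hn),
      commutatorElement_eq_one_iff_mul_comm.2 (hNc c hc n hn).symm⟩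
  have hright : ∀ c ∈ P, (∃ W₁, W₁ ≤ A ∧ Nat.card A ≤ p ^ 2 ^ j * Nat.card W₁ ∧ c ∈ dser (fixH G W₁) j) →
      ∀ b ∈ P, ⁅c, b⁆ ∈ T := by
    rintro c hc ⟨W₁, hW₁A, hW₁, hcd⟩
    let S := finSub {b | b ∈ P ∧ ⁅c, b⁆ ∈ T} ⟨one_mem _, by rw [commutatorElement_one_right]; exact one_mem _⟩
      (fun a ha b hb => ⟨mul_mem ha.1 hb.1, by rw [hlin c hc a ha.1 b hb.1]; exact mul_mem ha.2 hb.2⟩)
    intro b hb
    refine ((hch.trans (show _ ≤ S from sup_le ((closure_le S).2 ?_) fun n hn =>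
      mem_finSub.2 ⟨hNP hn, by rw [(hzero c hc n hn).1]; exact one_mem _⟩)) hb).2
    rintro _ ⟨φ, ⟨W, hWA, hW, hφe, hφP, hφm, hφd⟩, x, hx, rfl⟩
    refine mem_finSub.2 ⟨hφP x hx, subset_closure ⟨W₁ ⊓ W, P, 2 ^ j + (2 ^ j - 1), 0, fun z => ⁅c, φ z⁆,
      inf_le_left.trans hW₁A, (CoB.inf (p := p) (A := A) (i := 2 ^ j) (U := W₁) ⟨hW₁A, hW₁⟩ ⟨hWA, hW⟩).2,
      by rw [pow_succ]; have := @Nat.one_le_two_pow j; omega, hPG,
      inf_le_left.trans (hW₁A.trans (hAn P hPn)), fun z hz => commutator_mem_commutator hc (hφP z hz),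
      fun a ha b hb => ?_, fun v hv z _ => ?_, fun B₀ hB₀ z hz => ?_, x, hx, rfl⟩⟩
    · show ⁅c, φ (a * b)⁆ = ⁅c, φ a⁆ * ⁅c, φ b⁆
      have hn := hφm a ha b hb
      rw [← mul_inv_cancel_left (φ a * φ b) (φ (a * b)), hlin c hc _ (mul_mem (hφP a ha) (hφP b hb)) _ (hNP hn),
        (hzero c hc _ hn).1, mul_one, hlin c hc _ (hφP a ha) _ (hφP b hb)]
    · show ⁅c, φ (v * z * v⁻¹)⁆ = v * ⁅c, φ z⁆ * v⁻¹
      rw [hφe v hv.2 z]
      calc ⁅c, v * φ z * v⁻¹⁆ = ⁅v * c * v⁻¹, v * φ z * v⁻¹⁆ := by rw [conj_fixH hcd hv.1]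
        _ = _ := by simp only [commutatorElement_def]; group
    · refine le_DB (U := B₀) le_rfl (by simp) ⟨?_, ?_⟩
      · exact commutator_mem_commutator
          (dser_mono (inf_le_inf_left _ (centralizer_le (hB₀.trans inf_le_left))) j hcd)
          (hφd B₀ (hB₀.trans inf_le_right) z hz)
      · have h1 : c ∈ centralizer (B₀ : Set Γ) := centralizer_le (hB₀.trans inf_le_left) (dser_le_self _ j hcd).2
        have h2 : φ z ∈ centralizer (B₀ : Set Γ) := (dser_le_self _ j (hφd B₀ (hB₀.trans inf_le_right) z hz)).2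
        show ⁅c, φ z⁆ ∈ _
        rw [commutatorElement_def]
        exact Subgroup.mul_mem _ (Subgroup.mul_mem _ (Subgroup.mul_mem _ h1 h2) (Subgroup.inv_mem _ h1))
          (Subgroup.inv_mem _ h2)
  conv_lhs => rw [hN]
  rw [commutator_le]
  intro a ha b hb
  let S := finSub {c | c ∈ P ∧ ⁅c, b⁆ ∈ T} ⟨one_mem _, by rw [commutatorElement_one_left]; exact one_mem _⟩
    (fun c hc d hd => ⟨mul_mem hc.1 hd.1, by rw [hlin' c hc.1 d hd.1 b hb]; exact mul_mem hc.2 hd.2⟩)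
  refine ((hch.trans (show _ ≤ S from sup_le ((closure_le S).2 ?_) fun n hn =>
    mem_finSub.2 ⟨hNP hn, by rw [(hzero b hb n hn).2]; exact one_mem _⟩)) ha).2
  rintro _ ⟨φ, ⟨W, hWA, hW, hφe, hφP, hφm, hφd⟩, x, hx, rfl⟩
  refine mem_finSub.2 ⟨hφP x hx, ?_⟩
  let S' := finSub {z | z ∈ P ∧ ⁅φ z, b⁆ ∈ T}
    ⟨one_mem _, by
      have h11 := hφm 1 (one_mem P) 1 (one_mem P)
      rw [one_mul, mul_inv_rev, inv_mul_cancel_right] at h11
      have h1 : φ 1 ∈ N := by simpa using inv_mem h11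
      rw [(hzero b hb _ h1).2]; exact one_mem _⟩
    (fun u hu v hv => ⟨mul_mem hu.1 hv.1, by
      have hn := hφm u hu.1 v hv.1
      rw [← mul_inv_cancel_left (φ u * φ v) (φ (u * v)), hlin' _ (mul_mem (hφP u hu.1) (hφP v hv.1)) _ (hNP hn) b hb,
        (hzero b hb _ hn).2, mul_one, hlin' _ (hφP u hu.1) _ (hφP v hv.1) b hb]
      exact mul_mem hu.2 hv.2⟩)
  refine ((hA.le_of_hyps hPG (hAn P hPn) fun Bh hBh z hz => ?_ : P ≤ S') hx).2
  refine mem_finSub.2 ⟨hz.1, hright _ (hφP z hz.1) ⟨W ⊓ Bh, inf_le_left.trans hWA, ?_,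
    hφd _ inf_le_left z ⟨hz.1, centralizer_le inf_le_right hz.2⟩⟩ b hb⟩
  have h1 := (CoB.inf (p := p) (A := A) (U := W) ⟨hWA, hW⟩ hBh.coB).2
  rwa [Nat.sub_add_cancel Nat.one_le_two_pow] at h1

/-- The generation theorem for the derived series. -/
theorem genD : ∀ (j n : ℕ) (Γ : Type u) [Group Γ] [Finite Γ] (A G : Subgroup Γ),
    Nat.card G = n → CopAct p A G → Group.IsSolvable G → GenAt p j A G := by
  intro j
  induction j using Nat.strong_induction_on with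
  | _ j ihj =>
  intro n
  induction n using Nat.strong_induction_on with
  | _ n ihn =>
  intro Γ _ _ A G hn hA hsol B hB
  rcases Nat.eq_zero_or_eq_succ_pred j with hj | hj
  · subst hj
    exact fun x hx => le_DB le_rfl (by simp) ⟨⟨hx.1, hx.2⟩, hx.2⟩
  rw [hj] at ihj ihn ⊢
  generalize j.pred = i at ihj ihn ⊢
  by_cases hbot : dser G (i + 1) = ⊥
  · intro x hx
    rw [hbot] at hx
    rw [Subgroup.mem_bot.1 hx.1]; exact one_mem _
  haveI := hsol
  obtain ⟨N, hNn, hNne, hNG, hNab, hNgen⟩ := hA.exists_goodD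
    (fun i' hi' => ihj i' (Nat.lt_succ_of_le hi') _ Γ A G rfl hA hsol) hbot
  haveI := hNn
  intro x hx
  set π := QuotientGroup.mk' N with hπ
  set R := 2 ^ (i + 1) - 1
  have hq : GenAt p (i + 1) (A.map π) (G.map π) := ihn _ (hn ▸ card_map_lt hNG hNne) _ _ _ rfl hA.quot
    (Group.isSolvable_of_surjective (f := π.subgroupMap G) (π.subgroupMap_surjective G))
  have hle : DB p R (i + 1) (G.map π) (B.map π) ≤ (DB p R (i + 1) G B).map π := by
    refine iSup_le fun U' => ?_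
    set U := B ⊓ U'.1.comap π with hU
    have hUm : U.map π = U'.1 := by
      refine le_antisymm ((map_mono inf_le_right).trans (map_comap_le π _)) fun v hv => ?_
      obtain ⟨b, hb, rfl⟩ := U'.2.1 hv
      exact ⟨b, ⟨hb, hv⟩, rfl⟩
    have hUA : U ≤ A := inf_le_left.trans hB
    have hUc : Nat.card B ≤ p ^ R * Nat.card U := by
      rw [← hA.card_map_eq hNG hUA, hUm, ← hA.card_map_eq hNG hB]; exact U'.2.2
    have hfix : fixH (G.map π) U'.1 = (fixH G U).map π := by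
      rw [← hUm]
      exact le_antisymm (hA.map_inf_centralizer hUA le_rfl (hUA.trans hA.le_normalizer))
        (map_inf_centralizer_le π G U)
    rw [piece, hfix, ← map_dser]
    refine (hA.map_inf_centralizer hB ((dser_le_self _ _).trans inf_le_left)
      fun b hb => conj_mem_dser (hA.le_normalizer_fixH hUA (hB hb)) _).trans (map_mono ?_)
    exact le_DB inf_le_left hUc
  have hx' : π x ∈ dser (G.map π) (i + 1) ⊓ centralizer (B.map π : Set (Γ ⧸ N)) := by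
    rw [← map_dser]
    exact map_inf_centralizer_le π _ B ⟨x, hx, rfl⟩
  obtain ⟨y, hy, hxy⟩ := hle (hq _ (map_mono hB) hx')
  rw [← mul_inv_cancel_left y x]
  refine mul_mem hy (hA.fixed_le_DB hNG hNab (by rw [normalizer_eq_top]; exact le_top) hB hNgen
    ⟨QuotientGroup.eq.1 hxy, ?_⟩)
  exact Subgroup.mul_mem _ (Subgroup.inv_mem _ (DB_le _ _ B hy).2) hx.2

end CfsgLib.CoprimeClass
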