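import Cfsg.Agent.Lib.CoprimeClass.LieNil

/-!
An elementary abelian group of automorphisms of a Lie ring: if the fixed points of every subgroup of index at
most `p` act nilpotently, so does everything.
-/

set_option autoImplicit false
set_option linter.unusedSectionVars false
set_option linter.style.haveILetI false

namespace CfsgLib.CoprimeClass

open CfsgLib.PGroup.Kreknin

universe u

variable {L : Type u} [AddCommGroup L] (β : Bracket L) {A : Type*} [Group A] [Finite A]
  (ρ : A →* AddMonoid.End L)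

/-- Fixed points of a subgroup. -/
def fixL (E : Subgroup A) : AddSubgroup L where
  carrier := {v | ∀ e ∈ E, ρ e v = v}
  zero_mem' := fun e _ => map_zero (ρ e)
  add_mem' := fun {u v} hu hv e he => (map_add (ρ e) u v).trans (by rw [hu e he, hv e he])
  neg_mem' := fun {u} hu e he => (map_neg (ρ e) u).trans (by rw [hu e he])

theorem mem_fixL {E : Subgroup A} {v : L} : v ∈ fixL ρ E ↔ ∀ e ∈ E, ρ e v = v := Iff.rfl

theorem act_mul (a b : A) (v : L) : ρ (a * b) v = ρ a (ρ b v) := by rw [map_mul]; rfl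

theorem act_one (v : L) : ρ 1 v = v := by rw [map_one]; rfl

/-- The elements fixing a vector. -/
def stabL (v : L) : Subgroup A where
  carrier := {a | ρ a v = v}
  one_mem' := act_one ρ v
  mul_mem' := fun {a b} ha hb => (act_mul ρ a b v).trans (by rw [hb, ha])
  inv_mem' := fun {a} ha => by
    show ρ a⁻¹ v = v
    conv_lhs => rw [← (show ρ a v = v from ha), ← act_mul, inv_mul_cancel, act_one]

theorem fixL_sup {E F : Subgroup A} {v : L} (hE : v ∈ fixL ρ E) (hF : v ∈ fixL ρ F) : v ∈ fixL ρ (E ⊔ F) :=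
  fun _ he => (sup_le (show E ≤ stabL ρ v from hE) (show F ≤ stabL ρ v from hF)) he

variable {p : ℕ} [hp : Fact p.Prime]

theorem mul_card_le_of_lt (hexp : ∀ a : A, a ^ p = 1) {E E' : Subgroup A} (h : E < E') :
    p * Nat.card E ≤ Nat.card E' := by
  have hA : IsPGroup p A := fun a => ⟨1, by rw [pow_one]; exact hexp a⟩
  obtain ⟨i, hi⟩ := IsPGroup.iff_card.1 (hA.to_subgroup E)
  obtain ⟨j, hj⟩ := IsPGroup.iff_card.1 (hA.to_subgroup E')
  have hlt : Nat.card E < Nat.card E' :=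
    lt_of_le_of_ne (Subgroup.card_le_of_le h.le) fun he => h.ne (Subgroup.eq_of_le_of_card_ge h.le he.ge)
  rw [hi, hj] at hlt ⊢
  rw [← pow_succ']
  exact Nat.pow_le_pow_right hp.out.pos ((Nat.pow_lt_pow_iff_right hp.out.one_lt).1 hlt)

theorem card_sup_zpowers_le (hcomm : ∀ a b : A, a * b = b * a) (hexp : ∀ a : A, a ^ p = 1)
    (E : Subgroup A) (b : A) : Nat.card ↥(E ⊔ Subgroup.zpowers b) ≤ p * Nat.card E := by
  haveI : E.Normal := ⟨fun n hn g => by rwa [hcomm g n, mul_inv_cancel_right]⟩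
  let f : E × Subgroup.zpowers b → ↥(E ⊔ Subgroup.zpowers b) := fun x =>
    ⟨x.1 * x.2, mul_mem (Subgroup.mem_sup_left x.1.2) (Subgroup.mem_sup_right x.2.2)⟩
  have hf : Function.Surjective f := by
    rintro ⟨g, hg⟩
    obtain ⟨x, hx, y, hy, rfl⟩ := Subgroup.mem_sup_of_normal_left.1 hg
    exact ⟨(⟨x, hx⟩, ⟨y, hy⟩), rfl⟩
  refine (Nat.card_le_card_of_surjective f hf).trans ?_
  rw [Nat.card_prod, Nat.card_zpowers, mul_comm]
  exact Nat.mul_le_mul_right _ (Nat.le_of_dvd hp.out.pos (orderOf_dvd_of_pow_eq_one (hexp b)))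

/-- The sum over the cyclic group generated by `g`. -/
noncomputable def normL (p : ℕ) [NeZero p] (g : A) (v : L) : L := ∑ k : ZMod p, ρ (g ^ k.val) v

theorem normL_fixed (hexp : ∀ a : A, a ^ p = 1) (g : A) (v : L) :
    normL ρ p g v ∈ fixL ρ (Subgroup.zpowers g) := by
  refine show Subgroup.zpowers g ≤ stabL ρ (normL ρ p g v) from Subgroup.zpowers_le.2 ?_
  show ρ g (∑ k : ZMod p, ρ (g ^ k.val) v) = _
  rw [map_sum]
  refine Fintype.sum_equiv (Equiv.addRight 1) _ _ fun k => ?_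
  rw [← act_mul, ← pow_succ', Equiv.coe_addRight, ZMod.val_add, ZMod.val_one,
    ← pow_eq_pow_mod _ (hexp g)]

theorem normL_mem (hcomm : ∀ a b : A, a * b = b * a) (hexp : ∀ a : A, a ^ p = 1) {D : AddSubgroup L}
    (hD : ∀ a : A, ∀ u ∈ D, ρ a u ∈ D) {E : Subgroup A} {v : L} (hv : v ∈ D) (hvE : v ∈ fixL ρ E) (g : A) :
    normL ρ p g v ∈ D ∧ normL ρ p g v ∈ fixL ρ (E ⊔ Subgroup.zpowers g) := by
  refine ⟨sum_mem fun k _ => hD _ v hv, fixL_sup ρ (fun e he => ?_) (normL_fixed ρ hexp g v)⟩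
  show ρ e (∑ k : ZMod p, ρ (g ^ k.val) v) = _
  rw [map_sum]
  refine Finset.sum_congr rfl fun k _ => ?_
  rw [← act_mul, hcomm, act_mul, hvE e he]

/-- An invariant subgroup is generated by elements fixed by subgroups of index at most `p`. -/
theorem span_fix (hcomm : ∀ a b : A, a * b = b * a) (hexp : ∀ a : A, a ^ p = 1) {n : ℕ} (hpn : p.Coprime n)
    (hn : ∀ v : L, n • v = 0) {D : AddSubgroup L} (hD : ∀ a : A, ∀ u ∈ D, ρ a u ∈ D) :
    D ≤ AddSubgroup.closure ((D : Set L) ∩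
      ⋃ B : {B : Subgroup A // Nat.card A ≤ p * Nat.card B}, (fixL ρ B.1 : Set L)) := by
  set T := AddSubgroup.closure ((D : Set L) ∩
      ⋃ B : {B : Subgroup A // Nat.card A ≤ p * Nat.card B}, (fixL ρ B.1 : Set L)) with hT
  suffices key : ∀ m, ∀ E : Subgroup A, Nat.card A - Nat.card E = m → ∀ v ∈ D, v ∈ fixL ρ E → v ∈ T from
    fun v hv => key _ ⊥ rfl v hv fun e he => by rw [Subgroup.mem_bot.1 he]; exact act_one ρ v
  intro m
  induction m using Nat.strong_induction_on with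
  | _ m ih =>
  intro E hm v hv hvE
  by_cases hE : Nat.card A ≤ p * Nat.card E
  · exact AddSubgroup.subset_closure ⟨hv, Set.mem_iUnion.2 ⟨⟨E, hE⟩, hvE⟩⟩
  have hlt' : ∀ g, g ∉ E → ∀ u ∈ D, u ∈ fixL ρ (E ⊔ Subgroup.zpowers g) → u ∈ T := by
    intro g hg u hu hu'
    have hlt : E < E ⊔ Subgroup.zpowers g :=
      lt_of_le_of_ne le_sup_left fun h => hg (h ▸ Subgroup.mem_sup_right (Subgroup.mem_zpowers g))
    have h1 := mul_card_le_of_lt hexp hlt
    have h2 := Subgroup.card_le_card_group (E ⊔ Subgroup.zpowers g)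
    have h3 : 2 * Nat.card E ≤ p * Nat.card E := Nat.mul_le_mul_right _ hp.out.two_le
    have h4 := Nat.card_pos (α := E)
    exact ih _ (by omega) _ rfl u hu hu'
  obtain ⟨b, hb⟩ : ∃ b, b ∉ E := by
    by_contra h
    push Not at h
    refine hE ((Nat.le_mul_of_pos_left _ hp.out.pos).trans' ?_)
    exact Nat.card_le_card_of_surjective (fun e : E => (e : A)) fun a => ⟨⟨a, h a⟩, rfl⟩
  obtain ⟨a, ha⟩ : ∃ a, a ∉ E ⊔ Subgroup.zpowers b := by
    by_contra h
    push Not at h
    refine hE ((card_sup_zpowers_le hcomm hexp E b).trans' ?_)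
    exact Nat.card_le_card_of_surjective (fun e : ↥(E ⊔ Subgroup.zpowers b) => (e : A))
      fun a => ⟨⟨a, h a⟩, rfl⟩
  have hkey : ∑ i : ZMod p, normL ρ p (a * b ^ i.val) v =
      p • v + ∑ j ∈ Finset.univ.erase (0 : ZMod p), ρ (a ^ j.val) (normL ρ p b v) := by
    show ∑ i : ZMod p, ∑ j : ZMod p, ρ ((a * b ^ i.val) ^ j.val) v = _
    rw [Finset.sum_comm, ← Finset.add_sum_erase _ _ (Finset.mem_univ (0 : ZMod p))]
    congr 1
    · simp only [ZMod.val_zero, pow_zero, act_one]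
      rw [Finset.sum_const, Finset.card_univ, ZMod.card]
    · refine Finset.sum_congr rfl fun j hj => ?_
      show _ = ρ (a ^ j.val) (∑ k : ZMod p, ρ (b ^ k.val) v)
      rw [map_sum]
      refine Fintype.sum_equiv (Equiv.mulRight₀ j (Finset.ne_of_mem_erase hj)) _ _ fun i => ?_
      rw [← act_mul, (show Commute a (b ^ i.val) from hcomm _ _).mul_pow, ← pow_mul, Equiv.mulRight₀_apply,
        ZMod.val_mul, ← pow_eq_pow_mod _ (hexp b)]
  refine mem_of_nsmul_mem (n := p) hpn (hn v) ?_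
  rw [eq_sub_of_add_eq hkey.symm]
  refine sub_mem (sum_mem fun i _ => ?_) (sum_mem fun j _ => ?_)
  · have hni : a * b ^ i.val ∉ E := fun h => ha (by
      have := mul_mem (Subgroup.mem_sup_left (T := Subgroup.zpowers b) h)
        (Subgroup.mem_sup_right (S := E) (inv_mem (Subgroup.npow_mem_zpowers b i.val)))
      rwa [mul_inv_cancel_right] at this)
    obtain ⟨h1, h2⟩ := normL_mem ρ hcomm hexp hD hv hvE (a * b ^ i.val)
    exact hlt' _ hni _ h1 h2
  · obtain ⟨h1, h2⟩ := normL_mem ρ hcomm hexp hD hv hvE b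
    refine hlt' b hb _ (hD _ _ h1) fun e he => ?_
    rw [← act_mul, hcomm, act_mul, h2 e he]

variable (hB : ∀ a u v, ρ a (β.B u v) = β.B (ρ a u) (ρ a v))
include hB

theorem fixL_closed (E : Subgroup A) : ∀ u ∈ fixL ρ E, ∀ v ∈ fixL ρ E, β.B u v ∈ fixL ρ E :=
  fun u hu v hv e he => by rw [hB, hu e he, hv e he]

omit hB in
theorem fixL_invariant (hcomm : ∀ a b : A, a * b = b * a) (E : Subgroup A) (a : A) :
    ∀ u ∈ fixL ρ E, ρ a u ∈ fixL ρ E :=
  fun u hu e he => by rw [← act_mul, hcomm, act_mul, hu e he]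

theorem Dd_invariant (hcomm : ∀ a b : A, a * b = b * a) (E : Subgroup A) :
    ∀ (i : ℕ) (a : A), ∀ u ∈ Dd β (fixL ρ E) i, ρ a u ∈ Dd β (fixL ρ E) i
  | 0, a, u, hu => fixL_invariant ρ hcomm E a u hu
  | i + 1, a, u, hu => by
    refine (show Dd β (fixL ρ E) (i + 1) ≤ (Dd β (fixL ρ E) (i + 1)).comap (ρ a) from
      (AddSubgroup.closure_le _).2 ?_) hu
    rintro _ ⟨x, hx, y, hy, rfl⟩
    show ρ a (β.B x y) ∈ Dd β (fixL ρ E) (i + 1)
    rw [hB]
    exact AddSubgroup.subset_closure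
      ⟨_, Dd_invariant hcomm E i a x hx, _, Dd_invariant hcomm E i a y hy, rfl⟩

/-- The bound for subgroups of index at most `p ^ (j + 1)`. -/
def Nb (p b N₀ : ℕ) : ℕ → ℕ
  | 0 => N₀
  | j + 1 => max (Nb p b N₀ j) ((b * N₀ + 1) ^ sK p (Nb p b N₀ j))

theorem fix_nil (hcomm : ∀ a b : A, a * b = b * a) (hexp : ∀ a : A, a ^ p = 1) {n : ℕ} (hpn : p.Coprime n)
    (hn : ∀ v : L, n • v = 0) {N₀ b : ℕ} (hb : Nat.card (Subgroup A) ≤ b)
    (h₀ : ∀ B : Subgroup A, Nat.card A ≤ p * Nat.card B → lay β (fixL ρ B : Set L) N₀ = ⊥) :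
    ∀ (j : ℕ) (E : Subgroup A), Nat.card A ≤ p ^ (j + 1) * Nat.card E →
      lay β (fixL ρ E : Set L) (Nb p b N₀ j) = ⊥ := by
  intro j
  induction j with
  | zero => intro E hE; exact h₀ E (by simpa using hE)
  | succ j ih =>
    intro E hE
    by_cases hEj : Nat.card A ≤ p ^ (j + 1) * Nat.card E
    · exact le_bot_iff.1 ((lay_antitone β _ (le_max_left _ _)).trans (ih E hEj).le)
    obtain ⟨a, ha⟩ : ∃ a, a ∉ E := by
      by_contra h
      push Not at h
      refine hEj ((Nat.le_mul_of_pos_left _ (pow_pos hp.out.pos _)).trans' ?_)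
      exact Nat.card_le_card_of_surjective (fun e : E => (e : A)) fun a => ⟨⟨a, h a⟩, rfl⟩
    have hlt : E < E ⊔ Subgroup.zpowers a :=
      lt_of_le_of_ne le_sup_left fun h => ha (h ▸ Subgroup.mem_sup_right (Subgroup.mem_zpowers a))
    have hbig : Nat.card A ≤ p ^ (j + 1) * Nat.card ↥(E ⊔ Subgroup.zpowers a) :=
      hE.trans (by
        rw [pow_succ p (j + 1), mul_assoc]
        exact Nat.mul_le_mul_left _ (mul_card_le_of_lt hexp hlt))
    set N₁ := Nb p b N₀ j
    set R := fixL ρ E with hR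
    have hRc := fixL_closed β ρ hB E
    have hinv := Dd_invariant β ρ hB hcomm E
    have hpow : ∀ (i : ℕ) (u : L), (⇑(ρ a : L →+ L))^[i] u = ρ (a ^ i) u := by
      intro i
      induction i with
      | zero => intro u; rw [pow_zero, act_one]; rfl
      | succ i ihi => intro u; rw [Function.iterate_succ_apply', ihi, pow_succ', act_mul]
    have hsol : Dd β R (sK p N₁) = ⊥ :=
      Dd_eq_bot β hpn hn (ρ a) (hB a) hRc (fixL_invariant ρ hcomm E a)
        (fun u _ => (hpow p u).trans (by rw [hexp, act_one])) (Y := (fixL ρ (E ⊔ Subgroup.zpowers a) : Set L))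
        (fun u hu hau => fixL_sup ρ hu (show Subgroup.zpowers a ≤ stabL ρ u from Subgroup.zpowers_le.2 hau))
        (ih _ hbig)
    set s := sK p N₁
    haveI : Fintype {B : Subgroup A // Nat.card A ≤ p * Nat.card B} := Fintype.ofFinite _
    have hι : Fintype.card {B : Subgroup A // Nat.card A ≤ p * Nat.card B} ≤ b := by
      rw [← Nat.card_eq_fintype_card]; exact (Finite.card_subtype_le _).trans hb
    have hdown : ∀ i, i ≤ s → lay β (Dd β R (s - i) : Set L) ((b * N₀ + 1) ^ i) = ⊥ := by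
      intro i
      induction i with
      | zero =>
        intro _
        refine le_bot_iff.1 (lay_succ_le β (j := 0) fun u _ y hy => ?_)
        rw [Nat.sub_zero, hsol, SetLike.mem_coe, AddSubgroup.mem_bot] at hy
        rw [hy, map_zero]; exact zero_mem _
      | succ i ihi =>
        intro hi
        have e : s - i = s - (i + 1) + 1 := by omega
        have h' := ihi (by omega)
        rw [e] at h'
        have h1 := ideal_trick β (fun B : {B : Subgroup A // Nat.card A ≤ p * Nat.card B} => (fixL ρ B.1 : Set L))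
          (fun B => h₀ B.1 B.2) (D := Dd β R (s - (i + 1))) (D' := Dd β R (s - (i + 1) + 1))
          (span_fix ρ hcomm hexp hpn hn (hinv _))
          (fun u hu v hv => AddSubgroup.subset_closure ⟨u, hu, v, hv, rfl⟩)
          (fun u hu d hd => AddSubgroup.subset_closure ⟨u, Dd_succ_le β hRc _ hu, d, hd, rfl⟩) h'
        refine le_bot_iff.1 ((lay_antitone β _ ?_).trans h1.le)
        rw [pow_succ]
        exact Nat.mul_le_mul_left _ (Nat.succ_le_succ (Nat.mul_le_mul_right _ hι))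
    have := hdown s le_rfl
    rw [Nat.sub_self] at this
    exact le_bot_iff.1 ((lay_antitone β _ (le_max_right _ _)).trans this.le)

end CfsgLib.CoprimeClass
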