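import Cfsg.Agent.Lib.CoprimeClass.Nilp
import Cfsg.Agent.Lib.CoprimeClass.LieMain
import Cfsg.Agent.Lib.PGroup.GradedLieRing

/-!
The class bound for a term of the lower central series under a coprime elementary abelian group of automorphisms.
-/

set_option autoImplicit false
set_option linter.unusedSectionVars false
set_option linter.style.haveILetI false

namespace CfsgLib.CoprimeClass

open Subgroup Cfsg CfsgLib.PGroup.Kreknin
open scoped commutatorElement

universe u

variable {Γ : Type u} [Group Γ] [Finite Γ] {p : ℕ} [hp : Fact p.Prime] {A G : Subgroup Γ}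

/-- The bound. -/
def clsBound (p k c : ℕ) : ℕ := Nb p (2 ^ p ^ k) ((c + 1) ^ 2 ^ p ^ k) (k - 1)

theorem card_subgroup_le (A : Type u) [Group A] [Finite A] : Nat.card (Subgroup A) ≤ 2 ^ Nat.card A := by
  classical
  haveI := Fintype.ofFinite A
  refine (Nat.card_le_card_of_injective (fun S : Subgroup A => (S : Set A)) SetLike.coe_injective).trans ?_
  rw [Nat.card_eq_fintype_card, Nat.card_eq_fintype_card, Fintype.card_set]

/-- Conjugation on a normal subgroup. -/
def conjK (A K : Subgroup Γ) [hK : K.Normal] : A →* MulAut K :=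
  MulAut.conjNormal.comp A.subtype

theorem conjK_apply (K : Subgroup Γ) [K.Normal] (a : A) (x : K) :
    ((conjK A K a x : K) : Γ) = (a : Γ) * x * (a : Γ)⁻¹ := MulAut.conjNormal_apply (a : Γ) x

theorem grA_one (H : Type u) [Group H] : grA (1 : MulAut H) = AddMonoidHom.id (Gr H) :=
  gr_ext fun n y => by rw [grA_gcl]; exact gcl_congr rfl rfl

theorem grA_mul {H : Type u} [Group H] (α β : MulAut H) : grA (α * β) = (grA α).comp (grA β) :=
  gr_ext fun n y => by
    rw [AddMonoidHom.comp_apply, grA_gcl, grA_gcl, grA_gcl]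
    exact gcl_congr rfl rfl

/-- The action on the Lie ring. -/
noncomputable def rhoK (A K : Subgroup Γ) [K.Normal] : A →* AddMonoid.End (Gr ↥K) where
  toFun a := grA (conjK A K a)
  map_one' := by rw [map_one]; exact grA_one _
  map_mul' a b := by rw [map_mul]; exact grA_mul _ _

theorem gam_mem_iff (K : Subgroup Γ) (i : ℕ) (y : ↥K) :
    (y : Γ) ∈ K.lowerCentralSeries i ↔ y ∈ gam ↥K i := by
  rw [← top_subtype_lowerCentralSeries K i]
  exact mem_map_iff_mem K.subtype_injective

theorem evl_gcl {H : Type u} [Group H] : ∀ (l : List H) (i : ℕ) (x : ↥(gam H i)) (ys : List (Gr H)),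
    List.Forall₂ (fun h v => ∃ (j : ℕ) (y : ↥(gam H j)), (y : H) = h ∧ gcl j y = v) l ys →
    ∃ (i' : ℕ) (z : ↥(gam H i')), (z : H) = cw (x : H) l ∧ evl grBracket (gcl i x) ys = gcl i' z := by
  intro l
  induction l with
  | nil => intro i x ys h; cases h; exact ⟨i, x, rfl, rfl⟩
  | cons h l ih =>
    intro i x ys hl
    cases hl with
    | cons hv hrest =>
      obtain ⟨j, y, rfl, rfl⟩ := hv
      obtain ⟨i', z, hz, he⟩ := ih _ (bc x y) _ hrest
      refine ⟨i', z, hz, ?_⟩
      rw [evl]
      show evl grBracket (grB (gcl i x) (gcl j y)) _ = _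
      rw [grB_gcl]
      exact he

theorem gcl_mem_lay {H : Type u} [Group H] : ∀ (i : ℕ) (x : ↥(gam H i)),
    gcl i x ∈ lay grBracket (Set.univ : Set (Gr H)) i := by
  intro i
  induction i with
  | zero => intro x; rw [lay_zero]; exact AddSubgroup.mem_top _
  | succ i ih =>
    intro x
    refine closure_induction (p := fun g hg => gcl (i + 1) ⟨g, hg⟩ ∈ lay grBracket (Set.univ : Set (Gr H)) (i + 1))
      ?_ ?_ ?_ ?_ x.2
    · rintro _ ⟨a, ha, g, -, rfl⟩
      have h := bracket_mem_lay grBracket (ih ⟨a, ha⟩) (Y := (Set.univ : Set (Gr H)))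
        (y := gcl 0 (⟨g, mem_top g⟩ : ↥(gam H 0))) (Set.mem_univ _)
      change grB _ _ ∈ _ at h
      rw [grB_gcl] at h
      exact h
    · rw [show (⟨1, _⟩ : ↥(gam H (i + 1))) = 1 from rfl, gcl_one]; exact zero_mem _
    · intro a b ha hb h1 h2
      rw [show (⟨a * b, _⟩ : ↥(gam H (i + 1))) = (⟨a, ha⟩ * ⟨b, hb⟩ : ↥(gam H (i + 1))) from rfl, gcl_mul]
      exact add_mem h1 h2
    · intro a ha h1
      rw [show (⟨a⁻¹, _⟩ : ↥(gam H (i + 1))) = (⟨a, ha⟩⁻¹ : ↥(gam H (i + 1))) from rfl, gcl_inv]
      exact neg_mem h1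

/-- The class bound. -/
theorem lcs_class_bound {k m c : ℕ} (hmk : m + 3 ≤ k) (hA : CopAct p A G) (hk : Nat.card A = p ^ k)
    (hcls : ClsHyp m c A G) : (G.lowerCentralSeries m).lowerCentralSeries (clsBound p k c) = ⊥ := by
  classical
  haveI := hA.normal
  have hsubA : Nat.card {U : Subgroup Γ // U ≤ A} ≤ 2 ^ p ^ k := by
    refine le_trans ?_ (hk ▸ card_subgroup_le ↥A)
    refine Nat.card_le_card_of_injective (fun U => U.1.subgroupOf A) fun U V h => Subtype.ext ?_
    rw [← map_subgroupOf_eq_of_le U.2, ← map_subgroupOf_eq_of_le V.2]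
    exact congrArg (Subgroup.map A.subtype) h
  set K := G.lowerCentralSeries m with hKdef
  haveI hKn : K.Normal := lcs_normal G m
  have hKG : K ≤ G := lowerCentralSeries_le_self G m
  set β := grBracket (G := ↥K)
  set ρ := rhoK A K
  have hρ : ∀ (a : A) (n : ℕ) (y : ↥(gam ↥K n)),
      ρ a (gcl n y) = gcl n ⟨conjK A K a (y : ↥K), mem_gam_map _ y.2⟩ := fun a n y => grA_gcl _ y
  have hB : ∀ a u v, ρ a (β.B u v) = β.B (ρ a u) (ρ a v) := fun a u v => grA_B _ u v
  have hpc : p.Coprime (Nat.card K) :=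
    hp.out.coprime_iff_not_dvd.2 fun h => hA.ndvd (h.trans (card_dvd_of_le hKG))
  have htor : ∀ v : Gr ↥K, Nat.card K • v = 0 := by
    intro v
    induction v using gr_induction with
    | h0 => exact smul_zero _
    | hadd a b ha hb => rw [smul_add, ha, hb, add_zero]
    | hg n y =>
      have h1 : ∀ j : ℕ, gcl n (y ^ j) = j • gcl n y := by
        intro j
        induction j with
        | zero => rw [pow_zero, gcl_one, zero_smul]
        | succ j ih => rw [pow_succ, gcl_mul, ih, succ_nsmul]
      rw [← h1, show y ^ Nat.card K = 1 from Subtype.ext (by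
        rw [SubgroupClass.coe_pow]; exact pow_card_eq_one'), gcl_one]
  have hcomm : ∀ a b : A, a * b = b * a := fun a b => Subtype.ext (hA.comm a.2 b.2)
  have hexp : ∀ a : A, a ^ p = 1 := fun a => Subtype.ext (by rw [SubgroupClass.coe_pow]; exact hA.elem.2 a a.2)
  have hgamn : ∀ i, ∀ g : Γ, ∀ x ∈ K.lowerCentralSeries i, g * x * g⁻¹ ∈ K.lowerCentralSeries i :=
    fun i g x hx => (lcs_normal K i).conj_mem x hx g
  -- the hypothesis for subgroups of index at most `p`
  have h₀ : ∀ Bs : Subgroup A, Nat.card A ≤ p * Nat.card Bs →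
      lay β (fixL ρ Bs : Set (Gr ↥K)) ((c + 1) ^ 2 ^ p ^ k) = ⊥ := by
    intro Bs hBs
    set B := Bs.map A.subtype with hBdef
    have hBH : Hyp p A B := ⟨map_subtype_le _, by rwa [hBdef, card_map_of_injective A.subtype_injective]⟩
    let Φ : Set (Gr ↥K) :=
      {v | ∃ (j : ℕ) (y : ↥(gam ↥K j)), ((y : ↥K) : Γ) ∈ centralizer (B : Set Γ) ∧ gcl j y = v}
    -- fixed points come from fixed elements
    have hfix : fixL ρ Bs ≤ AddSubgroup.closure Φ := by
      intro v hv
      haveI : Fintype Bs := Fintype.ofFinite _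
      have hall : ∀ u : Gr ↥K, ∑ b : Bs, ρ (b : A) u ∈ AddSubgroup.closure Φ := by
        intro u
        induction u using gr_induction with
        | h0 => simp
        | hadd a b ha hb => simp only [map_add, Finset.sum_add_distrib]; exact add_mem ha hb
        | hg i y =>
          have hsum : ∀ s : Finset Bs, ∃ z : ↥(gam ↥K i), ∑ b ∈ s, ρ (b : A) (gcl i y) = gcl i z := by
            intro s
            induction s using Finset.induction_on with
            | empty => exact ⟨1, by rw [gcl_one, Finset.sum_empty]⟩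
            | insert b s hb ih =>
              obtain ⟨z, hz⟩ := ih
              exact ⟨⟨_, mem_gam_map (conjK A K (b : A)) y.2⟩ * z, by rw [Finset.sum_insert hb, hz, gcl_mul, hρ]⟩
          obtain ⟨z, hz⟩ := hsum Finset.univ
          have hzfix : ∀ b ∈ Bs, ρ b (gcl i z) = gcl i z := by
            intro b hb
            rw [← hz, map_sum]
            refine Fintype.sum_equiv (Equiv.mulLeft (⟨b, hb⟩ : Bs)) _ _ fun x => ?_
            exact (act_mul ρ b (x : A) _).symm
          set z' : Γ := ((z : ↥K) : Γ)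
          have hz' : z' ∈ K.lowerCentralSeries i := (gam_mem_iff K i _).2 z.2
          obtain ⟨w, hw, hwz⟩ := hA.lift_fixed (S := B) (H := K.lowerCentralSeries i)
            (N := K.lowerCentralSeries (i + 1)) hBH.1 ((lowerCentralSeries_le_self K i).trans hKG)
            (CfsgLib.Solvable.le_normalizer_of_conj_mem fun g _ x hx => hgamn i g x hx)
            (CfsgLib.Solvable.le_normalizer_of_conj_mem fun g _ x hx => hgamn (i + 1) g x hx) hz' (by
              rintro _ ⟨b, hb, rfl⟩
              have h1 := hzfix b hb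
              rw [hρ] at h1
              have h2 := (gcl_eq_zero ((⟨conjK A K b (z : ↥K), mem_gam_map _ z.2⟩ : ↥(gam ↥K i)) * z⁻¹)).1
                (by rw [gcl_mul, gcl_inv, h1, add_neg_cancel])
              have h3 := (gam_mem_iff K (i + 1) _).2 h2
              rw [commutatorElement_def]
              rw [Subgroup.coe_mul, Subgroup.coe_inv, Subgroup.coe_mul, Subgroup.coe_inv, conjK_apply] at h3
              exact h3)
          let z₂ : ↥(gam ↥K i) := ⟨⟨w * z', lowerCentralSeries_le_self K i (mul_mem hw.1 hz')⟩,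
            (gam_mem_iff K i _).1 (mul_mem hw.1 hz')⟩
          rw [hz, ← gcl_mod (x := z₂) (y := z) ?_]
          · exact AddSubgroup.subset_closure ⟨i, z₂, hwz, rfl⟩
          · rw [← gam_mem_iff, Subgroup.coe_mul, Subgroup.coe_inv]
            show z'⁻¹ * (w * z') ∈ _
            have := hgamn (i + 1) z'⁻¹ w hw.2
            rwa [inv_inv, mul_assoc] at this
      have h1 := hall v
      rw [Finset.sum_congr rfl (fun (b : Bs) _ => hv (b : A) b.2), Finset.sum_const, Finset.card_univ,
        ← Nat.card_eq_fintype_card] at h1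
      refine mem_of_nsmul_mem ?_ (htor v) h1
      exact (hA.coprime (map_subtype_le Bs) hKG).coprime_dvd_left
        (by rw [card_map_of_injective A.subtype_injective])
    refine le_bot_iff.1 ((lay_mono β (fun x hx => hfix hx) _).trans ((lay_closure β Φ _).trans ?_))
    refine (AddSubgroup.closure_le _).2 ?_
    rintro _ ⟨x, ys, hlen, hys, rfl⟩
    refine AddSubgroup.mem_bot.2 ?_
    -- representatives of the entries
    obtain ⟨l, hl, hlB, hll⟩ : ∃ l : List ↥K,
        List.Forall₂ (fun h v => ∃ (j : ℕ) (y : ↥(gam ↥K j)), (y : ↥K) = h ∧ gcl j y = v) l ys ∧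
        (∀ h ∈ l, (h : Γ) ∈ centralizer (B : Set Γ)) ∧ l.length = ys.length := by
      clear hlen
      induction ys with
      | nil => exact ⟨[], List.Forall₂.nil, by simp, rfl⟩
      | cons v ys ih =>
        obtain ⟨l, hl, hlB, hll⟩ := ih fun y hy => hys y (List.mem_cons_of_mem _ hy)
        obtain ⟨j, y, hyB, rfl⟩ := hys v List.mem_cons_self
        exact ⟨(y : ↥K) :: l, List.Forall₂.cons ⟨j, y, rfl, rfl⟩ hl,
          fun h hh => (List.mem_cons.1 hh).elim (fun e => e ▸ hyB) (hlB h), by simp [hll]⟩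
    have hcwval : ∀ (l : List ↥K) (t : ↥K), ((cw t l : ↥K) : Γ) = cw (t : Γ) (l.map Subtype.val) := by
      intro l
      induction l with
      | nil => intro t; rfl
      | cons y l ih => intro t; rw [cw, ih]; rfl
    induction x using gr_induction with
    | h0 => exact evl_zero β ys
    | hadd a b ha hb => rw [evl_add, ha, hb, add_zero]
    | hg i x =>
      let Z : Subgroup Γ :=
        { carrier := {g | ∃ y : ↥(gam ↥K i), ((y : ↥K) : Γ) = g ∧ evl β (gcl i y) ys = 0}
          one_mem' := ⟨1, rfl, by rw [gcl_one, evl_zero]⟩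
          mul_mem' := by
            rintro _ _ ⟨y, rfl, hy⟩ ⟨y', rfl, hy'⟩
            exact ⟨y * y', rfl, by rw [gcl_mul, evl_add, hy, hy', add_zero]⟩
          inv_mem' := by
            rintro _ ⟨y, rfl, hy⟩
            exact ⟨y⁻¹, rfl, by rw [gcl_inv, evl_neg, hy, neg_zero]⟩ }
      have hle : K.lowerCentralSeries i ≤ Z := by
        refine hA.le_of_hyps ((lowerCentralSeries_le_self K i).trans hKG)
          (CfsgLib.Solvable.le_normalizer_of_conj_mem fun g _ x hx => hgamn i g x hx) fun B' hB' t ht => ?_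
        let y : ↥(gam ↥K i) := ⟨⟨t, lowerCentralSeries_le_self K i ht.1⟩, (gam_mem_iff K i _).1 ht.1⟩
        refine ⟨y, rfl, ?_⟩
        obtain ⟨i', z, hz, he⟩ := evl_gcl l i y ys hl
        rw [he, gcl_eq_zero]
        have h1 : cw t (l.map Subtype.val) = 1 :=
          hA.cw_fix_eq_one hk hmk hcls hBH hB' ⟨lowerCentralSeries_le_self K i ht.1, ht.2⟩ (by
            intro g hg
            obtain ⟨h, hh, rfl⟩ := List.mem_map.1 hg
            exact ⟨h.2, hlB h hh⟩) hsubA (by rw [List.length_map, hll, hlen])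
        have h2 : (z : ↥K) = 1 := Subtype.ext (by rw [hz, hcwval]; exact h1)
        rw [h2]; exact one_mem _
      obtain ⟨y, hy, h0⟩ := hle ((gam_mem_iff K i _).2 x.2)
      rwa [show y = x from Subtype.ext (Subtype.ext hy)] at h0
  have hmain := fix_nil β ρ hB hcomm hexp hpc htor (hk ▸ card_subgroup_le ↥A) h₀ (k - 1) ⊥ (by
    rw [card_bot, mul_one, show k - 1 + 1 = k by omega, hk])
  have huniv : (Set.univ : Set (Gr ↥K)) ⊆ (fixL ρ (⊥ : Subgroup A) : Set (Gr ↥K)) := fun v _ e he => by
    rw [Subgroup.mem_bot.1 he]; exact act_one ρ v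
  set N := clsBound p k c
  have hstab : gam ↥K N ≤ gam ↥K (N + 1) := by
    intro x hx
    have h := lay_mono β huniv N (gcl_mem_lay N ⟨x, hx⟩)
    rw [show lay β (fixL ρ (⊥ : Subgroup A) : Set (Gr ↥K)) N = ⊥ from hmain, AddSubgroup.mem_bot] at h
    exact (gcl_eq_zero _).1 h
  obtain ⟨n, hn⟩ := Subgroup.nilpotent_iff_lowerCentralSeries.1
    (lcs_nilpotent hmk _ Γ A G rfl hA hk hcls)
  have hall : ∀ j, gam ↥K N ≤ gam ↥K (N + j) := by
    intro j
    induction j with
    | zero => exact le_rfl
    | succ j ih =>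
      refine hstab.trans ?_
      show ⁅gam ↥K N, ⊤⁆ ≤ ⁅gam ↥K (N + j), ⊤⁆
      exact commutator_mono ih le_rfl
  rw [← top_subtype_lowerCentralSeries K N, map_eq_bot_iff_of_injective _ K.subtype_injective]
  refine le_bot_iff.1 ((hall n).trans ?_)
  rw [← hn]
  exact Subgroup.lowerCentralSeries_antitone (⊤ : Subgroup ↥K) (Nat.le_add_left n N)

end CfsgLib.CoprimeClass
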