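import Cfsg.Agent.Lib.CoprimeClass.DerivedGen
import Cfsg.Agent.Lib.CoprimeClass.Main

/-!
The class bound for a term of the derived series under a coprime elementary abelian group of automorphisms.
-/

set_option autoImplicit false
set_option linter.unusedSectionVars false
set_option linter.style.haveILetI false

namespace CfsgLib.CoprimeClass

open Subgroup Cfsg CfsgLib.PGroup.Kreknin
open scoped commutatorElement

universe u

variable {Γ : Type u} [Group Γ] [Finite Γ] {p : ℕ} [hp : Fact p.Prime] {A G : Subgroup Γ}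

/-- The hypothesis on the fixed points of the nonidentity elements. -/
def ClsHypD (m c : ℕ) (A G : Subgroup Γ) : Prop :=
  ∀ a ∈ A, a ≠ 1 → (dser (fixH G (zpowers a)) m).lowerCentralSeries c = ⊥

theorem CopAct.isSolvable_of_clsD (hA : CopAct p A G) {k m c : ℕ} (hk : Nat.card A = p ^ k) (hk3 : 3 ≤ k)
    (hcls : ClsHypD m c A G) : Group.IsSolvable G := by
  refine CfsgLib.Signalizer.isSolvable_of_fixed hA.elem (hk ▸ Nat.pow_le_pow_right hp.out.pos hk3) hA.ndvd
    hA.le_normalizer fun a ha ha1 => ?_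
  have he : G ⊓ centralizer ({a} : Set Γ) = fixH G (zpowers a) := by
    rw [fixH, zpowers_eq_closure, centralizer_closure]
  have key : ∀ j, dser (fixH G (zpowers a)) (m + j) ≤ (dser (fixH G (zpowers a)) m).lowerCentralSeries j := by
    intro j
    induction j with
    | zero => exact le_rfl
    | succ j ih => exact commutator_mono ih (ih.trans (lowerCentralSeries_le_self _ j))
  refine he ▸ ⟨⟨m + c, (map_eq_bot_iff_of_injective _ (fixH G (zpowers a)).subtype_injective).1 ?_⟩⟩
  rw [map_subtype_derivedSeries]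
  exact le_bot_iff.1 ((key c).trans (hcls a ha ha1).le)

theorem self_le_normalizer_dser (H : Subgroup Γ) (j : ℕ) : H ≤ normalizer (dser H j : Set Γ) :=
  fun _ hg => conj_mem_dser (Subgroup.le_normalizer hg) j

theorem CopAct.centralizer_le_normalizer_dser (hA : CopAct p A G) {U B : Subgroup Γ} (hUB : U ≤ B) (m : ℕ) :
    centralizer (B : Set Γ) ≤ normalizer (dser (fixH G U) m : Set Γ) := by
  intro g hg
  haveI := hA.normal
  exact conj_mem_dser (CfsgLib.Solvable.le_normalizer_inf (by rw [normalizer_eq_top]; exact le_top)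
    ((centralizer_le hUB).trans Subgroup.le_normalizer) hg) m

/-- The pieces at a subgroup of index at most `p` come from subgroups of rank two. -/
theorem CopAct.genD_hyp (hA : CopAct p A G) {k m : ℕ} (hk : Nat.card A = p ^ k) (hmk : 2 ^ m + 2 ≤ k)
    (hsol : Group.IsSolvable G) {B : Subgroup Γ} (hB : Hyp p A B) :
    dser G m ⊓ centralizer (B : Set Γ) ≤ ⨆ U : {U : Subgroup Γ // U ≤ B ∧ U ≤ A ∧ p ^ 2 ≤ Nat.card U},
      dser (fixH G U.1) m ⊓ centralizer (B : Set Γ) := by
  refine (genD m _ Γ A G rfl hA hsol B hB.1).trans (iSup_le fun U => ?_)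
  have hU : Nat.card A ≤ p ^ 2 ^ m * Nat.card U.1 := by
    refine hB.2.trans ((Nat.mul_le_mul_left _ U.2.2).trans ?_)
    rw [← mul_assoc, ← pow_succ', Nat.sub_add_cancel Nat.one_le_two_pow]
  exact le_iSup (fun U : {U : Subgroup Γ // U ≤ B ∧ U ≤ A ∧ p ^ 2 ≤ Nat.card U} =>
    dser (fixH G U.1) m ⊓ centralizer (B : Set Γ))
    ⟨U.1, U.2.1, U.2.1.trans hB.1, (⟨U.2.1.trans hB.1, hU⟩ : CoB p _ A U.1) |> fun h => CoB.card_ge h hk hmk⟩

/-- Induction principle through the pieces. -/
theorem CopAct.le_of_piecesD (hA : CopAct p A G) {k m : ℕ} (hk : Nat.card A = p ^ k) (hmk : 2 ^ m + 2 ≤ k)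
    (hsol : Group.IsSolvable G) {T : Subgroup Γ}
    (h : ∀ B, Hyp p A B → ∀ U, U ≤ B → p ^ 2 ≤ Nat.card U →
      dser (fixH G U) m ⊓ centralizer (B : Set Γ) ≤ T) :
    dser G m ≤ T := by
  haveI := hA.normal
  refine hA.le_of_hyps (dser_le_self G m) (fun a ha => conj_mem_dser (hA.le_normalizer ha) m) fun B hB => ?_
  exact (hA.genD_hyp hk hmk hsol hB).trans (iSup_le fun U => h B hB U.1 U.2.1 U.2.2.2)

theorem CopAct.clsD_quot (hA : CopAct p A G) {m c : ℕ} (hcls : ClsHypD m c A G) {N : Subgroup Γ} [N.Normal] :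
    ClsHypD m c (A.map (QuotientGroup.mk' N)) (G.map (QuotientGroup.mk' N)) := by
  rintro _ ⟨a, ha, rfl⟩ ha1
  have ha1' : a ≠ 1 := fun h => ha1 (by rw [h, map_one])
  have haA : zpowers a ≤ A := zpowers_le.2 ha
  have hfix : fixH (G.map (QuotientGroup.mk' N)) (zpowers (QuotientGroup.mk' N a)) =
      (fixH G (zpowers a)).map (QuotientGroup.mk' N) := by
    rw [← MonoidHom.map_zpowers]
    exact le_antisymm (hA.map_inf_centralizer haA le_rfl (haA.trans hA.le_normalizer))
      (map_inf_centralizer_le _ G _)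
  rw [hfix, ← map_dser, ← map_lowerCentralSeries, hcls a ha ha1', Subgroup.map_bot]

theorem dser_nilpotent {k m c : ℕ} (hmk : 2 ^ m + 2 ≤ k) : ∀ (n : ℕ) (Γ : Type u) [Group Γ] [Finite Γ]
    (A G : Subgroup Γ), Nat.card G = n → CopAct p A G → Nat.card A = p ^ k → ClsHypD m c A G →
      Group.IsNilpotent ↥(dser G m) := by
  intro n
  induction n using Nat.strong_induction_on with
  | _ n ih =>
  intro Γ _ _ A G hn hA hk hcls
  haveI := hA.normal
  set K := dser G m with hK
  haveI hKn : K.Normal := dser_normal G m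
  have hKG : K ≤ G := dser_le_self G m
  have hsol := hA.isSolvable_of_clsD hk (by have := @Nat.one_le_two_pow m; omega) hcls
  by_cases hKbot : K = ⊥
  · rw [hKbot]; infer_instance
  obtain ⟨V, ⟨hVn, hVne, hVK⟩, hVmin⟩ := Set.exists_min_image
    {V : Subgroup Γ | V.Normal ∧ V ≠ ⊥ ∧ V ≤ K} (fun V => Nat.card V) (Set.toFinite _) ⟨K, hKn, hKbot, le_rfl⟩
  haveI := hVn
  have hmin : ∀ Z : Subgroup Γ, Z.Normal → Z ≤ V → Z ≠ ⊥ → Z = V := fun Z hZn hZV hZ =>
    eq_of_le_of_card_ge hZV (hVmin Z ⟨hZn, hZ, hZV.trans hVK⟩)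
  have hVG := hVK.trans hKG
  haveI : Nontrivial V := (nontrivial_iff_ne_bot V).2 hVne
  have hVV : ⁅V, V⁆ = ⊥ := by
    by_contra h
    haveI : Group.IsSolvable V := CfsgLib.Solvable.isSolvable_of_le hsol hVG
    refine (Group.IsSolvable.commutator_lt_top_of_nontrivial ↥V).ne (map_injective V.subtype_injective ?_)
    rw [map_subtype_commutator, hmin _ inferInstance (commutator_le_self V) h, ← MonoidHom.range_eq_map,
      range_subtype]
  have hVab : ∀ x ∈ V, ∀ y ∈ V, x * y = y * x := fun x hx y hy => by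
    have := commutator_mem_commutator hx hy
    rwa [hVV, Subgroup.mem_bot, commutatorElement_eq_one_iff_mul_comm] at this
  obtain ⟨r, hr, hrd⟩ := Nat.exists_prime_and_dvd (n := Nat.card V) (by
    intro h; exact hVne (card_eq_one.1 h))
  haveI := Fact.mk hr
  have hVr : ∀ v ∈ V, v ^ r = 1 := by
    let T : Subgroup Γ :=
      { carrier := {v | v ∈ V ∧ v ^ r = 1}
        one_mem' := ⟨one_mem _, one_pow r⟩
        mul_mem' := fun {a b} ha hb => ⟨mul_mem ha.1 hb.1, by
          rw [(show Commute a b from hVab a ha.1 b hb.1).mul_pow, ha.2, hb.2, one_mul]⟩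
        inv_mem' := fun {a} ha => ⟨inv_mem ha.1, by rw [inv_pow, ha.2, inv_one]⟩ }
    have hTn : T.Normal := ⟨fun v hv g => ⟨hVn.conj_mem v hv.1 g, by rw [conj_pow, hv.2, mul_one, mul_inv_cancel]⟩⟩
    obtain ⟨v, hv⟩ := exists_prime_orderOf_dvd_card' (G := V) r hrd
    have hvT : (v : Γ) ∈ T := ⟨v.2, by
      rw [← SubgroupClass.coe_pow, ← hv, pow_orderOf_eq_one]; rfl⟩
    have hTne : T ≠ ⊥ := fun h => by
      rw [h, Subgroup.mem_bot] at hvT
      rw [Subtype.ext hvT (a2 := (1 : V)), orderOf_one] at hv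
      exact hr.ne_one hv.symm
    intro w hw
    exact ((hmin T hTn (fun x hx => hx.1) hTne).ge hw).2
  have hVrP : IsPGroup r V := fun v => ⟨1, Subtype.ext (by rw [pow_one]; exact hVr v v.2)⟩
  set π := QuotientGroup.mk' V with hπ
  have hK' : Group.IsNilpotent ↥(K.map π) := by
    rw [hK, map_dser]
    exact ih _ (hn ▸ card_map_lt hVG hVne) _ _ _ rfl hA.quot (by rw [hA.card_map_eq hVG le_rfl, hk])
      (hA.clsD_quot hcls)
  -- the preimage of the `r`-part
  haveI hK'n : (K.map π).Normal := hKn.map π (QuotientGroup.mk'_surjective V)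
  haveI : (pCore r ↥(K.map π)).Characteristic := CfsgLib.Cores.pCore_characteristic r
  set R' := (pCore r ↥(K.map π)).map (K.map π).subtype with hR'
  haveI hR'n : R'.Normal := ConjAct.normal_of_characteristic_of_normal
  set P := K ⊓ R'.comap π with hP
  haveI hPn : P.Normal := inferInstance
  have hPr : IsPGroup r P := by
    intro x
    obtain ⟨y, hy, hye⟩ := x.2.2
    obtain ⟨j, hj⟩ := CfsgLib.Cores.isPGroup_pCore r ⟨y, hy⟩
    have h1 : ((x : Γ) ^ r ^ j) ∈ V := by
      refine (QuotientGroup.eq_one_iff _).1 ?_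
      show π ((x : Γ) ^ r ^ j) = 1
      rw [map_pow, show π (x : Γ) = (y : Γ ⧸ V) from hye.symm, ← SubgroupClass.coe_pow]
      have := congrArg (fun z => ((Subtype.val z : ↥(K.map π)) : Γ ⧸ V)) hj
      simpa using this
    refine ⟨j + 1, Subtype.ext ?_⟩
    rw [SubgroupClass.coe_pow, pow_succ, pow_mul]
    exact hVr _ h1
  -- generation
  have hKle : K ≤ centralizer (V : Set Γ) ⊔ P := by
    refine hA.le_of_piecesD hk hmk hsol fun B hB U hUB hUc g hg => ?_
    have hgK : g ∈ K := dser_mono inf_le_left m hg.1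
    obtain ⟨a, b, hrb, hab⟩ := Nat.exists_eq_pow_mul_and_not_dvd (orderOf_pos g).ne' r hr.ne_one
    refine mem_of_zpow_coprime (Nat.Coprime.pow_left a (hr.coprime_iff_not_dvd.2 hrb)) ?_ ?_
    · -- the `r'`-part centralises `V`
      refine mem_sup_left ?_
      set q := g ^ r ^ a with hq
      have hqP : q ∈ dser (fixH G U) m ⊓ centralizer (B : Set Γ) := pow_mem hg _
      have hqb : q ^ b = 1 := by rw [hq, ← pow_mul, ← hab, pow_orderOf_eq_one]
      have hrq : ¬ r ∣ orderOf q := fun h => hrb (h.trans (orderOf_dvd_of_pow_eq_one hqb))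
      have hUA : U ≤ A := hUB.trans hB.1
      rw [mem_centralizer_iff]
      intro v hv
      refine (mem_centralizer_singleton_iff.1 ((show V ≤ centralizer ({q} : Set Γ) from
        hA.le_of_hyps hVG (by rw [normalizer_eq_top]; exact le_top) fun B' hB' t ht => ?_) hv))
      obtain ⟨e, he, he1⟩ := hA.exists_inf_ne_one hB' hUA hUc
      set Me := dser (fixH G (zpowers e)) m
      have hqe : q ∈ Me := dser_mono (fixH_le_of_mem he.1) m hqP.1
      have hte : t ∈ fixH G (zpowers e) := ⟨hVG ht.1, centralizer_le (zpowers_le.2 he.2) ht.2⟩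
      have hw : ⁅t, q⁆ ∈ Me := by
        rw [show ⁅t, q⁆ = t * q * t⁻¹ * q⁻¹ from commutatorElement_def t q]
        exact mul_mem ((mem_normalizer_iff.1 (self_le_normalizer_dser _ m hte) q).1 hqe)
          (inv_mem hqe)
      have hwV : ⁅t, q⁆ ∈ V := commutator_le_left V ⊤ (commutator_mem_commutator ht.1 (mem_top q))
      haveI : Group.IsNilpotent ↥Me := (isNilpotent_iff_lowerCentralSeries Me).2 ⟨c, hcls e (hUA he.1) he1⟩
      have hwr : ⁅t, q⁆ ^ r = 1 := hVr _ hwV
      have hcomm : ⁅t, q⁆ * q = q * ⁅t, q⁆ := congrArg Subtype.val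
        (CfsgLib.OddLocal.commute_of_coprime_orderOf (⟨_, hw⟩ : Me) ⟨q, hqe⟩ (by
          rw [← orderOf_coe (⟨_, hw⟩ : Me), ← orderOf_coe (⟨q, hqe⟩ : Me)]
          exact Nat.Coprime.coprime_dvd_left (orderOf_dvd_of_pow_eq_one hwr)
            (hr.coprime_iff_not_dvd.2 hrq)))
      have hw1 : ⁅t, q⁆ ^ orderOf q = 1 := by
        have h1 : ⁅t, q⁆ * q = t * q * t⁻¹ := by rw [commutatorElement_def]; group
        have h2 := congrArg (fun z => z ^ orderOf q) h1
        simp only [(show Commute ⁅t, q⁆ q from hcomm).mul_pow, conj_pow, pow_orderOf_eq_one, mul_one,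
          mul_inv_cancel] at h2
        exact h2
      have hone : ⁅t, q⁆ = 1 := by
        rw [← pow_one ⁅t, q⁆, ← Nat.Coprime.gcd_eq_one (hr.coprime_iff_not_dvd.2 hrq)]
        exact pow_gcd_eq_one.2 ⟨hwr, hw1⟩
      exact mem_centralizer_singleton_iff.2 (commutatorElement_eq_one_iff_mul_comm.1 hone)
    · -- the `r`-part lies in `P`
      refine mem_sup_right ⟨pow_mem hgK _, ?_⟩
      set y : ↥(K.map π) := ⟨π (g ^ b), g ^ b, pow_mem hgK _, rfl⟩
      have hy : y ^ r ^ a = 1 := Subtype.ext (by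
        show π (g ^ b) ^ r ^ a = 1
        rw [← map_pow, ← pow_mul, mul_comm b, ← hab, pow_orderOf_eq_one, map_one])
      have hzy : IsPGroup r (zpowers y) := by
        obtain ⟨i, hi, hie⟩ := (Nat.dvd_prime_pow hr).1 (orderOf_dvd_of_pow_eq_one hy)
        exact IsPGroup.iff_card.2 ⟨i, (Nat.card_zpowers y).trans hie⟩
      obtain ⟨S, hS⟩ := hzy.exists_le_sylow
      haveI : (S : Subgroup ↥(K.map π)).Normal :=
        ((Group.isNilpotent_of_finite_tfae (G := ↥(K.map π))).out 0 3 rfl rfl).1 hK' r inferInstance S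
      exact ⟨y, CfsgLib.Cores.le_pCore S.2 (hS (mem_zpowers y)), rfl⟩
  -- `V` is central
  have hVKbot : ⁅V, K⁆ = ⊥ := by
    by_contra h
    have heq : ⁅V, K⁆ = V := hmin _ inferInstance (commutator_le_left V K) h
    have hle : V ≤ ⁅V, P⁆ := by
      refine heq.ge.trans ((commutator_mono le_rfl hKle).trans ?_)
      have := comm_sup_le (T := ⁅V, P⁆) (H₁ := V) (H₂ := V) (K₁ := centralizer (V : Set Γ)) (K₂ := P)
        (by rw [normalizer_eq_top]; exact le_top)
        (by rw [commutator_eq_bot_iff_le_centralizer.2 ((le_centralizer_iff).1 le_rfl)]; exact bot_le)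
        le_rfl
        (by rw [commutator_eq_bot_iff_le_centralizer.2 ((le_centralizer_iff).1 le_rfl)]; exact bot_le)
        le_rfl
      rwa [sup_idem] at this
    have hVP : V ≤ P := fun v hv => ⟨hVK hv, by
      show π v ∈ R'
      rw [show π v = 1 from (QuotientGroup.eq_one_iff v).2 hv]; exact one_mem _⟩
    obtain ⟨l, hl⟩ := (isNilpotent_iff_lowerCentralSeries P).1 hPr.isNilpotent
    have : ∀ j, V ≤ P.lowerCentralSeries j := by
      intro j
      induction j with
      | zero => exact hVP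
      | succ j ihj => exact hle.trans (commutator_mono ihj le_rfl)
    exact hVne (le_bot_iff.1 (hl ▸ this l))
  obtain ⟨l, hl⟩ := (isNilpotent_iff_lowerCentralSeries (K.map π)).1 hK'
  refine (isNilpotent_iff_lowerCentralSeries K).2 ⟨l + 1, le_bot_iff.1 ?_⟩
  rw [← map_lowerCentralSeries, Subgroup.map_eq_bot_iff, QuotientGroup.ker_mk'] at hl
  exact (commutator_mono hl le_rfl).trans hVKbot.le

theorem CopAct.cwD_fix_eq_one (hA : CopAct p A G) {k m c : ℕ} (hk : Nat.card A = p ^ k) (hmk : 2 ^ m + 2 ≤ k)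
    (hcls : ClsHypD m c A G) {B B' : Subgroup Γ} (hB : Hyp p A B) (hB' : Hyp p A B') {t : Γ}
    (ht : t ∈ dser G m ⊓ centralizer (B' : Set Γ)) {l : List Γ}
    (hl : ∀ y ∈ l, y ∈ dser G m ⊓ centralizer (B : Set Γ)) {b : ℕ}
    (hb : Nat.card {U : Subgroup Γ // U ≤ A} ≤ b) (hlen : (c + 1) ^ b ≤ l.length) : cw t l = 1 := by
  classical
  haveI := hA.normal
  set K := dser G m with hKdef
  haveI hKn : K.Normal := dser_normal G m
  set X := K ⊓ centralizer (B : Set Γ) with hXdef
  have hsol := hA.isSolvable_of_clsD hk (by have := @Nat.one_le_two_pow m; omega) hcls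
  let ι := {U : Subgroup Γ // U ≤ B ∧ U ≤ A ∧ p ^ 2 ≤ Nat.card U}
  haveI : Fintype ι := Fintype.ofFinite _
  let P : ι → Subgroup Γ := fun U => dser (fixH G U.1) m ⊓ centralizer (B : Set Γ)
  have hPX : ∀ i, P i ≤ X := fun i => inf_le_inf_right _ (dser_mono inf_le_left m)
  have hXP : ∀ i, X ≤ normalizer (P i : Set Γ) := fun i =>
    (inf_le_right.trans (le_inf (hA.centralizer_le_normalizer_dser i.2.1 m) Subgroup.le_normalizer)).trans
      (fun g hg => CfsgLib.Solvable.le_normalizer_inf (inf_le_left) (inf_le_right) hg)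
  have hsup : Finset.univ.sup P = X := by
    refine le_antisymm (Finset.sup_le fun i _ => hPX i) ?_
    refine (hA.genD_hyp hk hmk hsol hB).trans (iSup_le fun i => ?_)
    exact Finset.le_sup (f := P) (Finset.mem_univ i)
  set T₀ := closure {y | ∃ x ∈ X, ∃ u ∈ K ⊓ centralizer (B' : Set Γ), y = x * u * x⁻¹} with hT₀
  have htT : t ∈ T₀ := subset_closure ⟨1, one_mem _, t, ht, by simp⟩
  have hXT : X ≤ normalizer (T₀ : Set Γ) := by
    refine CfsgLib.Solvable.le_normalizer_of_conj_mem fun g hg z hz => ?_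
    refine (show T₀ ≤ T₀.comap (MulAut.conj g).toMonoidHom from (closure_le _).2 ?_) hz
    rintro _ ⟨x, hx, u, hu, rfl⟩
    show g * (x * u * x⁻¹) * g⁻¹ ∈ T₀
    exact subset_closure ⟨g * x, mul_mem hg hx, u, hu, by group⟩
  have hnil : ∀ i, iterC T₀ (P i) (c + 1) = ⊥ := by
    intro i
    obtain ⟨e, he, he1⟩ := hA.exists_inf_ne_one hB' i.2.2.1 i.2.2.2
    set F := fixH G (zpowers e)
    set Me := dser F m
    have hTF : T₀ ≤ F := by
      refine (closure_le _).2 ?_
      rintro _ ⟨x, hx, u, hu, rfl⟩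
      have hxF : x ∈ F := ⟨dser_le_self G m hx.1, centralizer_le (zpowers_le.2 (i.2.1 he.1)) hx.2⟩
      exact mul_mem (mul_mem hxF ⟨dser_le_self G m hu.1, centralizer_le (zpowers_le.2 he.2) hu.2⟩)
        (inv_mem hxF)
    have hPM : P i ≤ Me := inf_le_left.trans (dser_mono (fixH_le_of_mem he.1) m)
    have h1 : ⁅T₀, P i⁆ ≤ Me := by
      refine (commutator_mono hTF hPM).trans ?_
      rw [commutator_comm]
      exact CfsgLib.Solvable.commutator_le_of_le_normalizer (self_le_normalizer_dser F m)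
    rw [add_comm, iterC_add]
    refine le_bot_iff.1 (le_trans ?_ (hcls e (i.2.2.1 he.1) he1).le)
    have : ∀ j, iterC (iterC T₀ (P i) 1) (P i) j ≤ Me.lowerCentralSeries j := by
      intro j
      induction j with
      | zero => exact h1
      | succ j ihj => exact commutator_mono ihj hPM
    exact this c
  have hser := iterC_normal_series (X := X) hPX hXP hnil Finset.univ T₀ le_rfl hXT
  rw [hsup] at hser
  have hle : (c + 1) ^ (Finset.univ : Finset ι).card ≤ l.length := by
    refine le_trans (Nat.pow_le_pow_right (Nat.succ_pos c) ?_) hlen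
    rw [Finset.card_univ, ← Nat.card_eq_fintype_card]
    refine le_trans ?_ hb
    exact Nat.card_le_card_of_injective (fun U : ι => (⟨U.1, U.2.2.1⟩ : {U : Subgroup Γ // U ≤ A}))
      fun U U' h => Subtype.ext (congrArg Subtype.val h :)
  obtain ⟨d, hd⟩ := Nat.exists_eq_add_of_le hle
  have hmem := cw_mem_iterC (S := T₀) (X := X) l hl (i := 0) htT
  rw [zero_add, hd, iterC_add, hser] at hmem
  have hbot : ∀ j, iterC (⊥ : Subgroup Γ) X j = ⊥ := by
    intro j
    induction j with
    | zero => rfl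
    | succ j ihj => rw [iterC, ihj, commutator_bot_left]
  rwa [hbot, Subgroup.mem_bot] at hmem

theorem dser_class_bound {k m c : ℕ} (hmk : 2 ^ m + 2 ≤ k) (hA : CopAct p A G) (hk : Nat.card A = p ^ k)
    (hcls : ClsHypD m c A G) : (dser G m).lowerCentralSeries (clsBound p k c) = ⊥ := by
  classical
  haveI := hA.normal
  have hsubA : Nat.card {U : Subgroup Γ // U ≤ A} ≤ 2 ^ p ^ k := by
    refine le_trans ?_ (hk ▸ card_subgroup_le ↥A)
    refine Nat.card_le_card_of_injective (fun U => U.1.subgroupOf A) fun U V h => Subtype.ext ?_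
    rw [← map_subgroupOf_eq_of_le U.2, ← map_subgroupOf_eq_of_le V.2]
    exact congrArg (Subgroup.map A.subtype) h
  set K := dser G m with hKdef
  haveI hKn : K.Normal := dser_normal G m
  have hKG : K ≤ G := dser_le_self G m
  set β := grBracket (G := ↥K)
  set ρ := rhoK A K
  have hρ : ∀ (a : A) (n : ℕ) (y : ↥(gam ↥K n)),
      ρ a (gcl n y) = gcl n ⟨conjK A K a (y : ↥K), mem_gam_map _ y.2⟩ := fun a n y => grA_gcl _ y
  have hB : ∀ a u v, ρ a (β.B u v) = β.B (ρ a u) (ρ a v) := fun a u v => grA_B _ u v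
  have hpc : p.Coprime (Nat.card K) :=
    hp.out.coprime_iff_not_dvd.2 fun h => hA.ndvd (h.trans (card_dvd_of_le hKG))
  have htor : ∀ v : Gr ↥K, Nat.card K • v = 0 := by
    intro v
    induction v using gr_induction with
    | h0 => exact smul_zero _
    | hadd a b ha hb => rw [smul_add, ha, hb, add_zero]
    | hg n y =>
      have h1 : ∀ j : ℕ, gcl n (y ^ j) = j • gcl n y := by
        intro j
        induction j with
        | zero => rw [pow_zero, gcl_one, zero_smul]
        | succ j ih => rw [pow_succ, gcl_mul, ih, succ_nsmul]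
      rw [← h1, show y ^ Nat.card K = 1 from Subtype.ext (by
        rw [SubgroupClass.coe_pow]; exact pow_card_eq_one'), gcl_one]
  have hcomm : ∀ a b : A, a * b = b * a := fun a b => Subtype.ext (hA.comm a.2 b.2)
  have hexp : ∀ a : A, a ^ p = 1 := fun a => Subtype.ext (by rw [SubgroupClass.coe_pow]; exact hA.elem.2 a a.2)
  have hgamn : ∀ i, ∀ g : Γ, ∀ x ∈ K.lowerCentralSeries i, g * x * g⁻¹ ∈ K.lowerCentralSeries i :=
    fun i g x hx => (lcs_normal K i).conj_mem x hx g
  -- the hypothesis for subgroups of index at most `p`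
  have h₀ : ∀ Bs : Subgroup A, Nat.card A ≤ p * Nat.card Bs →
      lay β (fixL ρ Bs : Set (Gr ↥K)) ((c + 1) ^ 2 ^ p ^ k) = ⊥ := by
    intro Bs hBs
    set B := Bs.map A.subtype with hBdef
    have hBH : Hyp p A B := ⟨map_subtype_le _, by rwa [hBdef, card_map_of_injective A.subtype_injective]⟩
    let Φ : Set (Gr ↥K) :=
      {v | ∃ (j : ℕ) (y : ↥(gam ↥K j)), ((y : ↥K) : Γ) ∈ centralizer (B : Set Γ) ∧ gcl j y = v}
    -- fixed points come from fixed elements
    have hfix : fixL ρ Bs ≤ AddSubgroup.closure Φ := by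
      intro v hv
      haveI : Fintype Bs := Fintype.ofFinite _
      have hall : ∀ u : Gr ↥K, ∑ b : Bs, ρ (b : A) u ∈ AddSubgroup.closure Φ := by
        intro u
        induction u using gr_induction with
        | h0 => simp
        | hadd a b ha hb => simp only [map_add, Finset.sum_add_distrib]; exact add_mem ha hb
        | hg i y =>
          have hsum : ∀ s : Finset Bs, ∃ z : ↥(gam ↥K i), ∑ b ∈ s, ρ (b : A) (gcl i y) = gcl i z := by
            intro s
            induction s using Finset.induction_on with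
            | empty => exact ⟨1, by rw [gcl_one, Finset.sum_empty]⟩
            | insert b s hb ih =>
              obtain ⟨z, hz⟩ := ih
              exact ⟨⟨_, mem_gam_map (conjK A K (b : A)) y.2⟩ * z, by rw [Finset.sum_insert hb, hz, gcl_mul, hρ]⟩
          obtain ⟨z, hz⟩ := hsum Finset.univ
          have hzfix : ∀ b ∈ Bs, ρ b (gcl i z) = gcl i z := by
            intro b hb
            rw [← hz, map_sum]
            refine Fintype.sum_equiv (Equiv.mulLeft (⟨b, hb⟩ : Bs)) _ _ fun x => ?_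
            exact (act_mul ρ b (x : A) _).symm
          set z' : Γ := ((z : ↥K) : Γ)
          have hz' : z' ∈ K.lowerCentralSeries i := (gam_mem_iff K i _).2 z.2
          obtain ⟨w, hw, hwz⟩ := hA.lift_fixed (S := B) (H := K.lowerCentralSeries i)
            (N := K.lowerCentralSeries (i + 1)) hBH.1 ((lowerCentralSeries_le_self K i).trans hKG)
            (CfsgLib.Solvable.le_normalizer_of_conj_mem fun g _ x hx => hgamn i g x hx)
            (CfsgLib.Solvable.le_normalizer_of_conj_mem fun g _ x hx => hgamn (i + 1) g x hx) hz' (by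
              rintro _ ⟨b, hb, rfl⟩
              have h1 := hzfix b hb
              rw [hρ] at h1
              have h2 := (gcl_eq_zero ((⟨conjK A K b (z : ↥K), mem_gam_map _ z.2⟩ : ↥(gam ↥K i)) * z⁻¹)).1
                (by rw [gcl_mul, gcl_inv, h1, add_neg_cancel])
              have h3 := (gam_mem_iff K (i + 1) _).2 h2
              rw [commutatorElement_def]
              rw [Subgroup.coe_mul, Subgroup.coe_inv, Subgroup.coe_mul, Subgroup.coe_inv, conjK_apply] at h3
              exact h3)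
          let z₂ : ↥(gam ↥K i) := ⟨⟨w * z', lowerCentralSeries_le_self K i (mul_mem hw.1 hz')⟩,
            (gam_mem_iff K i _).1 (mul_mem hw.1 hz')⟩
          rw [hz, ← gcl_mod (x := z₂) (y := z) ?_]
          · exact AddSubgroup.subset_closure ⟨i, z₂, hwz, rfl⟩
          · rw [← gam_mem_iff, Subgroup.coe_mul, Subgroup.coe_inv]
            show z'⁻¹ * (w * z') ∈ _
            have := hgamn (i + 1) z'⁻¹ w hw.2
            rwa [inv_inv, mul_assoc] at this
      have h1 := hall v
      rw [Finset.sum_congr rfl (fun (b : Bs) _ => hv (b : A) b.2), Finset.sum_const, Finset.card_univ,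
        ← Nat.card_eq_fintype_card] at h1
      refine mem_of_nsmul_mem ?_ (htor v) h1
      exact (hA.coprime (map_subtype_le Bs) hKG).coprime_dvd_left
        (by rw [card_map_of_injective A.subtype_injective])
    refine le_bot_iff.1 ((lay_mono β (fun x hx => hfix hx) _).trans ((lay_closure β Φ _).trans ?_))
    refine (AddSubgroup.closure_le _).2 ?_
    rintro _ ⟨x, ys, hlen, hys, rfl⟩
    refine AddSubgroup.mem_bot.2 ?_
    -- representatives of the entries
    obtain ⟨l, hl, hlB, hll⟩ : ∃ l : List ↥K,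
        List.Forall₂ (fun h v => ∃ (j : ℕ) (y : ↥(gam ↥K j)), (y : ↥K) = h ∧ gcl j y = v) l ys ∧
        (∀ h ∈ l, (h : Γ) ∈ centralizer (B : Set Γ)) ∧ l.length = ys.length := by
      clear hlen
      induction ys with
      | nil => exact ⟨[], List.Forall₂.nil, by simp, rfl⟩
      | cons v ys ih =>
        obtain ⟨l, hl, hlB, hll⟩ := ih fun y hy => hys y (List.mem_cons_of_mem _ hy)
        obtain ⟨j, y, hyB, rfl⟩ := hys v List.mem_cons_self
        exact ⟨(y : ↥K) :: l, List.Forall₂.cons ⟨j, y, rfl, rfl⟩ hl,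
          fun h hh => (List.mem_cons.1 hh).elim (fun e => e ▸ hyB) (hlB h), by simp [hll]⟩
    have hcwval : ∀ (l : List ↥K) (t : ↥K), ((cw t l : ↥K) : Γ) = cw (t : Γ) (l.map Subtype.val) := by
      intro l
      induction l with
      | nil => intro t; rfl
      | cons y l ih => intro t; rw [cw, ih]; rfl
    induction x using gr_induction with
    | h0 => exact evl_zero β ys
    | hadd a b ha hb => rw [evl_add, ha, hb, add_zero]
    | hg i x =>
      let Z : Subgroup Γ :=
        { carrier := {g | ∃ y : ↥(gam ↥K i), ((y : ↥K) : Γ) = g ∧ evl β (gcl i y) ys = 0}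
          one_mem' := ⟨1, rfl, by rw [gcl_one, evl_zero]⟩
          mul_mem' := by
            rintro _ _ ⟨y, rfl, hy⟩ ⟨y', rfl, hy'⟩
            exact ⟨y * y', rfl, by rw [gcl_mul, evl_add, hy, hy', add_zero]⟩
          inv_mem' := by
            rintro _ ⟨y, rfl, hy⟩
            exact ⟨y⁻¹, rfl, by rw [gcl_inv, evl_neg, hy, neg_zero]⟩ }
      have hle : K.lowerCentralSeries i ≤ Z := by
        refine hA.le_of_hyps ((lowerCentralSeries_le_self K i).trans hKG)
          (CfsgLib.Solvable.le_normalizer_of_conj_mem fun g _ x hx => hgamn i g x hx) fun B' hB' t ht => ?_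
        let y : ↥(gam ↥K i) := ⟨⟨t, lowerCentralSeries_le_self K i ht.1⟩, (gam_mem_iff K i _).1 ht.1⟩
        refine ⟨y, rfl, ?_⟩
        obtain ⟨i', z, hz, he⟩ := evl_gcl l i y ys hl
        rw [he, gcl_eq_zero]
        have h1 : cw t (l.map Subtype.val) = 1 :=
          hA.cwD_fix_eq_one hk hmk hcls hBH hB' ⟨lowerCentralSeries_le_self K i ht.1, ht.2⟩ (by
            intro g hg
            obtain ⟨h, hh, rfl⟩ := List.mem_map.1 hg
            exact ⟨h.2, hlB h hh⟩) hsubA (by rw [List.length_map, hll, hlen])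
        have h2 : (z : ↥K) = 1 := Subtype.ext (by rw [hz, hcwval]; exact h1)
        rw [h2]; exact one_mem _
      obtain ⟨y, hy, h0⟩ := hle ((gam_mem_iff K i _).2 x.2)
      rwa [show y = x from Subtype.ext (Subtype.ext hy)] at h0
  have hmain := fix_nil β ρ hB hcomm hexp hpc htor (hk ▸ card_subgroup_le ↥A) h₀ (k - 1) ⊥ (by
    rw [card_bot, mul_one, show k - 1 + 1 = k by have := @Nat.one_le_two_pow m; omega, hk])
  have huniv : (Set.univ : Set (Gr ↥K)) ⊆ (fixL ρ (⊥ : Subgroup A) : Set (Gr ↥K)) := fun v _ e he => by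
    rw [Subgroup.mem_bot.1 he]; exact act_one ρ v
  set N := clsBound p k c
  have hstab : gam ↥K N ≤ gam ↥K (N + 1) := by
    intro x hx
    have h := lay_mono β huniv N (gcl_mem_lay N ⟨x, hx⟩)
    rw [show lay β (fixL ρ (⊥ : Subgroup A) : Set (Gr ↥K)) N = ⊥ from hmain, AddSubgroup.mem_bot] at h
    exact (gcl_eq_zero _).1 h
  obtain ⟨n, hn⟩ := Subgroup.nilpotent_iff_lowerCentralSeries.1
    (dser_nilpotent hmk _ Γ A G rfl hA hk hcls)
  have hall : ∀ j, gam ↥K N ≤ gam ↥K (N + j) := by
    intro j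
    induction j with
    | zero => exact le_rfl
    | succ j ih =>
      refine hstab.trans ?_
      show ⁅gam ↥K N, ⊤⁆ ≤ ⁅gam ↥K (N + j), ⊤⁆
      exact commutator_mono ih le_rfl
  rw [← top_subtype_lowerCentralSeries K N, map_eq_bot_iff_of_injective _ K.subtype_injective]
  refine le_bot_iff.1 ((hall n).trans ?_)
  rw [← hn]
  exact Subgroup.lowerCentralSeries_antitone (⊤ : Subgroup ↥K) (Nat.le_add_left n N)

end CfsgLib.CoprimeClass
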