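import Cfsg.Agent.Lib.CoprimeClass.QCase
import Cfsg.Agent.Lib.Solvable.Fitting

/-!
The fixed points of a subgroup of index at most `p` in a term of the lower central series are generated by the
pieces coming from the rank two subgroups.
-/

set_option autoImplicit false
set_option linter.unusedSectionVars false
set_option linter.style.haveILetI false

namespace CfsgLib.CoprimeClass

open Subgroup Cfsg
open scoped commutatorElement Pointwise

universe u

variable {Γ : Type u} [Group Γ] [Finite Γ] {p : ℕ} [hp : Fact p.Prime] {A G : Subgroup Γ}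

theorem CopAct.card_map_eq (hA : CopAct p A G) {N S : Subgroup Γ} [N.Normal] (hN : N ≤ G) (hS : S ≤ A) :
    Nat.card (S.map (QuotientGroup.mk' N)) = Nat.card S := by
  refine (Nat.card_congr (Equiv.ofBijective
    (fun s : S => (⟨QuotientGroup.mk' N s, s, s.2, rfl⟩ : S.map (QuotientGroup.mk' N))) ⟨?_, ?_⟩)).symm
  · intro a b h
    have h1 : (a : Γ)⁻¹ * b ∈ N := QuotientGroup.eq.1 (congrArg Subtype.val h :)
    have h2 : (a : Γ)⁻¹ * b ∈ S ⊓ N := ⟨Subgroup.mul_mem _ (Subgroup.inv_mem _ a.2) b.2, h1⟩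
    rw [inf_eq_bot_of_coprime (hA.coprime hS hN), Subgroup.mem_bot, inv_mul_eq_one] at h2
    exact Subtype.ext h2
  · rintro ⟨_, s, hs, rfl⟩
    exact ⟨⟨s, hs⟩, rfl⟩

theorem CopAct.quot (hA : CopAct p A G) {N : Subgroup Γ} [N.Normal] :
    CopAct p (A.map (QuotientGroup.mk' N)) (G.map (QuotientGroup.mk' N)) where
  elem := by
    refine ⟨⟨⟨?_⟩⟩, ?_⟩
    · rintro ⟨_, a, ha, rfl⟩ ⟨_, b, hb, rfl⟩
      exact Subtype.ext (show QuotientGroup.mk' N a * QuotientGroup.mk' N b = _ * _ by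
        rw [← map_mul, ← map_mul, hA.comm ha hb])
    · rintro _ ⟨a, ha, rfl⟩
      rw [← map_pow, hA.elem.2 a ha, map_one]
  normal := hA.normal.map _ (QuotientGroup.mk'_surjective N)
  ndvd h := hA.ndvd (h.trans (card_map_dvd _ _))

theorem card_map_lt {N G : Subgroup Γ} [N.Normal] (hN : N ≤ G) (hne : N ≠ ⊥) :
    Nat.card (G.map (QuotientGroup.mk' N)) < Nat.card G := by
  let f : G → G.map (QuotientGroup.mk' N) := fun g => ⟨QuotientGroup.mk' N g, g, g.2, rfl⟩
  have hf : Function.Surjective f := by rintro ⟨_, g, hg, rfl⟩; exact ⟨⟨g, hg⟩, rfl⟩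
  refine lt_of_le_of_ne (Nat.card_le_card_of_surjective f hf) fun h => hne ((eq_bot_iff_forall N).2 fun n hn => ?_)
  have hbij := (Nat.bijective_iff_surjective_and_card f).2 ⟨hf, h.symm⟩
  have := hbij.1 (a₁ := ⟨n, hN hn⟩) (a₂ := 1) (Subtype.ext (((QuotientGroup.eq_one_iff n).2 hn).trans
    (map_one (QuotientGroup.mk' N)).symm))
  exact congrArg Subtype.val this

theorem mem_of_zpow_coprime {H : Subgroup Γ} {x : Γ} {a b : ℕ} (hab : a.Coprime b) (ha : x ^ a ∈ H)
    (hb : x ^ b ∈ H) : x ∈ H := by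
  have h := Nat.gcd_eq_gcd_ab a b
  rw [Nat.Coprime.gcd_eq_one hab, Nat.cast_one] at h
  rw [← zpow_one x, h, zpow_add, zpow_mul, zpow_mul, zpow_natCast, zpow_natCast]
  exact mul_mem (zpow_mem ha _) (zpow_mem hb _)

theorem pow_mem_of_factor {H N : Subgroup Γ} {y n : Γ} (hy : y ∈ H) (hn : n ∈ N)
    (hnH : n ∈ normalizer (H : Set Γ)) : (y * n) ^ Nat.card N ∈ H := by
  have key : ∀ j : ℕ, (y * n) ^ j * (n ^ j)⁻¹ ∈ H := by
    intro j
    induction j with
    | zero => simp
    | succ j ih =>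
      have h1 : n ^ j * y * (n ^ j)⁻¹ ∈ H :=
        (mem_normalizer_iff.1 (pow_mem hnH j) y).1 hy
      have := mul_mem ih h1
      convert this using 1
      simp only [pow_succ]
      group
  have h2 : n ^ Nat.card N = 1 := orderOf_dvd_iff_pow_eq_one.1 (orderOf_mk n hn ▸ orderOf_dvd_natCard (⟨n, hn⟩ : N))
  have := key (Nat.card N)
  rwa [h2, inv_one, mul_one] at this

theorem CopAct.quot_step (hA : CopAct p A G) {m : ℕ} {N : Subgroup Γ} [N.Normal] (hN : N ≤ G)
    (ih : ∀ B', Hyp p (A.map (QuotientGroup.mk' N)) B' →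
      (G.map (QuotientGroup.mk' N)).lowerCentralSeries m ⊓ centralizer (B' : Set (Γ ⧸ N)) ≤
        NB p m (A.map (QuotientGroup.mk' N)) (G.map (QuotientGroup.mk' N)) B')
    {B : Subgroup Γ} (hB : Hyp p A B) {x : Γ}
    (hx : x ∈ G.lowerCentralSeries m ⊓ centralizer (B : Set Γ)) :
    ∃ y ∈ NB p m A G B, ∃ n ∈ N ⊓ centralizer (B : Set Γ), x = y * n := by
  haveI := hA.normal
  set π := QuotientGroup.mk' N with hπ
  have hB' : Hyp p (A.map π) (B.map π) := ⟨map_mono hB.1, by
    rw [hA.card_map_eq hN le_rfl, hA.card_map_eq hN hB.1]; exact hB.2⟩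
  have hle : NB p m (A.map π) (G.map π) (B.map π) ≤ (NB p m A G B).map π := by
    refine iSup_le fun U' => ?_
    set U := B ⊓ U'.1.comap π with hU
    have hUm : U.map π = U'.1 := by
      refine le_antisymm ((map_mono inf_le_right).trans (map_comap_le π _)) fun v hv => ?_
      obtain ⟨b, hb, rfl⟩ := U'.2.1 hv
      exact ⟨b, ⟨hb, hv⟩, rfl⟩
    have hUA : U ≤ A := inf_le_left.trans hB.1
    have hUc : p ^ 2 ≤ Nat.card U := by
      rw [← hA.card_map_eq hN hUA, hUm]; exact U'.2.2.2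
    have hfix : fixH (G.map π) U'.1 = (fixH G U).map π := by
      rw [← hUm]
      exact le_antisymm (hA.map_inf_centralizer hUA le_rfl (hUA.trans hA.le_normalizer))
        (map_inf_centralizer_le π G U)
    rw [hfix, ← map_lowerCentralSeries]
    refine (hA.map_inf_centralizer hB.1 ((lowerCentralSeries_le_self _ m).trans inf_le_left)
      fun b hb => conj_mem_lcs (hA.le_normalizer_fixH hUA (hB.1 hb)) m).trans (map_mono ?_)
    exact le_NB inf_le_left hUA hUc
  have hx' : π x ∈ (G.map π).lowerCentralSeries m ⊓ centralizer (B.map π : Set (Γ ⧸ N)) := by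
    rw [← map_lowerCentralSeries]
    exact map_inf_centralizer_le π _ B ⟨x, hx, rfl⟩
  obtain ⟨y, hy, hxy⟩ := hle (ih _ hB' hx')
  refine ⟨y, hy, y⁻¹ * x, ⟨QuotientGroup.eq.1 hxy, ?_⟩, (mul_inv_cancel_left y x).symm⟩
  exact Subgroup.mul_mem _ (Subgroup.inv_mem _ (NB_le m B hy).2) hx.2

/-- The generation theorem. -/
theorem genC {k m : ℕ} (hmk : m + 3 ≤ k) : ∀ (n : ℕ) (Γ : Type u) [Group Γ] [Finite Γ] (A G : Subgroup Γ),
    Nat.card G = n → CopAct p A G → Nat.card A = p ^ k → Group.IsSolvable G → ∀ B, Hyp p A B →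
      G.lowerCentralSeries m ⊓ centralizer (B : Set Γ) ≤ NB p m A G B := by
  intro n
  induction n using Nat.strong_induction_on with
  | _ n ih =>
  intro Γ _ _ A G hn hA hk hsol B hB
  haveI := hA.normal
  haveI := hsol
  have hB2 : p ^ 2 ≤ Nat.card B := hB.coB.card_ge hk (by omega)
  rcases Nat.eq_zero_or_pos m with rfl | hm
  · rintro x ⟨hxG, hxB⟩
    exact le_NB le_rfl hB.1 hB2 ⟨⟨hxG, hxB⟩, hxB⟩
  have hstep : ∀ (N : Subgroup Γ), N.Normal → N ≠ ⊥ → N ≤ G →
      ∀ x ∈ G.lowerCentralSeries m ⊓ centralizer (B : Set Γ),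
        ∃ y ∈ NB p m A G B, ∃ u ∈ N ⊓ centralizer (B : Set Γ), x = y * u := by
    intro N hNn hne hNG x hx
    haveI := hNn
    refine hA.quot_step hNG (fun B' hB' => ih _ (hn ▸ card_map_lt hNG hne) _ _ _ rfl hA.quot
      (by rw [hA.card_map_eq hNG le_rfl, hk]) ?_ B' hB') hB hx
    exact Group.isSolvable_of_surjective (f := (QuotientGroup.mk' N).subgroupMap G)
      ((QuotientGroup.mk' N).subgroupMap_surjective G)
  have hdone : ∀ N : Subgroup Γ, N.Normal → N ≠ ⊥ → N ≤ G → N ⊓ centralizer (B : Set Γ) ≤ NB p m A G B →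
      G.lowerCentralSeries m ⊓ centralizer (B : Set Γ) ≤ NB p m A G B := by
    intro N hNn hne hNG hNB x hx
    obtain ⟨y, hy, u, hu, rfl⟩ := hstep N hNn hne hNG x hx
    exact mul_mem hy (hNB hu)
  by_cases hbot : G = ⊥
  · intro x hx
    have := lowerCentralSeries_le_self G m hx.1
    rw [hbot, Subgroup.mem_bot] at this
    rw [this]; exact one_mem _
  -- choose a prime with nontrivial core
  have hF : ∃ r : ℕ, r.Prime ∧ pCore r G ≠ ⊥ := by
    by_contra hc
    push Not at hc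
    have hfit : fittingSubgroup ↥G = ⊥ := by
      rw [CfsgLib.Cores.fittingSubgroup_eq_iSup_pCore]
      exact iSup_eq_bot.2 fun q => hc _ (Nat.prime_of_mem_primeFactors q.2)
    have := CfsgLib.Solvable.centralizer_fittingSubgroup_le (G := ↥G)
    rw [hfit] at this
    refine hbot ((eq_bot_iff_forall G).2 fun g hg => ?_)
    have h1 : (⟨g, hg⟩ : G) ∈ centralizer ((⊥ : Subgroup G) : Set G) := mem_centralizer_iff.2 fun y hy => by
      rw [Subgroup.mem_bot.1 hy, one_mul, mul_one]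
    exact congrArg Subtype.val (Subgroup.mem_bot.1 (this h1))
  obtain ⟨r, hr, hXne⟩ := hF
  haveI := Fact.mk hr
  haveI : (pCore r G).Characteristic := CfsgLib.Cores.pCore_characteristic r
  set X := (pCore r G).map G.subtype with hXdef
  haveI hXn : X.Normal := ConjAct.normal_of_characteristic_of_normal
  have hXG : X ≤ G := map_subtype_le _
  have hX : IsPGroup r X := (CfsgLib.Cores.isPGroup_pCore r).map _
  have hXne' : X ≠ ⊥ := fun h => hXne ((map_eq_bot_iff_of_injective _ G.subtype_injective).1 h)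
  by_cases hO : pPrimeCore r G = ⊥
  swap
  · -- two primes
    haveI : (pPrimeCore r G).Characteristic := CfsgLib.Cores.pPrimeCore_characteristic r
    set Y := (pPrimeCore r G).map G.subtype with hYdef
    have hYn : Y.Normal := ConjAct.normal_of_characteristic_of_normal
    have hYne : Y ≠ ⊥ := fun h => hO ((map_eq_bot_iff_of_injective _ G.subtype_injective).1 h)
    intro x hx
    have hnorm : ∀ u ∈ centralizer (B : Set Γ), u ∈ normalizer (NB p m A G B : Set Γ) :=
      fun u hu => hA.centralizer_le_normalizer_NB m B hu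
    obtain ⟨y, hy, u, hu, e⟩ := hstep X hXn hXne' hXG x hx
    obtain ⟨y', hy', u', hu', e'⟩ := hstep Y hYn hYne (map_subtype_le _) x hx
    refine mem_of_zpow_coprime ?_ (e ▸ pow_mem_of_factor hy hu.1 (hnorm u hu.2))
      (e' ▸ pow_mem_of_factor hy' hu'.1 (hnorm u' hu'.2))
    obtain ⟨a, ha⟩ := IsPGroup.iff_card.1 hX
    rw [ha, hYdef, card_map_of_injective G.subtype_injective]
    exact Nat.Coprime.pow_left _ (hr.coprime_iff_not_dvd.2 (CfsgLib.Cores.not_dvd_card_pPrimeCore r))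
  have hCX : G ⊓ centralizer (X : Set Γ) ≤ X := by
    rintro g ⟨hg, hgc⟩
    refine ⟨⟨g, hg⟩, CfsgLib.Solvable.centralizer_pCore_le r hO (mem_centralizer_iff.2 fun y hy => ?_), rfl⟩
    exact Subtype.ext (mem_centralizer_iff.1 hgc _ ⟨y, hy, rfl⟩)
  by_cases hXG' : G ≤ X
  · -- an `r`-group
    have hGr : IsPGroup r G := hX.to_le hXG'
    by_cases hK : G.lowerCentralSeries m = ⊥
    · intro x hx
      rw [hK] at hx
      rw [Subgroup.mem_bot.1 hx.1]; exact one_mem _
    obtain ⟨l, hl⟩ := (isNilpotent_iff_lowerCentralSeries G).1 hGr.isNilpotent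
    classical
    have hex : ∃ j, G.lowerCentralSeries j = ⊥ := ⟨l, hl⟩
    have hspec := Nat.find_spec hex
    have hgt : m < Nat.find hex := by
      by_contra h
      exact hK (le_bot_iff.1 ((Subgroup.lowerCentralSeries_antitone G (not_lt.1 h)).trans hspec.le))
    set M := Nat.find hex - 1 with hM
    have hMne : G.lowerCentralSeries M ≠ ⊥ := Nat.find_min hex (by omega)
    have hM1 : G.lowerCentralSeries (M + 1) = ⊥ := by
      rw [show M + 1 = Nat.find hex by omega]; exact hspec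
    have hNn := lcs_normal G M
    refine hdone _ hNn hMne (lowerCentralSeries_le_self G M)
      (hA.fixed_le_NB (lowerCentralSeries_le_self G M) (fun x hx y hy => ?_)
        (by rw [normalizer_eq_top]; exact le_top) hB (hA.good_lcs hk hmk (by omega) hM1))
    have := commutator_mem_commutator hx (lowerCentralSeries_le_self G M hy)
    change ⁅x, y⁆ ∈ G.lowerCentralSeries (M + 1) at this
    rwa [hM1, Subgroup.mem_bot, commutatorElement_eq_one_iff_mul_comm] at this
  -- a minimal normal subgroup outside `X`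
  obtain ⟨M, ⟨hMn, hMG, hMX⟩, hMmin⟩ := Set.exists_min_image
    {M : Subgroup Γ | M.Normal ∧ M ≤ G ∧ ¬ M ≤ X} (fun M => Nat.card M) (Set.toFinite _) ⟨G, ‹_›, le_rfl, hXG'⟩
  haveI := hMn
  have hMder : ⁅M, M⁆ ≤ X := by
    by_contra h
    have heq : ⁅M, M⁆ = M := eq_of_le_of_card_ge (commutator_le_self M)
      (hMmin _ ⟨inferInstance, (commutator_le_self M).trans hMG, h⟩)
    haveI : Group.IsSolvable M := CfsgLib.Solvable.isSolvable_of_le hsol hMG
    haveI : Nontrivial M := (nontrivial_iff_ne_bot M).2 fun h0 => hMX (h0 ▸ bot_le)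
    refine (Group.IsSolvable.commutator_lt_top_of_nontrivial ↥M).ne ?_
    apply map_injective M.subtype_injective
    rw [map_subtype_commutator, heq, ← MonoidHom.range_eq_map, range_subtype]
  set M₁ := M ⊔ X with hM₁
  have hM₁G : M₁ ≤ G := sup_le hMG hXG
  haveI : M₁.Normal := inferInstance
  have hcom : ∀ a ∈ M₁, ∀ b ∈ M₁, ⁅a, b⁆ ∈ X := by
    have hb : ∀ S : Subgroup Γ, S ≤ X ↔ S.map (QuotientGroup.mk' X) = ⊥ := fun S => by
      rw [Subgroup.map_eq_bot_iff, QuotientGroup.ker_mk']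
    intro a ha b hb'
    refine (hb ⁅M₁, M₁⁆).2 ?_ (commutator_mem_commutator ha hb')
    rw [map_commutator, hM₁, Subgroup.map_sup, (hb X).1 le_rfl, sup_bot_eq, ← map_commutator]
    exact (hb _).1 hMder
  obtain ⟨q, hq, hqd, hqr⟩ : ∃ q : ℕ, q.Prime ∧ q ∣ Nat.card M₁ ∧ q ≠ r := by
    by_contra hc
    push Not at hc
    have hMr : IsPGroup r M₁ := IsPGroup.iff_card.2 ⟨(Nat.card M₁).primeFactorsList.length,
      Nat.eq_prime_pow_of_unique_prime_dvd Nat.card_pos.ne' fun {d} hd hdd => hc d hd hdd⟩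
    haveI : (M₁.subgroupOf G).Normal := Subgroup.Normal.subgroupOf inferInstance G
    have := CfsgLib.Cores.le_pCore (N := M₁.subgroupOf G) (hMr.of_equiv (subgroupOfEquivOfLe hM₁G).symm)
    refine hMX (le_sup_left.trans ((map_subgroupOf_eq_of_le hM₁G).ge.trans (map_mono this)))
  haveI := Fact.mk hq
  obtain ⟨Q₀, hQ₀⟩ := CfsgLib.Solvable.exists_invariant_sylow A M₁ (by rw [normalizer_eq_top]; exact le_top)
    (hA.coprime le_rfl hM₁G) (Or.inl (hA.solvable le_rfl)) q
  set Q := (Q₀ : Subgroup M₁).map M₁.subtype with hQdef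
  have hQM : Q ≤ M₁ := map_subtype_le _
  have hQq : IsPGroup q Q := Q₀.2.map _
  have hQne : Q ≠ ⊥ := fun h => by
    have h1 : (Q₀ : Subgroup M₁) = ⊥ := (map_eq_bot_iff_of_injective _ M₁.subtype_injective).1 h
    exact Q₀.ne_bot_of_dvd_card hqd h1
  have hQX : Q ⊓ X = ⊥ := by
    refine inf_eq_bot_of_coprime ?_
    obtain ⟨a, ha⟩ := IsPGroup.iff_card.1 hQq
    obtain ⟨b, hb⟩ := IsPGroup.iff_card.1 hX
    rw [ha, hb]
    exact Nat.Coprime.pow _ _ ((Nat.coprime_primes hq hr).2 hqr)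
  have hXQn : (X ⊔ Q).Normal := by
    refine ⟨fun x hx g => ?_⟩
    suffices X ⊔ Q ≤ (X ⊔ Q).comap (MulAut.conj g).toMonoidHom from this hx
    refine sup_le (fun a ha => mem_sup_left (hXn.conj_mem a ha g)) fun a ha => ?_
    have hle : MulAut.conj g • Q ≤ M₁ := CfsgLib.Solvable.conj_smul_le_iff.2 fun b hb =>
      (inferInstance : M₁.Normal).conj_mem b (hQM hb) g
    obtain ⟨Q₁, hQ₁⟩ := CfsgLib.Solvable.exists_sylow_map_eq hle Q₀
      (by rw [CfsgLib.Solvable.card_conj_smul, hQdef, CfsgLib.Solvable.card_sylow_map])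
    obtain ⟨t, ht, hconj⟩ := CfsgLib.Solvable.exists_conj_sylow_map Q₀ Q₁
    have ha' : g * a * g⁻¹ ∈ MulAut.conj t • Q := by
      rw [hQdef, hconj, hQ₁]
      exact Subgroup.smul_mem_pointwise_smul a (MulAut.conj g) Q ha
    rw [CfsgLib.Solvable.conj_smul_eq_map] at ha'
    obtain ⟨b, hb, hbe⟩ := ha'
    show g * a * g⁻¹ ∈ X ⊔ Q
    rw [← hbe]
    show t * b * t⁻¹ ∈ X ⊔ Q
    rw [show t * b * t⁻¹ = ⁅t, b⁆ * b by simp only [commutatorElement_def]; group]
    exact mul_mem (mem_sup_left (hcom t ht b (hQM hb))) (mem_sup_right hb)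
  have hnc : ¬ Q ≤ centralizer (X : Set Γ) := fun h => hQne (le_bot_iff.1
    (hQX ▸ le_inf le_rfl ((le_inf (hQM.trans hM₁G) h).trans hCX)))
  obtain ⟨N, hNn, hNne, hNG, hNab, hNgen⟩ := hA.exists_good hqr.symm hk hmk hm hXG hX hQq (hQM.trans hM₁G)
    hQ₀ hXQn hnc
  exact hdone N hNn hNne hNG (hA.fixed_le_NB hNG hNab (by rw [normalizer_eq_top]; exact le_top) hB hNgen)

end CfsgLib.CoprimeClass
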