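import Cfsg.Agent.S3779

/-!
Kreknin's argument when the zero component acts nilpotently, and the passage from the fixed points of the
hyperplanes of an elementary abelian group of automorphisms to the whole Lie ring.
-/

set_option autoImplicit false
set_option linter.unusedSectionVars false

namespace CfsgLib.CoprimeClass

open CfsgLib.PGroup.Kreknin

universe u

variable {M : Type u} [AddCommGroup M] (β : Bracket M)

/-- Iterated bracket from the right. -/
def evl (x : M) : List M → M
  | [] => x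
  | y :: l => evl (β.B x y) l

theorem evl_zero (l : List M) : evl β 0 l = 0 := by
  induction l with
  | nil => rfl
  | cons y l ih => simp only [evl, map_zero, AddMonoidHom.zero_apply, ih]

theorem evl_sub (l : List M) : ∀ x y : M, evl β (x - y) l = evl β x l - evl β y l := by
  induction l with
  | nil => intro x y; rfl
  | cons s l ih => intro x y; simp only [evl, map_sub, AddMonoidHom.sub_apply, ih]

theorem evl_neg (l : List M) (x : M) : evl β (-x) l = - evl β x l := by
  have := evl_sub β l 0 x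
  rwa [zero_sub, evl_zero, zero_sub] at this

theorem evl_add (l : List M) (x y : M) : evl β (x + y) l = evl β x l + evl β y l := by
  rw [← sub_neg_eq_add x y, evl_sub, evl_neg, sub_neg_eq_add]

theorem evl_append (l₁ : List M) : ∀ (x : M) (l₂ : List M), evl β x (l₁ ++ l₂) = evl β (evl β x l₁) l₂ := by
  induction l₁ with
  | nil => intro x l₂; rfl
  | cons s l ih => intro x l₂; exact ih _ _

/-- The span of the brackets with `j` entries in `Y`. -/
def lay (Y : Set M) (j : ℕ) : AddSubgroup M :=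
  AddSubgroup.closure {m | ∃ (x : M) (l : List M), l.length = j ∧ (∀ y ∈ l, y ∈ Y) ∧ evl β x l = m}

theorem evl_mem_lay {Y : Set M} {l : List M} (hl : ∀ y ∈ l, y ∈ Y) (x : M) : evl β x l ∈ lay β Y l.length :=
  AddSubgroup.subset_closure ⟨x, l, rfl, hl, rfl⟩

theorem lay_zero (Y : Set M) : lay β Y 0 = ⊤ :=
  top_le_iff.1 fun x _ => evl_mem_lay β (l := []) (by simp) x

theorem bracket_mem_lay {Y : Set M} {j : ℕ} {u y : M} (hu : u ∈ lay β Y j) (hy : y ∈ Y) :
    β.B u y ∈ lay β Y (j + 1) := by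
  refine AddSubgroup.closure_induction (p := fun u _ => β.B u y ∈ lay β Y (j + 1)) ?_ ?_ ?_ ?_ hu
  · rintro _ ⟨x, l, rfl, hl, rfl⟩
    have h := evl_mem_lay β (l := l ++ [y]) (Y := Y) (fun z hz => by
      rcases List.mem_append.1 hz with hz | hz
      · exact hl z hz
      · rw [List.mem_singleton.1 hz]; exact hy) x
    rw [evl_append, List.length_append] at h
    exact h
  · rw [map_zero]; exact zero_mem _
  · intro u v _ _ hu hv; rw [map_add, AddMonoidHom.add_apply]; exact add_mem hu hv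
  · intro u _ hu; rw [map_neg, AddMonoidHom.neg_apply]; exact neg_mem hu

theorem evl_mem_lay_add {Y : Set M} : ∀ (l : List M), (∀ y ∈ l, y ∈ Y) → ∀ {i : ℕ} {u : M},
    u ∈ lay β Y i → evl β u l ∈ lay β Y (i + l.length) := by
  intro l
  induction l with
  | nil => intro _ i u hu; exact hu
  | cons y l ih =>
    intro hl i u hu
    have := ih (fun z hz => hl z (List.mem_cons_of_mem _ hz)) (bracket_mem_lay β hu (hl y List.mem_cons_self))
    rw [add_assoc, add_comm 1] at this
    exact this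

theorem lay_succ_le {Y : Set M} {j : ℕ} {Z : AddSubgroup M}
    (h : ∀ u ∈ lay β Y j, ∀ y ∈ Y, β.B u y ∈ Z) : lay β Y (j + 1) ≤ Z := by
  refine (AddSubgroup.closure_le _).2 ?_
  rintro _ ⟨x, l, hlen, hl, rfl⟩
  have hne : l ≠ [] := fun he => by rw [he] at hlen; simp at hlen
  rw [← List.dropLast_append_getLast hne, evl_append]
  have hd : l.dropLast.length = j := by rw [List.length_dropLast, hlen]; omega
  exact h _ (hd ▸ evl_mem_lay β (fun y hy => hl y (List.dropLast_subset _ hy)) x) _ (hl _ (List.getLast_mem hne))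

theorem lay_antitone (Y : Set M) : Antitone (lay β Y) := by
  refine antitone_nat_of_succ_le fun j => ?_
  refine (AddSubgroup.closure_le _).2 ?_
  rintro _ ⟨x, l, hlen, hl, rfl⟩
  obtain ⟨y, l', rfl⟩ := List.exists_cons_of_ne_nil (fun he => by rw [he] at hlen; simp at hlen : l ≠ [])
  have h := evl_mem_lay β (fun z hz => hl z (List.mem_cons_of_mem y hz)) (β.B x y) (l := l')
  rwa [show l'.length = j by simpa using hlen] at h

theorem lay_mono {Y Y' : Set M} (h : Y ⊆ Y') (j : ℕ) : lay β Y j ≤ lay β Y' j :=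
  AddSubgroup.closure_mono fun _ ⟨x, l, hlen, hl, he⟩ => ⟨x, l, hlen, fun y hy => h (hl y hy), he⟩

theorem lay_closure (Φ : Set M) : ∀ j, lay β (AddSubgroup.closure Φ : Set M) j ≤ lay β Φ j := by
  intro j
  induction j with
  | zero => rw [lay_zero, lay_zero]
  | succ j ih =>
    refine lay_succ_le β fun u hu y hy => ?_
    refine AddSubgroup.closure_induction (p := fun y _ => β.B u y ∈ lay β Φ (j + 1)) ?_ ?_ ?_ ?_ hy
    · exact fun y hy => bracket_mem_lay β (ih hu) hy
    · rw [map_zero]; exact zero_mem _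
    · intro a b _ _ ha hb; rw [map_add]; exact add_mem ha hb
    · intro a _ ha; rw [map_neg]; exact neg_mem ha

/-! ### The generalised Kreknin argument -/

section Kreknin

variable {p : ℕ} [hp : Fact p.Prime]

theorem word_zero {S : Fam M p} (hS : br β S S ≤ S) {k : ℕ} {a : ZMod p} {y : M} (hy : Word β S k a y) :
    ∀ {s : M}, s ∈ S 0 → β.B y s ∈ gen β S k a := by
  induction hy with
  | @leaf a x ha hx =>
    intro s hs
    have := hS _ (mem_br β hx hs)
    rw [add_zero] at this
    exact AddSubgroup.subset_closure (Word.leaf ha this)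
  | @step a t w z hw ht hz ih =>
    intro s hs
    have e : β.B (β.B w z) s = β.B (β.B w s) z + β.B w (β.B z s) := by rw [β.right w z s]; abel
    rw [e]
    refine add_mem ?_ ?_
    · refine AddSubgroup.closure_induction (p := fun u _ => β.B u z ∈ gen β S k (a + t)) ?_ ?_ ?_ ?_ (ih hs)
      · exact fun u hu => AddSubgroup.subset_closure (Word.step hu ht hz)
      · rw [map_zero]; exact zero_mem _
      · intro u v _ _ hu hv; rw [map_add, AddMonoidHom.add_apply]; exact add_mem hu hv
      · intro u _ hu; rw [map_neg, AddMonoidHom.neg_apply]; exact neg_mem hu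
    · have := hS _ (mem_br β hz hs)
      rw [add_zero] at this
      exact AddSubgroup.subset_closure (Word.step hw ht this)

theorem gen_bracket_zero {S : Fam M p} (hS : br β S S ≤ S) {k : ℕ} {a : ZMod p} {u s : M}
    (hu : u ∈ gen β S k a) (hs : s ∈ S 0) : β.B u s ∈ gen β S k a := by
  refine AddSubgroup.closure_induction (p := fun u _ => β.B u s ∈ gen β S k a) ?_ ?_ ?_ ?_ hu
  · exact fun u hu => word_zero β hS hu hs
  · rw [map_zero]; exact zero_mem _
  · intro u v _ _ hu hv; rw [map_add, AddMonoidHom.add_apply]; exact add_mem hu hv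
  · intro u _ hu; rw [map_neg, AddMonoidHom.neg_apply]; exact neg_mem hu

/-- The error target in degree `k + 1`. -/
def tgt (S : Fam M p) (Y : Set M) (k j : ℕ) : AddSubgroup M :=
  gen β S (k + 1) ((k + 1 : ℕ) : ZMod p) ⊔ lay β Y j

theorem tgt_bracket {S : Fam M p} (hS : br β S S ≤ S) {Y : Set M} {k j : ℕ} {u b : M}
    (hu : u ∈ tgt β S Y k j) (hbS : b ∈ S 0) (hbY : b ∈ Y) : β.B u b ∈ tgt β S Y k (j + 1) := by
  obtain ⟨g, hg, w, hw, rfl⟩ := AddSubgroup.mem_sup.1 hu
  rw [map_add, AddMonoidHom.add_apply]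
  exact add_mem (AddSubgroup.mem_sup_left (gen_bracket_zero β hS hg hbS))
    (AddSubgroup.mem_sup_right (bracket_mem_lay β hw hbY))

theorem word_complement_nil {S U : Fam M p} (hS : br β S S ≤ S) (hU : br β U U ≤ U) (hUS : U ≤ S)
    {Y : Set M} (hUY : (U 0 : Set M) ⊆ Y) {k j : ℕ}
    (hUj : U ((k + 1 : ℕ) : ZMod p) ≤ tgt β S Y k j) {a : ZMod p} {y : M} (hy : Word β U k a y) :
    y ∈ U a ∧ ∀ {c : ZMod p} {b : M}, b ∈ U c → c + a = ((k + 1 : ℕ) : ZMod p) →
      β.B b y ∈ tgt β S Y k (j + 1) := by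
  have key : ∀ {c s : ZMod p} {b z : M}, b ∈ U c → z ∈ U s → k < s.val → c + s = ((k + 1 : ℕ) : ZMod p) →
      β.B b z ∈ tgt β S Y k (j + 1) := by
    intro c s b z hb hz hs hcs
    rcases Nat.lt_or_ge (k + 1) s.val with hlt | hge
    · have hc : c = ((k + 1 : ℕ) : ZMod p) - s := eq_sub_of_add_eq hcs
      have := Word.step (β := β) (Word.leaf (β := β) (hc ▸ wrap_val hlt) (hUS _ hb)) hlt (hUS _ hz)
      rw [hcs] at this
      exact AddSubgroup.mem_sup_left (AddSubgroup.subset_closure this)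
    · have hse : s = ((k + 1 : ℕ) : ZMod p) := by
        rw [← ZMod.natCast_zmod_val s]; congr 1; omega
      have hc : c = 0 := by rw [hse] at hcs; exact (add_eq_right).1 hcs
      rw [β.skew]
      exact neg_mem (tgt_bracket β hS (hUj (hse ▸ hz)) (hUS _ (hc ▸ hb)) (hUY (hc ▸ hb)))
  induction hy with
  | leaf ha hy => exact ⟨hy, fun hb hc => key hb hy ha hc⟩
  | @step d s w z hw hs hz ih =>
    refine ⟨hU _ (mem_br β ih.1 hz), fun {c b} hb hc => ?_⟩
    rw [β.right]
    refine sub_mem (key (hU _ (mem_br β hb ih.1)) hz hs (by rw [← hc, add_assoc])) ?_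
    exact ih.2 (hU _ (mem_br β hb hz)) (by rw [← hc, add_assoc, add_comm d])

/-- The derived lengths needed to reach degrees above `k`. -/
def fK (N : ℕ) : ℕ → ℕ
  | 0 => 0
  | k + 1 => N * (fK N k + 1) + fK N k

theorem kreknin_nil_aux {Y : Set M} {N : ℕ} (hY : lay β Y N = ⊥) : ∀ k, ∀ S : Fam M p, br β S S ≤ S →
    (S 0 : Set M) ⊆ Y → ∀ a : ZMod p, a ≠ 0 → der β S (fK N k) a ≤ gen β S k a := by
  intro k
  induction k with
  | zero =>
    intro S _ _ a ha x hx
    exact AddSubgroup.subset_closure (Word.leaf (Nat.pos_of_ne_zero fun h => ha ((ZMod.val_eq_zero a).1 h)) hx)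
  | succ k ih =>
    intro S hS hS0 a ha
    set f := fK N k with hf
    have hcl := fun n => der_closed β hS n
    have hY' : ∀ n, (der β S n 0 : Set M) ⊆ Y := fun n x hx => hS0 (der_le β hS n 0 hx)
    have hdeg : k + 1 < p → ∀ j, der β S (j * (f + 1)) ((k + 1 : ℕ) : ZMod p) ≤ tgt β S Y k j := by
      intro hkp j
      have hne : ((k + 1 : ℕ) : ZMod p) ≠ 0 := by
        rw [Ne, ZMod.natCast_eq_zero_iff]
        exact fun h => absurd (Nat.le_of_dvd (Nat.succ_pos k) h) (by omega)
      induction j with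
      | zero => intro x _; exact AddSubgroup.mem_sup_right (lay_zero β Y ▸ AddSubgroup.mem_top x)
      | succ j ihj =>
        rw [show (j + 1) * (f + 1) = j * (f + 1) + f + 1 by ring]
        refine (AddSubgroup.closure_le _).2 ?_
        rintro _ ⟨i, i', hij, d, hd, d', hd', rfl⟩
        have main : ∀ i i' : ZMod p, i + i' = ((k + 1 : ℕ) : ZMod p) → i' ≠ 0 →
            ∀ d ∈ der β S (j * (f + 1) + f) i, ∀ d' ∈ der β S (j * (f + 1) + f) i',
            β.B d d' ∈ tgt β S Y k (j + 1) := by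
          intro i i' hij hi' d hd d' hd'
          rw [← der_add] at hd hd'
          have hd'' := ih _ (hcl _) (hY' _) i' hi' hd'
          have hdU := der_le β (hcl _) f i hd
          refine AddSubgroup.closure_induction (p := fun u _ => β.B d u ∈ tgt β S Y k (j + 1)) ?_ ?_ ?_ ?_ hd''
          · intro u hu
            exact (word_complement_nil β hS (hcl _) (der_le β hS _) (hY' _) ihj hu).2 hdU hij
          · rw [map_zero]; exact zero_mem _
          · intro u v _ _ hu hv; rw [map_add]; exact add_mem hu hv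
          · intro u _ hu; rw [map_neg]; exact neg_mem hu
        by_cases hi' : i' = 0
        · rw [β.skew]
          exact neg_mem (main i' i (by rw [add_comm]; exact hij)
            (fun h => hne (by rw [← hij, h, hi', add_zero])) d' hd' d hd)
        · exact main i i' hij hi' d hd d' hd'
    rw [show fK N (k + 1) = N * (f + 1) + f from rfl, ← der_add]
    refine (ih _ (hcl _) (hY' _) a ha).trans (gen_le β (gen_closed β S (k + 1)) (fun b hb => ?_) a)
    rcases Nat.lt_or_ge (k + 1) b.val with hlt | hge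
    · exact fun x hx => AddSubgroup.subset_closure (Word.leaf hlt (der_le β hS _ b hx))
    have hbe : b = ((k + 1 : ℕ) : ZMod p) := by rw [← ZMod.natCast_zmod_val b]; congr 1; omega
    have hkp : k + 1 < p := by have := ZMod.val_lt b; omega
    rw [hbe]
    refine (hdeg hkp N).trans ?_
    rw [tgt, hY, sup_bot_eq]

/-- The derived length in the generalised Kreknin theorem. -/
def sK (p N : ℕ) : ℕ := fK N (p - 1) + N

/-- A closed family whose zero component acts nilpotently is soluble of bounded length. -/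
theorem kreknin_nil {Y : Set M} {N : ℕ} (hY : lay β Y N = ⊥) {S : Fam M p} (hS : br β S S ≤ S)
    (hS0 : (S 0 : Set M) ⊆ Y) : der β S (sK p N) = ⊥ := by
  set f := fK N (p - 1)
  have hnz : ∀ a : ZMod p, a ≠ 0 → der β S f a = ⊥ := fun a ha => le_bot_iff.1 <|
    (kreknin_nil_aux β hY (p - 1) S hS hS0 a ha).trans ((AddSubgroup.closure_le _).2 fun x hx => by
      induction hx with
      | @leaf b y hb hy => exact absurd (ZMod.val_lt b) (by omega)
      | @step b s y z _ hs _ _ => exact absurd (ZMod.val_lt s) (by omega))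
  have hnz' : ∀ j, ∀ a : ZMod p, a ≠ 0 → der β S (f + j) a = ⊥ := fun j a ha => by
    refine le_bot_iff.1 ((hnz a ha).le.trans' ?_)
    rw [← der_add]
    exact der_le β (der_closed β hS f) j a
  have h0 : ∀ j, der β S (f + j) 0 ≤ lay β Y j := by
    intro j
    induction j with
    | zero => intro x _; exact lay_zero β Y ▸ AddSubgroup.mem_top x
    | succ j ih =>
      refine (AddSubgroup.closure_le _).2 ?_
      rintro _ ⟨i, i', hij, d, hd, d', hd', rfl⟩
      by_cases hi : i = 0
      · have hi' : i' = 0 := by rwa [hi, zero_add] at hij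
        rw [hi] at hd
        rw [hi'] at hd'
        exact bracket_mem_lay β (ih hd) (hS0 (der_le β hS _ 0 hd'))
      · change d ∈ der β S (f + j) i at hd
        rw [hnz' j i hi, AddSubgroup.mem_bot] at hd
        simp [hd]
  refine funext fun a => ?_
  by_cases ha : a = 0
  · rw [ha]; exact le_bot_iff.1 (hY ▸ h0 N)
  · exact hnz' N a ha

end Kreknin

/-! ### Derived series of a subgroup -/

/-- Derived series of a subgroup. -/
def Dd (R : AddSubgroup M) : ℕ → AddSubgroup M
  | 0 => R
  | i + 1 => AddSubgroup.closure {m | ∃ u ∈ Dd R i, ∃ v ∈ Dd R i, β.B u v = m}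

theorem Dd_succ_le {R : AddSubgroup M} (hR : ∀ u ∈ R, ∀ v ∈ R, β.B u v ∈ R) : ∀ i, Dd β R (i + 1) ≤ Dd β R i
  | 0 => (AddSubgroup.closure_le _).2 (by rintro _ ⟨u, hu, v, hv, rfl⟩; exact hR u hu v hv)
  | i + 1 => AddSubgroup.closure_mono fun _ ⟨u, hu, v, hv, e⟩ =>
      ⟨u, Dd_succ_le hR i hu, v, Dd_succ_le hR i hv, e⟩

theorem Dd_le {R : AddSubgroup M} (hR : ∀ u ∈ R, ∀ v ∈ R, β.B u v ∈ R) : ∀ i, Dd β R i ≤ R
  | 0 => le_rfl
  | i + 1 => (Dd_succ_le β hR i).trans (Dd_le hR i)

/-- The restricted bracket. -/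
def restrictB (R : AddSubgroup M) (hR : ∀ u ∈ R, ∀ v ∈ R, β.B u v ∈ R) : Bracket R where
  B := AddMonoidHom.mk' (fun u => AddMonoidHom.mk' (fun v => (⟨β.B u v, hR u u.2 v v.2⟩ : R))
      (fun v w => Subtype.ext (map_add (β.B u) (v : M) w)))
    (fun u u' => AddMonoidHom.ext fun v => Subtype.ext (by simp))
  skew u v := Subtype.ext (β.skew u v)
  jac u v w := Subtype.ext (β.jac u v w)

theorem mem_of_nsmul_mem {T : AddSubgroup M} {n e : ℕ} (hne : n.Coprime e) {v : M} (he : e • v = 0)
    (h : n • v ∈ T) : v ∈ T := by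
  have hb := Nat.gcd_eq_gcd_ab n e
  rw [Nat.Coprime.gcd_eq_one hne, Nat.cast_one] at hb
  have : v = Nat.gcdA n e • (n • v) + Nat.gcdB n e • (e • v) := by
    conv_lhs => rw [← one_zsmul v, hb]
    rw [add_zsmul, ← natCast_zsmul v n, ← natCast_zsmul v e, smul_smul, smul_smul, mul_comm (n : ℤ),
      mul_comm (e : ℤ)]
  rw [this, he, smul_zero, add_zero]
  exact zsmul_mem h _

section Transfer

variable {p : ℕ} [hp : Fact p.Prime]

open Cfsg.Agent.S3779 in
theorem Dd_eq_bot {e : ℕ} (hpe : p.Coprime e) (he : ∀ v : M, e • v = 0) (A : M →+ M)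
    (hAB : ∀ u v, A (β.B u v) = β.B (A u) (A v)) {R : AddSubgroup M} (hR : ∀ u ∈ R, ∀ v ∈ R, β.B u v ∈ R)
    (hAR : ∀ u ∈ R, A u ∈ R) (hAp : ∀ u ∈ R, A^[p] u = u) {Y : Set M}
    (hY : ∀ u ∈ R, A u = u → u ∈ Y) {N : ℕ} (hN : lay β Y N = ⊥) : Dd β R (sK p N) = ⊥ := by
  set βR := restrictB β R hR
  let AR : R →+ R := AddMonoidHom.mk' (fun u => ⟨A u, hAR u u.2⟩) (fun u v => Subtype.ext (map_add A (u : M) v))
  have hit : ∀ (i : ℕ) (u : R), ((AR^[i] u : R) : M) = A^[i] (u : M) := by
    intro i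
    induction i with
    | zero => intro u; rfl
    | succ i ih =>
      intro u
      rw [Function.iterate_succ_apply', Function.iterate_succ_apply']
      show A _ = _
      rw [ih]
  have hARp : ∀ u, AR^[p] u = u := fun u => Subtype.ext ((hit p u).trans (hAp u u.2))
  set S : Fam (ZMod p → R) p := eigen AR
  have hSc : br (convB βR) S S ≤ S := eigen_closed βR AR fun u v => Subtype.ext (hAB u v)
  let Y' : Set (ZMod p → R) := {f | ∀ k, ((f k : R) : M) ∈ Y}
  have hval : ∀ (l : List (ZMod p → R)), (∀ g ∈ l, g ∈ Y') → ∀ (i : ℕ) (f : ZMod p → R),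
      (∀ k, ((f k : R) : M) ∈ lay β Y i) → ∀ k, ((evl (convB βR) f l k : R) : M) ∈ lay β Y (i + l.length) := by
    intro l
    induction l with
    | nil => intro _ i f hf k; exact hf k
    | cons g l ih =>
      intro hl i f hf k
      rw [List.length_cons, show i + (l.length + 1) = i + 1 + l.length by omega]
      refine ih (fun z hz => hl z (List.mem_cons_of_mem _ hz)) (i + 1) _ (fun k => ?_) k
      show ((∑ t : ZMod p, βR.B (f t) (g (k - t)) : R) : M) ∈ _
      rw [AddSubgroup.val_finsetSum]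
      exact sum_mem fun t _ => bracket_mem_lay β (hf t) (hl g List.mem_cons_self _)
  have hN' : lay (convB βR) Y' N = ⊥ := by
    refine le_bot_iff.1 ((AddSubgroup.closure_le _).2 ?_)
    rintro _ ⟨x, l, hlen, hl, rfl⟩
    refine AddSubgroup.mem_bot.2 (funext fun k => Subtype.ext ?_)
    have := hval l hl 0 x (fun k => lay_zero β Y ▸ AddSubgroup.mem_top _) k
    rw [zero_add, hlen, hN, AddSubgroup.mem_bot] at this
    exact this
  have hS0 : (S 0 : Set (ZMod p → R)) ⊆ Y' := fun f hf k =>
    hY _ (f k).2 (by simpa [AR, Subtype.ext_iff] using hf.2 k)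
  have hder := kreknin_nil (convB βR) hN' hSc hS0
  have hbr : ∀ i, ∀ F ∈ ⨆ j, der (convB βR) S i j, ∀ F' ∈ ⨆ j, der (convB βR) S i j,
      conv βR F F' ∈ ⨆ j, der (convB βR) S (i + 1) j := by
    intro i F hF F' hF'
    induction hF using AddSubgroup.iSup_induction' with
    | hp a x hx =>
      induction hF' using AddSubgroup.iSup_induction' with
      | hp b y hy => exact AddSubgroup.mem_iSup_of_mem (a + b) (mem_br (convB βR) hx hy)
      | h1 => rw [map_zero]; exact zero_mem _
      | hadd a b _ _ ha hb => rw [map_add]; exact add_mem ha hb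
    | h1 => rw [map_zero, AddMonoidHom.zero_apply]; exact zero_mem _
    | hadd a b _ _ ha hb => rw [map_add, AddMonoidHom.add_apply]; exact add_mem ha hb
  have key : ∀ i, ∀ v : R, (v : M) ∈ Dd β R i → ∃ t, p ^ t • uu (p := p) v ∈ ⨆ j, der (convB βR) S i j := by
    intro i
    induction i with
    | zero => intro v _; exact ⟨1, by rw [pow_one]; exact p_nsmul_uu_mem AR hARp v⟩
    | succ i ih =>
      rintro ⟨v, hvR⟩ (hv : v ∈ Dd β R (i + 1))
      have hle : Dd β R (i + 1) ≤ R := Dd_le β hR _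
      refine AddSubgroup.closure_induction (p := fun w hw =>
        ∃ t, p ^ t • uu (p := p) (⟨w, hle hw⟩ : R) ∈ ⨆ j, der (convB βR) S (i + 1) j) ?_ ?_ ?_ ?_ hv
      · rintro _ ⟨a, ha, b, hb, rfl⟩
        obtain ⟨t, ht⟩ := ih ⟨a, Dd_le β hR _ ha⟩ ha
        obtain ⟨t', ht'⟩ := ih ⟨b, Dd_le β hR _ hb⟩ hb
        refine ⟨t + t' + 1, ?_⟩
        have h2 := hbr i _ ht _ ht'
        rw [map_nsmul, map_nsmul, AddMonoidHom.smul_apply, conv_uu, ← mul_nsmul', ← mul_nsmul'] at h2
        convert h2 using 2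
        all_goals first | rfl | ring
      · refine ⟨0, ?_⟩
        rw [show (⟨(0 : M), _⟩ : R) = 0 from rfl, map_zero, smul_zero]; exact zero_mem _
      · rintro a b ha hb ⟨t, ht⟩ ⟨t', ht'⟩
        refine ⟨t + t', ?_⟩
        rw [show (⟨a + b, _⟩ : R) = (⟨a, hle ha⟩ : R) + ⟨b, hle hb⟩ from rfl, map_add, smul_add]
        refine add_mem ?_ ?_
        · rw [pow_add, mul_comm, mul_nsmul']; exact nsmul_mem ht _
        · rw [pow_add, mul_nsmul']; exact nsmul_mem ht' _
      · rintro a ha ⟨t, ht⟩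
        refine ⟨t, ?_⟩
        rw [show (⟨-a, _⟩ : R) = -(⟨a, hle ha⟩ : R) from rfl, map_neg, smul_neg]; exact neg_mem ht
  refine le_bot_iff.1 fun v hv => AddSubgroup.mem_bot.2 ?_
  obtain ⟨t, ht⟩ := key _ ⟨v, Dd_le β hR _ hv⟩ hv
  rw [hder, show (⨆ j : ZMod p, (⊥ : Fam (ZMod p → R) p) j) = ⊥ from iSup_bot, AddSubgroup.mem_bot] at ht
  have h1 := congrArg (fun w : R => (w : M)) (congrFun ht 1)
  have hne : (1 : ZMod p) ≠ 0 := one_ne_zero
  simp only [Pi.smul_apply, uu, AddMonoidHom.coe_mk, ZeroHom.coe_mk, if_neg hne, zero_sub, smul_neg,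
    Pi.zero_apply, neg_eq_zero, AddSubgroup.coe_nsmul, ZeroMemClass.coe_zero, NegMemClass.coe_neg] at h1
  exact AddSubgroup.mem_bot.1 (mem_of_nsmul_mem (Nat.Coprime.pow_left t hpe) (he v)
    (AddSubgroup.mem_bot.2 h1))

end Transfer

/-! ### The ideal trick -/

theorem lay_bracket_mem {D' D : AddSubgroup M} (h : ∀ u ∈ D', ∀ d ∈ D, β.B u d ∈ D') :
    ∀ t, ∀ v ∈ lay β (D' : Set M) t, ∀ d ∈ D, β.B v d ∈ lay β (D' : Set M) t := by
  intro t
  induction t with
  | zero => intro v _ d _; rw [lay_zero]; exact AddSubgroup.mem_top _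
  | succ t ih =>
    intro v hv d hd
    refine (lay_succ_le β (Z := (lay β (D' : Set M) (t + 1)).comap (β.B.flip d)) fun u hu y hy => ?_) hv
    show β.B (β.B u y) d ∈ lay β (D' : Set M) (t + 1)
    rw [show β.B (β.B u y) d = β.B (β.B u d) y + β.B u (β.B y d) from by rw [β.right u y d]; abel]
    exact add_mem (bracket_mem_lay β (ih u hu d hd) hy) (bracket_mem_lay β hu (h y hy d hd))

theorem evl_mem_inv {J D : AddSubgroup M} (h : ∀ v ∈ J, ∀ d ∈ D, β.B v d ∈ J) :
    ∀ (l : List M), (∀ y ∈ l, y ∈ D) → ∀ {x : M}, x ∈ J → evl β x l ∈ J := by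
  intro l
  induction l with
  | nil => intro _ x hx; exact hx
  | cons y l ih => intro hl x hx; exact ih (fun z hz => hl z (List.mem_cons_of_mem _ hz)) (h x hx y (hl y List.mem_cons_self))

theorem evl_perm {J J' D : AddSubgroup M} (hJ : ∀ v ∈ J, ∀ d ∈ D, β.B v d ∈ J)
    (hJ' : ∀ v ∈ J', ∀ d ∈ D, β.B v d ∈ J') (hJD : ∀ v ∈ J, ∀ d ∈ D, ∀ d' ∈ D, β.B v (β.B d d') ∈ J')
    {l l' : List M} (hll : l.Perm l') : (∀ y ∈ l, y ∈ D) → ∀ {x : M}, x ∈ J → evl β x l - evl β x l' ∈ J' := by
  induction hll with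
  | nil => intro _ x _; simp [evl]
  | @cons y l₁ l₂ _ ih =>
    intro hl x hx
    exact ih (fun z hz => hl z (List.mem_cons_of_mem _ hz)) (hJ x hx y (hl y List.mem_cons_self))
  | swap s t l₁ =>
    intro hl x hx
    simp only [evl]
    rw [← evl_sub, ← β.right x t s]
    exact evl_mem_inv β hJ' l₁ (fun u hu => hl u (List.mem_cons_of_mem _ (List.mem_cons_of_mem _ hu)))
      (hJD x hx t (hl t List.mem_cons_self) s (hl s (List.mem_cons_of_mem _ List.mem_cons_self)))
  | @trans l₁ l₂ l₃ h12 _ ih₁ ih₂ =>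
    intro hl x hx
    have := add_mem (ih₁ hl hx) (ih₂ (fun s hs => hl s (h12.mem_iff.2 hs)) hx)
    rwa [sub_add_sub_cancel] at this

theorem ideal_trick {ι : Type*} [Fintype ι] (F : ι → Set M) {N₀ : ℕ} (hF : ∀ i, lay β (F i) N₀ = ⊥)
    {D D' : AddSubgroup M} (hD : D ≤ AddSubgroup.closure ((D : Set M) ∩ ⋃ i, F i))
    (hDD : ∀ u ∈ D, ∀ v ∈ D, β.B u v ∈ D') (hD'D : ∀ u ∈ D', ∀ d ∈ D, β.B u d ∈ D')
    {N' : ℕ} (hN' : lay β (D' : Set M) N' = ⊥) :
    lay β (D : Set M) (N' * (Fintype.card ι * N₀ + 1)) = ⊥ := by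
  classical
  set R := Fintype.card ι * N₀ + 1 with hR
  set V := lay β (D' : Set M) with hV
  have hVinv := lay_bracket_mem β hD'D
  have hstep : ∀ t, ∀ u ∈ V t, ∀ l : List M, l.length = R → (∀ y ∈ l, y ∈ (D : Set M) ∩ ⋃ i, F i) →
      evl β u l ∈ V (t + 1) := by
    intro t u hu l hlen hl
    obtain ⟨i, hi⟩ : ∃ i, N₀ ≤ l.countP (fun y => decide (y ∈ F i)) := by
      by_contra hcon
      push Not at hcon
      have hle : ∀ l : List M, (∀ y ∈ l, y ∈ ⋃ i, F i) →
          l.length ≤ ∑ i, l.countP (fun y => decide (y ∈ F i)) := by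
        intro l
        induction l with
        | nil => simp
        | cons y l ih =>
          intro hy
          obtain ⟨i₀, hi₀⟩ := Set.mem_iUnion.1 (hy y List.mem_cons_self)
          have h1 : 1 ≤ ∑ i, (if decide (y ∈ F i) = true then 1 else 0) :=
            le_trans (by simp [hi₀]) (Finset.single_le_sum (fun _ _ => Nat.zero_le _) (Finset.mem_univ i₀))
          simp only [List.countP_cons, List.length_cons, Finset.sum_add_distrib]
          exact Nat.add_le_add (ih fun z hz => hy z (List.mem_cons_of_mem _ hz)) h1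
      have := (hle l fun y hy => (hl y hy).2).trans
        (Finset.sum_le_card_nsmul _ _ N₀ fun i _ => (hcon i).le)
      rw [Finset.card_univ, smul_eq_mul, hlen, hR] at this
      omega
    have hD'' : ∀ y ∈ l, y ∈ D := fun y hy => (hl y hy).1
    set q : M → Bool := fun y => decide (y ∈ F i)
    have hperm : l.Perm (l.filter q ++ l.filter (fun y => !q y)) := (List.filter_append_perm q l).symm
    have hd := evl_perm β (J := V t) (J' := V (t + 1)) (D := D) (hVinv t) (hVinv (t + 1))
      (fun v hv d hd d' hd' => bracket_mem_lay β hv (hDD d hd d' hd')) hperm hD'' hu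
    have hz : evl β u (l.filter q) = 0 := by
      have h1 := evl_mem_lay β (Y := F i) (l := l.filter q)
        (fun y hy => of_decide_eq_true (List.of_mem_filter (p := q) hy)) u
      have h2 := lay_antitone β (F i) (show N₀ ≤ (l.filter q).length by rwa [← List.countP_eq_length_filter]) h1
      rwa [hF i, AddSubgroup.mem_bot] at h2
    rwa [evl_append, hz, evl_zero, sub_zero] at hd
  have hiter : ∀ t, lay β ((D : Set M) ∩ ⋃ i, F i) (t * R) ≤ V t := by
    intro t
    induction t with
    | zero => intro x _; rw [hV, lay_zero]; exact AddSubgroup.mem_top x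
    | succ t ih =>
      refine (AddSubgroup.closure_le _).2 ?_
      rintro _ ⟨x, l, hlen, hl, rfl⟩
      rw [← List.take_append_drop (t * R) l, evl_append]
      have hmul : (t + 1) * R = t * R + R := Nat.succ_mul t R
      refine hstep t _ (ih ?_) _ (by rw [List.length_drop, hlen]; omega) fun y hy => hl y (List.drop_subset _ _ hy)
      have := evl_mem_lay β (fun y hy => hl y (List.take_subset _ _ hy)) x (l := l.take (t * R))
      rwa [List.length_take, hlen, Nat.min_eq_left (by omega)] at this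
  refine le_bot_iff.1 ((lay_mono β (fun x hx => hD hx) _).trans ((lay_closure β _ _).trans ?_))
  exact (hiter N').trans hN'.le

end CfsgLib.CoprimeClass
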