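import Cfsg.Agent.Lib.CoprimeClass.GenC
import Cfsg.Agent.Lib.Signalizer.Main
import Cfsg.Agent.Lib.OddLocal.Basic

/-!
Solubility, nilpotency of the relevant term and the commutator bound between fixed point subgroups.
-/

set_option autoImplicit false
set_option linter.unusedSectionVars false
set_option linter.style.haveILetI false

namespace CfsgLib.CoprimeClass

open Subgroup Cfsg
open scoped commutatorElement

universe u

variable {Γ : Type u} [Group Γ] [Finite Γ] {p : ℕ} [hp : Fact p.Prime] {A G : Subgroup Γ}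

/-- The hypothesis on the fixed points of the nonidentity elements. -/
def ClsHyp (m c : ℕ) (A G : Subgroup Γ) : Prop :=
  ∀ a ∈ A, a ≠ 1 → ((fixH G (zpowers a)).lowerCentralSeries m).lowerCentralSeries c = ⊥

theorem derived_le_lcs (H : Subgroup Γ) : ∀ j, (derivedSeries ↥H j).map H.subtype ≤ H.lowerCentralSeries j := by
  intro j
  induction j with
  | zero => exact map_subtype_le _
  | succ j ih =>
    rw [derivedSeries_succ, map_commutator]
    exact commutator_mono ih (map_subtype_le _)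

theorem isSolvable_of_lcs {H : Subgroup Γ} {m c : ℕ} (h : (H.lowerCentralSeries m).lowerCentralSeries c = ⊥) :
    Group.IsSolvable H := by
  have key : ∀ j, (derivedSeries ↥H (m + j)).map H.subtype ≤ (H.lowerCentralSeries m).lowerCentralSeries j := by
    intro j
    induction j with
    | zero => exact derived_le_lcs H m
    | succ j ih =>
      rw [← add_assoc, derivedSeries_succ, map_commutator]
      exact commutator_mono ih (ih.trans (lowerCentralSeries_le_self _ j))
  exact ⟨⟨m + c, (map_eq_bot_iff_of_injective _ H.subtype_injective).1 (le_bot_iff.1 ((key c).trans h.le))⟩⟩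

theorem CopAct.isSolvable_of_cls (hA : CopAct p A G) {k m c : ℕ} (hk : Nat.card A = p ^ k) (hk3 : 3 ≤ k)
    (hcls : ClsHyp m c A G) : Group.IsSolvable G := by
  refine CfsgLib.Signalizer.isSolvable_of_fixed hA.elem (hk ▸ Nat.pow_le_pow_right hp.out.pos hk3) hA.ndvd
    hA.le_normalizer fun a ha ha1 => ?_
  have h := isSolvable_of_lcs (hcls a ha ha1)
  have he : G ⊓ centralizer ({a} : Set Γ) = fixH G (zpowers a) := by
    rw [fixH, zpowers_eq_closure, centralizer_closure]
  exact he ▸ h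

/-- Commutators of joins. -/
theorem comm_sup_le {T H₁ H₂ K₁ K₂ : Subgroup Γ} (h : H₁ ⊔ H₂ ⊔ (K₁ ⊔ K₂) ≤ normalizer (T : Set Γ))
    (h11 : ⁅H₁, K₁⁆ ≤ T) (h12 : ⁅H₁, K₂⁆ ≤ T) (h21 : ⁅H₂, K₁⁆ ≤ T) (h22 : ⁅H₂, K₂⁆ ≤ T) :
    ⁅H₁ ⊔ H₂, K₁ ⊔ K₂⁆ ≤ T := by
  have hn : ∀ g ∈ H₁ ⊔ H₂ ⊔ (K₁ ⊔ K₂), ∀ t ∈ T, g * t * g⁻¹ ∈ T := fun g hg t ht =>
    (mem_normalizer_iff.1 (h hg) t).1 ht
  have hright : ∀ x ∈ H₁ ⊔ H₂, (∀ g ∈ K₁, ⁅x, g⁆ ∈ T) → (∀ g ∈ K₂, ⁅x, g⁆ ∈ T) →
      ∀ g ∈ K₁ ⊔ K₂, ⁅x, g⁆ ∈ T := by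
    intro x _ h1 h2 g hg
    let S := finSub {g | g ∈ K₁ ⊔ K₂ ∧ ⁅x, g⁆ ∈ T} ⟨one_mem _, by rw [commutatorElement_one_right]; exact one_mem _⟩
      (fun a ha b hb => ⟨mul_mem ha.1 hb.1, by
        rw [show ⁅x, a * b⁆ = ⁅x, a⁆ * (a * ⁅x, b⁆ * a⁻¹) by simp only [commutatorElement_def]; group]
        exact mul_mem ha.2 (hn a (mem_sup_right ha.1) _ hb.2)⟩)
    exact ((show K₁ ⊔ K₂ ≤ S from sup_le (fun a ha => mem_finSub.2 ⟨mem_sup_left ha, h1 a ha⟩)
      (fun a ha => mem_finSub.2 ⟨mem_sup_right ha, h2 a ha⟩)) hg).2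
  rw [commutator_le]
  intro x hx g hg
  let S := finSub {x | x ∈ H₁ ⊔ H₂ ∧ ∀ g ∈ K₁ ⊔ K₂, ⁅x, g⁆ ∈ T}
    ⟨one_mem _, fun g _ => by rw [commutatorElement_one_left]; exact one_mem _⟩
    (fun a ha b hb => ⟨mul_mem ha.1 hb.1, fun g hg => by
      rw [show ⁅a * b, g⁆ = a * ⁅b, g⁆ * a⁻¹ * ⁅a, g⁆ by simp only [commutatorElement_def]; group]
      exact mul_mem (hn a (mem_sup_left ha.1) _ (hb.2 g hg)) (ha.2 g hg)⟩)
  refine ((show H₁ ⊔ H₂ ≤ S from sup_le (fun a ha => mem_finSub.2 ⟨mem_sup_left ha, ?_⟩)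
    (fun a ha => mem_finSub.2 ⟨mem_sup_right ha, ?_⟩)) hx).2 g hg
  · exact hright a (mem_sup_left ha) (fun g hg => h11 (commutator_mem_commutator ha hg))
      (fun g hg => h12 (commutator_mem_commutator ha hg))
  · exact hright a (mem_sup_right ha) (fun g hg => h21 (commutator_mem_commutator ha hg))
      (fun g hg => h22 (commutator_mem_commutator ha hg))

theorem CopAct.exists_inf_ne_one (hA : CopAct p A G) {B' U : Subgroup Γ} (hB' : Hyp p A B') (hU : U ≤ A)
    (hUc : p ^ 2 ≤ Nat.card U) : ∃ e ∈ U ⊓ B', e ≠ 1 := by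
  have h := card_mul_card_le hU hB'.1
  by_contra hc
  push Not at hc
  have h1 : U ⊓ B' = ⊥ := (eq_bot_iff_forall _).2 hc
  rw [h1, card_bot, one_mul] at h
  have h2 : p ^ 2 * Nat.card B' ≤ p * Nat.card B' := ((Nat.mul_le_mul_right _ hUc).trans h).trans hB'.2
  have h3 := Nat.le_of_mul_le_mul_right h2 Nat.card_pos
  have := Nat.pow_lt_pow_right hp.out.one_lt (show 1 < 2 by norm_num)
  rw [pow_one] at this
  omega

/-- Induction principle through the pieces. -/
theorem CopAct.le_of_pieces (hA : CopAct p A G) {k m : ℕ} (hk : Nat.card A = p ^ k) (hmk : m + 3 ≤ k)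
    (hsol : Group.IsSolvable G) {T : Subgroup Γ}
    (h : ∀ B, Hyp p A B → ∀ U, U ≤ B → p ^ 2 ≤ Nat.card U →
      (fixH G U).lowerCentralSeries m ⊓ centralizer (B : Set Γ) ≤ T) :
    G.lowerCentralSeries m ≤ T := by
  haveI := hA.normal
  haveI := lcs_normal G m
  refine hA.le_of_hyps (lowerCentralSeries_le_self G m) (by rw [normalizer_eq_top]; exact le_top) fun B hB => ?_
  exact (genC hmk _ Γ A G rfl hA hk hsol B hB).trans (iSup_le fun U => h B hB U.1 U.2.1 U.2.2.2)

theorem fixH_le_of_mem {U : Subgroup Γ} {e : Γ} (he : e ∈ U) : fixH G U ≤ fixH G (zpowers e) :=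
  inf_le_inf_left _ (centralizer_le (zpowers_le.2 he))

theorem CopAct.cls_quot (hA : CopAct p A G) {m c : ℕ} (hcls : ClsHyp m c A G) {N : Subgroup Γ} [N.Normal] :
    ClsHyp m c (A.map (QuotientGroup.mk' N)) (G.map (QuotientGroup.mk' N)) := by
  rintro _ ⟨a, ha, rfl⟩ ha1
  have ha1' : a ≠ 1 := fun h => ha1 (by rw [h, map_one])
  have haA : zpowers a ≤ A := zpowers_le.2 ha
  have hfix : fixH (G.map (QuotientGroup.mk' N)) (zpowers (QuotientGroup.mk' N a)) =
      (fixH G (zpowers a)).map (QuotientGroup.mk' N) := by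
    rw [← MonoidHom.map_zpowers]
    exact le_antisymm (hA.map_inf_centralizer haA le_rfl (haA.trans hA.le_normalizer))
      (map_inf_centralizer_le _ G _)
  rw [hfix, ← map_lowerCentralSeries, ← map_lowerCentralSeries, hcls a ha ha1', Subgroup.map_bot]

/-- The relevant term of the lower central series is nilpotent. -/
theorem lcs_nilpotent {k m c : ℕ} (hmk : m + 3 ≤ k) : ∀ (n : ℕ) (Γ : Type u) [Group Γ] [Finite Γ]
    (A G : Subgroup Γ), Nat.card G = n → CopAct p A G → Nat.card A = p ^ k → ClsHyp m c A G →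
      Group.IsNilpotent ↥(G.lowerCentralSeries m) := by
  intro n
  induction n using Nat.strong_induction_on with
  | _ n ih =>
  intro Γ _ _ A G hn hA hk hcls
  haveI := hA.normal
  set K := G.lowerCentralSeries m with hK
  haveI hKn : K.Normal := lcs_normal G m
  have hKG : K ≤ G := lowerCentralSeries_le_self G m
  have hsol := hA.isSolvable_of_cls hk (by omega) hcls
  by_cases hKbot : K = ⊥
  · rw [hKbot]; infer_instance
  obtain ⟨V, ⟨hVn, hVne, hVK⟩, hVmin⟩ := Set.exists_min_image
    {V : Subgroup Γ | V.Normal ∧ V ≠ ⊥ ∧ V ≤ K} (fun V => Nat.card V) (Set.toFinite _) ⟨K, hKn, hKbot, le_rfl⟩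
  haveI := hVn
  have hmin : ∀ Z : Subgroup Γ, Z.Normal → Z ≤ V → Z ≠ ⊥ → Z = V := fun Z hZn hZV hZ =>
    eq_of_le_of_card_ge hZV (hVmin Z ⟨hZn, hZ, hZV.trans hVK⟩)
  have hVG := hVK.trans hKG
  haveI : Nontrivial V := (nontrivial_iff_ne_bot V).2 hVne
  have hVV : ⁅V, V⁆ = ⊥ := by
    by_contra h
    haveI : Group.IsSolvable V := CfsgLib.Solvable.isSolvable_of_le hsol hVG
    refine (Group.IsSolvable.commutator_lt_top_of_nontrivial ↥V).ne (map_injective V.subtype_injective ?_)
    rw [map_subtype_commutator, hmin _ inferInstance (commutator_le_self V) h, ← MonoidHom.range_eq_map,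
      range_subtype]
  have hVab : ∀ x ∈ V, ∀ y ∈ V, x * y = y * x := fun x hx y hy => by
    have := commutator_mem_commutator hx hy
    rwa [hVV, Subgroup.mem_bot, commutatorElement_eq_one_iff_mul_comm] at this
  obtain ⟨r, hr, hrd⟩ := Nat.exists_prime_and_dvd (n := Nat.card V) (by
    intro h; exact hVne (card_eq_one.1 h))
  haveI := Fact.mk hr
  have hVr : ∀ v ∈ V, v ^ r = 1 := by
    let T : Subgroup Γ :=
      { carrier := {v | v ∈ V ∧ v ^ r = 1}
        one_mem' := ⟨one_mem _, one_pow r⟩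
        mul_mem' := fun {a b} ha hb => ⟨mul_mem ha.1 hb.1, by
          rw [(show Commute a b from hVab a ha.1 b hb.1).mul_pow, ha.2, hb.2, one_mul]⟩
        inv_mem' := fun {a} ha => ⟨inv_mem ha.1, by rw [inv_pow, ha.2, inv_one]⟩ }
    have hTn : T.Normal := ⟨fun v hv g => ⟨hVn.conj_mem v hv.1 g, by rw [conj_pow, hv.2, mul_one, mul_inv_cancel]⟩⟩
    obtain ⟨v, hv⟩ := exists_prime_orderOf_dvd_card' (G := V) r hrd
    have hvT : (v : Γ) ∈ T := ⟨v.2, by
      rw [← SubgroupClass.coe_pow, ← hv, pow_orderOf_eq_one]; rfl⟩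
    have hTne : T ≠ ⊥ := fun h => by
      rw [h, Subgroup.mem_bot] at hvT
      rw [Subtype.ext hvT (a2 := (1 : V)), orderOf_one] at hv
      exact hr.ne_one hv.symm
    intro w hw
    exact ((hmin T hTn (fun x hx => hx.1) hTne).ge hw).2
  have hVrP : IsPGroup r V := fun v => ⟨1, Subtype.ext (by rw [pow_one]; exact hVr v v.2)⟩
  set π := QuotientGroup.mk' V with hπ
  have hK' : Group.IsNilpotent ↥(K.map π) := by
    rw [hK, map_lowerCentralSeries]
    exact ih _ (hn ▸ card_map_lt hVG hVne) _ _ _ rfl hA.quot (by rw [hA.card_map_eq hVG le_rfl, hk])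
      (hA.cls_quot hcls)
  -- the preimage of the `r`-part
  haveI hK'n : (K.map π).Normal := hKn.map π (QuotientGroup.mk'_surjective V)
  haveI : (pCore r ↥(K.map π)).Characteristic := CfsgLib.Cores.pCore_characteristic r
  set R' := (pCore r ↥(K.map π)).map (K.map π).subtype with hR'
  haveI hR'n : R'.Normal := ConjAct.normal_of_characteristic_of_normal
  set P := K ⊓ R'.comap π with hP
  haveI hPn : P.Normal := inferInstance
  have hPr : IsPGroup r P := by
    intro x
    obtain ⟨y, hy, hye⟩ := x.2.2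
    obtain ⟨j, hj⟩ := CfsgLib.Cores.isPGroup_pCore r ⟨y, hy⟩
    have h1 : ((x : Γ) ^ r ^ j) ∈ V := by
      refine (QuotientGroup.eq_one_iff _).1 ?_
      show π ((x : Γ) ^ r ^ j) = 1
      rw [map_pow, show π (x : Γ) = (y : Γ ⧸ V) from hye.symm, ← SubgroupClass.coe_pow]
      have := congrArg (fun z => ((Subtype.val z : ↥(K.map π)) : Γ ⧸ V)) hj
      simpa using this
    refine ⟨j + 1, Subtype.ext ?_⟩
    rw [SubgroupClass.coe_pow, pow_succ, pow_mul]
    exact hVr _ h1
  -- generation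
  have hKle : K ≤ centralizer (V : Set Γ) ⊔ P := by
    refine hA.le_of_pieces hk hmk hsol fun B hB U hUB hUc g hg => ?_
    have hgK : g ∈ K := lowerCentralSeries_mono m inf_le_left hg.1
    obtain ⟨a, b, hrb, hab⟩ := Nat.exists_eq_pow_mul_and_not_dvd (orderOf_pos g).ne' r hr.ne_one
    refine mem_of_zpow_coprime (Nat.Coprime.pow_left a (hr.coprime_iff_not_dvd.2 hrb)) ?_ ?_
    · -- the `r'`-part centralises `V`
      refine mem_sup_left ?_
      set q := g ^ r ^ a with hq
      have hqP : q ∈ (fixH G U).lowerCentralSeries m ⊓ centralizer (B : Set Γ) := pow_mem hg _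
      have hqb : q ^ b = 1 := by rw [hq, ← pow_mul, ← hab, pow_orderOf_eq_one]
      have hrq : ¬ r ∣ orderOf q := fun h => hrb (h.trans (orderOf_dvd_of_pow_eq_one hqb))
      have hUA : U ≤ A := hUB.trans hB.1
      rw [mem_centralizer_iff]
      intro v hv
      refine (mem_centralizer_singleton_iff.1 ((show V ≤ centralizer ({q} : Set Γ) from
        hA.le_of_hyps hVG (by rw [normalizer_eq_top]; exact le_top) fun B' hB' t ht => ?_) hv))
      obtain ⟨e, he, he1⟩ := hA.exists_inf_ne_one hB' hUA hUc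
      set Me := (fixH G (zpowers e)).lowerCentralSeries m
      have hqe : q ∈ Me := lowerCentralSeries_mono m (fixH_le_of_mem he.1) hqP.1
      have hte : t ∈ fixH G (zpowers e) := ⟨hVG ht.1, centralizer_le (zpowers_le.2 he.2) ht.2⟩
      have hw : ⁅t, q⁆ ∈ Me := by
        rw [show ⁅t, q⁆ = t * q * t⁻¹ * q⁻¹ from commutatorElement_def t q]
        exact mul_mem ((mem_normalizer_iff.1 (self_le_normalizer_lowerCentralSeries _ m hte) q).1 hqe)
          (inv_mem hqe)
      have hwV : ⁅t, q⁆ ∈ V := commutator_le_left V ⊤ (commutator_mem_commutator ht.1 (mem_top q))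
      haveI : Group.IsNilpotent ↥Me := (isNilpotent_iff_lowerCentralSeries Me).2 ⟨c, hcls e (hUA he.1) he1⟩
      have hwr : ⁅t, q⁆ ^ r = 1 := hVr _ hwV
      have hcomm : ⁅t, q⁆ * q = q * ⁅t, q⁆ := congrArg Subtype.val
        (CfsgLib.OddLocal.commute_of_coprime_orderOf (⟨_, hw⟩ : Me) ⟨q, hqe⟩ (by
          rw [← orderOf_coe (⟨_, hw⟩ : Me), ← orderOf_coe (⟨q, hqe⟩ : Me)]
          exact Nat.Coprime.coprime_dvd_left (orderOf_dvd_of_pow_eq_one hwr)
            (hr.coprime_iff_not_dvd.2 hrq)))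
      have hw1 : ⁅t, q⁆ ^ orderOf q = 1 := by
        have h1 : ⁅t, q⁆ * q = t * q * t⁻¹ := by rw [commutatorElement_def]; group
        have h2 := congrArg (fun z => z ^ orderOf q) h1
        simp only [(show Commute ⁅t, q⁆ q from hcomm).mul_pow, conj_pow, pow_orderOf_eq_one, mul_one,
          mul_inv_cancel] at h2
        exact h2
      have hone : ⁅t, q⁆ = 1 := by
        rw [← pow_one ⁅t, q⁆, ← Nat.Coprime.gcd_eq_one (hr.coprime_iff_not_dvd.2 hrq)]
        exact pow_gcd_eq_one.2 ⟨hwr, hw1⟩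
      exact mem_centralizer_singleton_iff.2 (commutatorElement_eq_one_iff_mul_comm.1 hone)
    · -- the `r`-part lies in `P`
      refine mem_sup_right ⟨pow_mem hgK _, ?_⟩
      set y : ↥(K.map π) := ⟨π (g ^ b), g ^ b, pow_mem hgK _, rfl⟩
      have hy : y ^ r ^ a = 1 := Subtype.ext (by
        show π (g ^ b) ^ r ^ a = 1
        rw [← map_pow, ← pow_mul, mul_comm b, ← hab, pow_orderOf_eq_one, map_one])
      have hzy : IsPGroup r (zpowers y) := by
        obtain ⟨i, hi, hie⟩ := (Nat.dvd_prime_pow hr).1 (orderOf_dvd_of_pow_eq_one hy)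
        exact IsPGroup.iff_card.2 ⟨i, (Nat.card_zpowers y).trans hie⟩
      obtain ⟨S, hS⟩ := hzy.exists_le_sylow
      haveI : (S : Subgroup ↥(K.map π)).Normal :=
        ((Group.isNilpotent_of_finite_tfae (G := ↥(K.map π))).out 0 3 rfl rfl).1 hK' r inferInstance S
      exact ⟨y, CfsgLib.Cores.le_pCore S.2 (hS (mem_zpowers y)), rfl⟩
  -- `V` is central
  have hVKbot : ⁅V, K⁆ = ⊥ := by
    by_contra h
    have heq : ⁅V, K⁆ = V := hmin _ inferInstance (commutator_le_left V K) h
    have hle : V ≤ ⁅V, P⁆ := by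
      refine heq.ge.trans ((commutator_mono le_rfl hKle).trans ?_)
      have := comm_sup_le (T := ⁅V, P⁆) (H₁ := V) (H₂ := V) (K₁ := centralizer (V : Set Γ)) (K₂ := P)
        (by rw [normalizer_eq_top]; exact le_top)
        (by rw [commutator_eq_bot_iff_le_centralizer.2 ((le_centralizer_iff).1 le_rfl)]; exact bot_le)
        le_rfl
        (by rw [commutator_eq_bot_iff_le_centralizer.2 ((le_centralizer_iff).1 le_rfl)]; exact bot_le)
        le_rfl
      rwa [sup_idem] at this
    have hVP : V ≤ P := fun v hv => ⟨hVK hv, by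
      show π v ∈ R'
      rw [show π v = 1 from (QuotientGroup.eq_one_iff v).2 hv]; exact one_mem _⟩
    obtain ⟨l, hl⟩ := (isNilpotent_iff_lowerCentralSeries P).1 hPr.isNilpotent
    have : ∀ j, V ≤ P.lowerCentralSeries j := by
      intro j
      induction j with
      | zero => exact hVP
      | succ j ihj => exact hle.trans (commutator_mono ihj le_rfl)
    exact hVne (le_bot_iff.1 (hl ▸ this l))
  obtain ⟨l, hl⟩ := (isNilpotent_iff_lowerCentralSeries (K.map π)).1 hK'
  refine (isNilpotent_iff_lowerCentralSeries K).2 ⟨l + 1, le_bot_iff.1 ?_⟩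
  rw [← map_lowerCentralSeries, Subgroup.map_eq_bot_iff, QuotientGroup.ker_mk'] at hl
  exact (commutator_mono hl le_rfl).trans hVKbot.le

/-! ### The commutator bound -/

/-- Iterated commutator subgroup. -/
def iterC (S X : Subgroup Γ) : ℕ → Subgroup Γ
  | 0 => S
  | j + 1 => ⁅iterC S X j, X⁆

theorem iterC_add (S X : Subgroup Γ) (a : ℕ) : ∀ b, iterC S X (a + b) = iterC (iterC S X a) X b
  | 0 => rfl
  | b + 1 => by rw [← add_assoc, iterC, iterC_add S X a b]; rfl

theorem iterC_mono {S S' : Subgroup Γ} (h : S ≤ S') (X : Subgroup Γ) : ∀ j, iterC S X j ≤ iterC S' X j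
  | 0 => h
  | j + 1 => commutator_mono (iterC_mono h X j) le_rfl

theorem iterC_inv {X P : Subgroup Γ} {S : Subgroup Γ} (hS : X ≤ normalizer (S : Set Γ))
    (hP : X ≤ normalizer (P : Set Γ)) : ∀ j, X ≤ normalizer (iterC S P j : Set Γ)
  | 0 => hS
  | j + 1 => (le_inf (iterC_inv hS hP j) hP).trans (CfsgLib.Solvable.normalizer_le_normalizer_commutator _ _)

theorem iterC_le {S P : Subgroup Γ} (h : P ≤ normalizer (S : Set Γ)) : ∀ j, iterC S P j ≤ S
  | 0 => le_rfl
  | j + 1 => (commutator_mono (iterC_le h j) le_rfl).trans (CfsgLib.Solvable.commutator_le_of_le_normalizer h)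

theorem iterC_normal_series {ι : Type*} [DecidableEq ι] {X T₀ : Subgroup Γ} {P : ι → Subgroup Γ} {e : ℕ}
    (hPX : ∀ i, P i ≤ X) (hXP : ∀ i, X ≤ normalizer (P i : Set Γ))
    (hnil : ∀ i, iterC T₀ (P i) e = ⊥) (s : Finset ι) :
    ∀ S : Subgroup Γ, S ≤ T₀ → X ≤ normalizer (S : Set Γ) → iterC S (s.sup P) (e ^ s.card) = ⊥ := by
  induction s using Finset.induction_on with
  | empty =>
    intro S _ _
    rw [Finset.sup_empty, Finset.card_empty, pow_zero]
    show ⁅S, (⊥ : Subgroup Γ)⁆ = ⊥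
    exact commutator_bot_right S
  | insert i s his ih =>
    intro S hST hXS
    set X' := s.sup P with hX'
    have hX'X : X' ≤ X := Finset.sup_le fun j _ => hPX j
    have hX'n : X ≤ normalizer (X' : Set Γ) := by
      refine CfsgLib.Solvable.le_normalizer_of_conj_mem fun g hg x hx => ?_
      refine (show X' ≤ X'.comap (MulAut.conj g).toMonoidHom from Finset.sup_le fun j hj y hy => ?_) hx
      exact (Finset.le_sup (f := P) hj) ((mem_normalizer_iff.1 (hXP j hg) y).1 hy)
    have hX'' : (insert i s).sup P = P i ⊔ X' := Finset.sup_insert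
    rw [hX'', Finset.card_insert_of_notMem his, pow_succ]
    set N := e ^ s.card
    have claim : ∀ S : Subgroup Γ, S ≤ T₀ → X ≤ normalizer (S : Set Γ) →
        iterC S (P i ⊔ X') N ≤ ⁅S, P i⁆ := by
      intro S hST hXS
      have hZn : X ≤ normalizer ((⁅S, P i⁆ : Subgroup Γ) : Set Γ) :=
        (le_inf hXS (hXP i)).trans (CfsgLib.Solvable.normalizer_le_normalizer_commutator _ _)
      have hZS : ⁅S, P i⁆ ≤ S := CfsgLib.Solvable.commutator_le_of_le_normalizer ((hPX i).trans hXS)
      have step : ∀ j, iterC S (P i ⊔ X') j ≤ iterC S X' j ⊔ ⁅S, P i⁆ := by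
        intro j
        induction j with
        | zero => exact le_sup_left
        | succ j ihj =>
          refine (commutator_mono ihj le_rfl).trans ?_
          have hAn : X ≤ normalizer (iterC S X' (j + 1) : Set Γ) := iterC_inv hXS hX'n _
          have hAS : iterC S X' j ≤ S := iterC_le (hX'X.trans hXS) j
          have hA'n : X ≤ normalizer ((iterC S X' (j + 1) ⊔ ⁅S, P i⁆ : Subgroup Γ) : Set Γ) := by
            refine CfsgLib.Solvable.le_normalizer_of_conj_mem fun g hg x hx => ?_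
            refine (show _ ≤ (iterC S X' (j + 1) ⊔ ⁅S, P i⁆).comap (MulAut.conj g).toMonoidHom from
              sup_le (fun y hy => mem_sup_left ((mem_normalizer_iff.1 (hAn hg) y).1 hy))
                (fun y hy => mem_sup_right ((mem_normalizer_iff.1 (hZn hg) y).1 hy))) hx
          refine comm_sup_le ?_ ((commutator_mono hAS le_rfl).trans le_sup_right) le_sup_left
            ((commutator_mono hZS le_rfl).trans le_sup_right)
            ((CfsgLib.Solvable.commutator_le_of_le_normalizer (hX'X.trans hZn)).trans le_sup_right)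
          refine sup_le (sup_le ?_ ?_) ((sup_le (hPX i) hX'X).trans hA'n)
          · refine CfsgLib.Solvable.le_normalizer_of_conj_mem fun a ha x hx => ?_
            have hxS : x ∈ S := (sup_le (iterC_le (hX'X.trans hXS) _) hZS) hx
            refine (show _ ≤ (iterC S X' (j + 1) ⊔ ⁅S, P i⁆).comap (MulAut.conj a).toMonoidHom from
              sup_le (fun y hy => ?_) (fun y hy => ?_)) hx
            · have hsub : iterC S X' j ≤ normalizer (iterC S X' (j + 1) : Set Γ) :=
                CfsgLib.Solvable.le_normalizer_commutator_left (iterC S X' j) X'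
              exact mem_sup_left ((mem_normalizer_iff.1 (hsub ha) y).1 hy)
            · have hsub : S ≤ normalizer ((⁅S, P i⁆ : Subgroup Γ) : Set Γ) :=
                CfsgLib.Solvable.le_normalizer_commutator_left S (P i)
              exact mem_sup_right ((mem_normalizer_iff.1 (hsub (hAS ha)) y).1 hy)
          · exact fun z hz => Subgroup.le_normalizer (mem_sup_right hz)
      exact (step N).trans (by rw [ih S hST hXS, bot_sup_eq])
    have hiter : ∀ j, iterC S (P i ⊔ X') (N * j) ≤ iterC S (P i) j := by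
      intro j
      induction j with
      | zero => exact le_rfl
      | succ j ihj =>
        rw [Nat.mul_succ, iterC_add]
        refine (iterC_mono ihj _ N).trans ?_
        exact claim _ ((iterC_le ((hPX i).trans hXS) j).trans hST) (iterC_inv hXS (hXP i) j)
    refine le_bot_iff.1 ((hiter e).trans ?_)
    exact (iterC_mono hST _ e).trans (hnil i).le

theorem cw_mem_iterC {S X : Subgroup Γ} : ∀ (l : List Γ), (∀ y ∈ l, y ∈ X) → ∀ {i : ℕ} {x : Γ},
    x ∈ iterC S X i → cw x l ∈ iterC S X (i + l.length) := by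
  intro l
  induction l with
  | nil => intro _ i x hx; exact hx
  | cons y l ih =>
    intro hl i x hx
    have := ih (fun z hz => hl z (List.mem_cons_of_mem _ hz))
      (i := i + 1) (commutator_mem_commutator hx (hl y List.mem_cons_self))
    rwa [add_assoc, add_comm 1] at this

/-- Commutators between fixed points of two subgroups of index at most `p`. -/
theorem CopAct.cw_fix_eq_one (hA : CopAct p A G) {k m c : ℕ} (hk : Nat.card A = p ^ k) (hmk : m + 3 ≤ k)
    (hcls : ClsHyp m c A G) {B B' : Subgroup Γ} (hB : Hyp p A B) (hB' : Hyp p A B') {t : Γ}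
    (ht : t ∈ G.lowerCentralSeries m ⊓ centralizer (B' : Set Γ)) {l : List Γ}
    (hl : ∀ y ∈ l, y ∈ G.lowerCentralSeries m ⊓ centralizer (B : Set Γ)) {b : ℕ}
    (hb : Nat.card {U : Subgroup Γ // U ≤ A} ≤ b) (hlen : (c + 1) ^ b ≤ l.length) : cw t l = 1 := by
  classical
  haveI := hA.normal
  set K := G.lowerCentralSeries m with hKdef
  haveI hKn : K.Normal := lcs_normal G m
  set X := K ⊓ centralizer (B : Set Γ) with hXdef
  have hsol := hA.isSolvable_of_cls hk (by omega) hcls
  let ι := {U : Subgroup Γ // U ≤ B ∧ U ≤ A ∧ p ^ 2 ≤ Nat.card U}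
  haveI : Fintype ι := Fintype.ofFinite _
  let P : ι → Subgroup Γ := fun U => (fixH G U.1).lowerCentralSeries m ⊓ centralizer (B : Set Γ)
  have hPX : ∀ i, P i ≤ X := fun i => inf_le_inf_right _ (lowerCentralSeries_mono m inf_le_left)
  have hXP : ∀ i, X ≤ normalizer (P i : Set Γ) := fun i =>
    (inf_le_right.trans (le_inf (hA.centralizer_le_normalizer_lcs i.2.1 m) Subgroup.le_normalizer)).trans
      (fun g hg => CfsgLib.Solvable.le_normalizer_inf (inf_le_left) (inf_le_right) hg)
  have hsup : Finset.univ.sup P = X := by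
    refine le_antisymm (Finset.sup_le fun i _ => hPX i) ?_
    refine (genC hmk _ Γ A G rfl hA hk hsol B hB).trans (iSup_le fun i => ?_)
    exact Finset.le_sup (f := P) (Finset.mem_univ i)
  set T₀ := closure {y | ∃ x ∈ X, ∃ u ∈ K ⊓ centralizer (B' : Set Γ), y = x * u * x⁻¹} with hT₀
  have htT : t ∈ T₀ := subset_closure ⟨1, one_mem _, t, ht, by simp⟩
  have hXT : X ≤ normalizer (T₀ : Set Γ) := by
    refine CfsgLib.Solvable.le_normalizer_of_conj_mem fun g hg z hz => ?_
    refine (show T₀ ≤ T₀.comap (MulAut.conj g).toMonoidHom from (closure_le _).2 ?_) hz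
    rintro _ ⟨x, hx, u, hu, rfl⟩
    show g * (x * u * x⁻¹) * g⁻¹ ∈ T₀
    exact subset_closure ⟨g * x, mul_mem hg hx, u, hu, by group⟩
  have hnil : ∀ i, iterC T₀ (P i) (c + 1) = ⊥ := by
    intro i
    obtain ⟨e, he, he1⟩ := hA.exists_inf_ne_one hB' i.2.2.1 i.2.2.2
    set F := fixH G (zpowers e)
    set Me := F.lowerCentralSeries m
    have hTF : T₀ ≤ F := by
      refine (closure_le _).2 ?_
      rintro _ ⟨x, hx, u, hu, rfl⟩
      have hxF : x ∈ F := ⟨lowerCentralSeries_le_self G m hx.1, centralizer_le (zpowers_le.2 (i.2.1 he.1)) hx.2⟩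
      exact mul_mem (mul_mem hxF ⟨lowerCentralSeries_le_self G m hu.1, centralizer_le (zpowers_le.2 he.2) hu.2⟩)
        (inv_mem hxF)
    have hPM : P i ≤ Me := inf_le_left.trans (lowerCentralSeries_mono m (fixH_le_of_mem he.1))
    have h1 : ⁅T₀, P i⁆ ≤ Me := by
      refine (commutator_mono hTF hPM).trans ?_
      rw [commutator_comm]
      exact CfsgLib.Solvable.commutator_le_of_le_normalizer (self_le_normalizer_lowerCentralSeries F m)
    rw [add_comm, iterC_add]
    refine le_bot_iff.1 (le_trans ?_ (hcls e (i.2.2.1 he.1) he1).le)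
    have : ∀ j, iterC (iterC T₀ (P i) 1) (P i) j ≤ Me.lowerCentralSeries j := by
      intro j
      induction j with
      | zero => exact h1
      | succ j ihj => exact commutator_mono ihj hPM
    exact this c
  have hser := iterC_normal_series (X := X) hPX hXP hnil Finset.univ T₀ le_rfl hXT
  rw [hsup] at hser
  have hle : (c + 1) ^ (Finset.univ : Finset ι).card ≤ l.length := by
    refine le_trans (Nat.pow_le_pow_right (Nat.succ_pos c) ?_) hlen
    rw [Finset.card_univ, ← Nat.card_eq_fintype_card]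
    refine le_trans ?_ hb
    exact Nat.card_le_card_of_injective (fun U : ι => (⟨U.1, U.2.2.1⟩ : {U : Subgroup Γ // U ≤ A}))
      fun U U' h => Subtype.ext (congrArg Subtype.val h :)
  obtain ⟨d, hd⟩ := Nat.exists_eq_add_of_le hle
  have hmem := cw_mem_iterC (S := T₀) (X := X) l hl (i := 0) htT
  rw [zero_add, hd, iterC_add, hser] at hmem
  have hbot : ∀ j, iterC (⊥ : Subgroup Γ) X j = ⊥ := by
    intro j
    induction j with
    | zero => rfl
    | succ j ihj => rw [iterC, ihj, commutator_bot_left]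
  rwa [hbot, Subgroup.mem_bot] at hmem

end CfsgLib.CoprimeClass
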