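import Cfsg.Agent.Lib.CoprimeClass.Words
import Cfsg.Agent.Lib.Solvable.AbelianAction

/-!
An abelian normal section when the group has a `q`-chief factor above its normal `r`-subgroup.
-/

set_option autoImplicit false
set_option linter.unusedSectionVars false
set_option linter.style.haveILetI false

namespace CfsgLib.CoprimeClass

open Subgroup Cfsg
open scoped commutatorElement

variable {Γ : Type*} [Group Γ] [Finite Γ] {p : ℕ} [hp : Fact p.Prime] {A G : Subgroup Γ}

/-- A subgroup given by a set closed under multiplication, in a finite group. -/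
def finSub (S : Set Γ) (h1 : (1 : Γ) ∈ S) (hm : ∀ a ∈ S, ∀ b ∈ S, a * b ∈ S) : Subgroup Γ where
  carrier := S
  one_mem' := h1
  mul_mem' := fun ha hb => hm _ ha _ hb
  inv_mem' := fun {a} ha => by
    have hn : ∀ n : ℕ, a ^ n ∈ S := by
      intro n
      induction n with
      | zero => rw [pow_zero]; exact h1
      | succ n ih => rw [pow_succ]; exact hm _ ih _ ha
    have he : a⁻¹ = a ^ (orderOf a - 1) := inv_eq_of_mul_eq_one_right (by
      rw [← pow_succ', Nat.sub_add_cancel (orderOf_pos a), pow_orderOf_eq_one])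
    exact he ▸ hn _

theorem mem_finSub {S : Set Γ} {h1 : (1 : Γ) ∈ S} {hm : ∀ a ∈ S, ∀ b ∈ S, a * b ∈ S} {x : Γ} :
    x ∈ finSub S h1 hm ↔ x ∈ S := Iff.rfl

/-- Iterated commutators with a fixed element from `Q` span a `Q`-module modulo `Y₁`. -/
theorem CopAct.cw_span (hA : CopAct p A G) {Q Y Y₁ : Subgroup Γ} (hQG : Q ≤ G) (hAQ : A ≤ normalizer (Q : Set Γ))
    [Y.Normal] [Y₁.Normal] (hYG : Y ≤ G) (hY₁Y : Y₁ ≤ Y) (hYY : ⁅Y, Y⁆ ≤ Y₁)
    (hQY₁ : Q ≤ centralizer (Y₁ : Set Γ)) (hcop : (Nat.card Q).Coprime (Nat.card Y)) (i : ℕ) :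
    ⁅Y, Q⁆ ≤ closure {c | ∃ v ∈ Y, (∃ B, Hyp p A B ∧ v ∈ centralizer (B : Set Γ)) ∧
      ∃ q ∈ Q, (∃ B, Hyp p A B ∧ q ∈ centralizer (B : Set Γ)) ∧ cw v (List.replicate i q) = c} ⊔ Y₁ := by
  set T := closure {c | ∃ v ∈ Y, (∃ B, Hyp p A B ∧ v ∈ centralizer (B : Set Γ)) ∧
    ∃ q ∈ Q, (∃ B, Hyp p A B ∧ q ∈ centralizer (B : Set Γ)) ∧ cw v (List.replicate i q) = c} ⊔ Y₁ with hT
  have hsub : ∀ (P : Subgroup Γ), Y₁ ≤ P → P ≤ Y → ∀ y ∈ Y, ∀ t ∈ P, y * t * y⁻¹ ∈ P := by
    intro P h1 h2 y hy t ht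
    rw [show y * t * y⁻¹ = ⁅y, t⁆ * t by simp only [commutatorElement_def]; group]
    exact mul_mem (h1 (hYY (commutator_mem_commutator hy (h2 ht)))) ht
  have hcwY : ∀ (l : List Γ) (v : Γ), v ∈ Y → cw v l ∈ Y := by
    intro l
    induction l with
    | nil => intro v hv; exact hv
    | cons g l ih => intro v hv; exact ih _ (commutator_le_left Y ⊤ (commutator_mem_commutator hv (mem_top g)))
  have hTY : T ≤ Y := sup_le ((closure_le _).2 (by
    rintro _ ⟨v, hv, -, q, -, -, rfl⟩; exact hcwY _ v hv)) hY₁Y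
  -- the statement for one fixed element
  have hone : ∀ q ∈ Q, (∃ B, Hyp p A B ∧ q ∈ centralizer (B : Set Γ)) → ∀ y ∈ Y, ⁅y, q⁆ ∈ T := by
    intro q hq hqB
    let Tj : ℕ → Subgroup Γ := fun j => closure {c | ∃ v ∈ Y, (∃ B, Hyp p A B ∧ v ∈ centralizer (B : Set Γ)) ∧
      cw v (List.replicate j q) = c} ⊔ Y₁
    have hTjY : ∀ j, Tj j ≤ Y := fun j => sup_le ((closure_le _).2 (by
      rintro _ ⟨v, hv, -, rfl⟩; exact hcwY _ v hv)) hY₁Y
    have hnil : Y ≤ Tj 0 := hA.le_of_hyps hYG (by rw [normalizer_eq_top]; exact le_top) fun B hB x hx =>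
      mem_sup_left (subset_closure ⟨x, hx.1, ⟨B, hB, hx.2⟩, rfl⟩)
    have hcq : (Nat.card (zpowers q)).Coprime (Nat.card Y) :=
      hcop.coprime_dvd_left (card_dvd_of_le (zpowers_le.2 hq))
    have hD : ∀ j, ⁅Y, zpowers q⁆ ≤ Tj j := by
      intro j
      induction j with
      | zero => exact (commutator_le_left _ _).trans hnil
      | succ j ih =>
        have hn : zpowers q ≤ normalizer (Y : Set Γ) := by rw [normalizer_eq_top]; exact le_top
        rw [← CfsgLib.Solvable.commutator_commutator_self hn hcq (Or.inl inferInstance), commutator_le]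
        let Z : Subgroup Γ :=
          { carrier := {w | w ∈ Y ∧ ⁅w, q⁆ ∈ Tj (j + 1)}
            one_mem' := ⟨one_mem _, by rw [commutatorElement_one_left]; exact one_mem _⟩
            mul_mem' := fun {a b} ha hb => ⟨mul_mem ha.1 hb.1, by
              rw [show ⁅a * b, q⁆ = a * ⁅b, q⁆ * a⁻¹ * ⁅a, q⁆ by simp only [commutatorElement_def]; group]
              exact mul_mem (hsub _ le_sup_right (hTjY _) a ha.1 _ hb.2) ha.2⟩
            inv_mem' := fun {a} ha => ⟨inv_mem ha.1, by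
              rw [show ⁅a⁻¹, q⁆ = a⁻¹ * ⁅a, q⁆⁻¹ * a⁻¹⁻¹ by simp only [commutatorElement_def]; group]
              exact hsub _ le_sup_right (hTjY _) _ (inv_mem ha.1) _ (inv_mem ha.2)⟩ }
        have hZ : Tj j ≤ Z := by
          refine sup_le ((closure_le _).2 ?_) fun y hy => ⟨hY₁Y hy, ?_⟩
          · rintro _ ⟨v, hv, hvB, rfl⟩
            refine ⟨hcwY _ v hv, mem_sup_left (subset_closure ⟨v, hv, hvB, ?_⟩)⟩
            rw [List.replicate_succ', cw_append]; rfl
          · rw [commutatorElement_eq_one_iff_mul_comm.2 (mem_centralizer_iff.1 (hQY₁ hq) y hy)]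
            exact one_mem _
        intro w hw z hz
        obtain ⟨e, rfl⟩ := mem_powers_iff_mem_zpowers.2 hz
        induction e with
        | zero => rw [show (fun n : ℕ => q ^ n) 0 = 1 from pow_zero q, commutatorElement_one_right]; exact one_mem _
        | succ e ihe =>
          show ⁅w, q ^ (e + 1)⁆ ∈ _
          have he : q ^ e ∈ zpowers q := npow_mem_zpowers q e
          rw [show ⁅w, q ^ (e + 1)⁆ = ⁅w, q⁆ * (⁅⁅w, q ^ e⁆, q⁆⁻¹ * ⁅w, q ^ e⁆) by
            simp only [commutatorElement_def, pow_succ']; group]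
          exact mul_mem (hZ (ih hw)).2
            (mul_mem (inv_mem (hZ (ih (commutator_mem_commutator (commutator_le_left _ _ hw) he))).2)
              (ihe he))
    intro y hy
    exact (show Tj i ≤ T from _root_.sup_le_sup_right ((closure_le _).2 (by
        rintro c ⟨v, hv, hvB, e⟩
        exact subset_closure ⟨v, hv, hvB, q, hq, hqB, e⟩)) _) (hD i (commutator_mem_commutator hy (mem_zpowers q)))
  let S := finSub {q | q ∈ Q ∧ ∀ y ∈ Y, ⁅y, q⁆ ∈ T}
    ⟨one_mem _, fun y _ => by rw [commutatorElement_one_right]; exact one_mem _⟩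
    (fun a ha b hb => ⟨mul_mem ha.1 hb.1, fun y hy => by
      rw [show ⁅y, a * b⁆ = ⁅y, a⁆ * (⁅⁅y, b⁆, a⁆⁻¹ * ⁅y, b⁆) by simp only [commutatorElement_def]; group]
      exact mul_mem (ha.2 y hy) (mul_mem (inv_mem (ha.2 _ (hTY (hb.2 y hy)))) (hb.2 y hy))⟩)
  have hQS : Q ≤ S := hA.le_of_hyps hQG hAQ fun B hB x hx =>
    mem_finSub.2 ⟨hx.1, hone x hx.1 ⟨B, hB, hx.2⟩⟩
  rw [commutator_le]
  exact fun y hy q hq => (mem_finSub.1 (hQS hq)).2 y hy

/-- A nontrivial abelian normal subgroup that is good, above a noncentral `q`-factor. -/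
theorem CopAct.exists_good (hA : CopAct p A G) {k m r q : ℕ} [Fact r.Prime] [Fact q.Prime] (hrq : r ≠ q)
    (hk : Nat.card A = p ^ k) (hmk : m + 3 ≤ k) (hm : 1 ≤ m) {X Q : Subgroup Γ} [X.Normal] (hXG : X ≤ G)
    (hX : IsPGroup r X) (hQ : IsPGroup q Q) (hQG : Q ≤ G) (hAQ : A ≤ normalizer (Q : Set Γ))
    (hXQ : (X ⊔ Q).Normal) (hnc : ¬ Q ≤ centralizer (X : Set Γ)) :
    ∃ N : Subgroup Γ, N.Normal ∧ N ≠ ⊥ ∧ N ≤ G ∧ (∀ x ∈ N, ∀ y ∈ N, x * y = y * x) ∧
      N ≤ closure {c | Good p m A G N c} := by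
  classical
  haveI := hA.normal
  haveI : Finite (Subgroup Γ) := inferInstance
  obtain ⟨Y, ⟨hYn, hYX, hYnc⟩, hYmin⟩ := Set.exists_min_image
    {Y : Subgroup Γ | Y.Normal ∧ Y ≤ X ∧ ¬ Q ≤ centralizer (Y : Set Γ)} (fun Y => Nat.card Y)
    (Set.toFinite _) ⟨X, ‹_›, le_rfl, hnc⟩
  haveI := hYn
  have hmin : ∀ Z : Subgroup Γ, Z.Normal → Z ≤ Y → ¬ Q ≤ centralizer (Z : Set Γ) → Z = Y := fun Z hZn hZY hZ =>
    eq_of_le_of_card_ge hZY (hYmin Z ⟨hZn, hZY.trans hYX, hZ⟩)
  have hYG := hYX.trans hXG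
  set Y₁ := ⁅Y, X⁆ with hY₁
  have hY₁Y : Y₁ ≤ Y := commutator_le_left Y X
  have hlcs : ∀ Z : Subgroup Γ, Z ≤ X → Z ≤ ⁅Z, X⁆ → Z = ⊥ := by
    intro Z hZX hZ
    obtain ⟨n, hn⟩ := (isNilpotent_iff_lowerCentralSeries X).1 hX.isNilpotent
    have : ∀ j, Z ≤ X.lowerCentralSeries j := by
      intro j
      induction j with
      | zero => exact hZX
      | succ j ih => exact hZ.trans (commutator_mono ih le_rfl)
    exact le_bot_iff.1 (hn ▸ this n)
  have hYne : Y ≠ ⊥ := fun h => hYnc (by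
    intro x _
    rw [mem_centralizer_iff, h]
    intro y hy
    rw [Subgroup.mem_bot.1 hy, one_mul, mul_one])
  have hQY₁ : Q ≤ centralizer (Y₁ : Set Γ) := by
    by_contra h
    exact hYne (hlcs Y hYX ((hmin Y₁ inferInstance hY₁Y h).symm.le))
  have hcop : (Nat.card Q).Coprime (Nat.card Y) := by
    obtain ⟨a, ha⟩ := IsPGroup.iff_card.1 hQ
    obtain ⟨b, hb⟩ := IsPGroup.iff_card.1 (hX.to_le hYX)
    rw [ha, hb]
    exact Nat.Coprime.pow _ _ ((Nat.coprime_primes (Fact.out) (Fact.out)).2 hrq.symm)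
  have hQsol : Group.IsSolvable Q := haveI := hQ.isNilpotent; inferInstance
  have hQnY : Q ≤ normalizer (Y : Set Γ) := by rw [normalizer_eq_top]; exact le_top
  set D := ⁅Y, Q⁆ with hD
  have hDY : D ≤ Y := commutator_le_left Y Q
  have hDnc : ¬ Q ≤ centralizer (D : Set Γ) := by
    intro h
    apply hYnc
    rw [le_centralizer_iff, ← commutator_eq_bot_iff_le_centralizer,
      ← CfsgLib.Solvable.commutator_commutator_self hQnY hcop (Or.inl hQsol),
      commutator_eq_bot_iff_le_centralizer, ← le_centralizer_iff]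
    exact h
  have hYY : ⁅Y, Y⁆ ≤ Y₁ := commutator_mono le_rfl hYX
  -- `Y` centralises `Y₁`
  have hYc : Y ≤ centralizer (Y₁ : Set Γ) := by
    have hn : (Y ⊓ centralizer (Y₁ : Set Γ)).Normal := inferInstance
    have hle : D ≤ Y ⊓ centralizer (Y₁ : Set Γ) := le_inf hDY (commutator_le.2 fun y _ x hx => by
      haveI : (centralizer (Y₁ : Set Γ)).Normal := inferInstance
      rw [commutatorElement_def]
      exact Subgroup.mul_mem _ ((inferInstance : (centralizer (Y₁ : Set Γ)).Normal).conj_mem _ (hQY₁ hx) y)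
        (Subgroup.inv_mem _ (hQY₁ hx)))
    exact (hmin _ hn inf_le_left fun h => hDnc (h.trans (centralizer_le hle))).ge.trans inf_le_right
  -- `Y = D Y₁`
  have hDY₁ : Y ≤ D ⊔ Y₁ := by
    haveI := hXQ
    have hsubY : D ⊔ Y₁ ≤ Y := sup_le hDY hY₁Y
    have hnorm : X ⊔ Q ≤ normalizer ((D ⊔ Y₁ : Subgroup Γ) : Set Γ) := by
      refine sup_le (CfsgLib.Solvable.le_normalizer_of_conj_mem fun x hx t ht => ?_)
        (CfsgLib.Solvable.le_normalizer_of_conj_mem fun x hx t ht => ?_)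
      · rw [show x * t * x⁻¹ = ⁅t, x⁆⁻¹ * t by simp only [commutatorElement_def]; group]
        exact mul_mem (inv_mem (mem_sup_right (commutator_mem_commutator (hsubY ht) hx))) ht
      · refine (show D ⊔ Y₁ ≤ (D ⊔ Y₁).comap (MulAut.conj x).toMonoidHom from sup_le (fun d hd => ?_)
          fun d hd => ?_) ht
        · exact mem_sup_left ((mem_normalizer_iff.1
            (CfsgLib.Solvable.le_normalizer_commutator_right hQnY hx) d).1 hd)
        · exact mem_sup_right ((inferInstance : Y₁.Normal).conj_mem d hd x)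
    have hle : ⁅Y, X ⊔ Q⁆ ≤ D ⊔ Y₁ := by
      rw [commutator_le]
      intro y hy g hg
      let Z := finSub {g | g ∈ X ⊔ Q ∧ ∀ y ∈ Y, ⁅y, g⁆ ∈ D ⊔ Y₁}
        ⟨one_mem _, fun y _ => by rw [commutatorElement_one_right]; exact one_mem _⟩
        (fun a ha b hb => ⟨mul_mem ha.1 hb.1, fun y hy => by
          rw [show ⁅y, a * b⁆ = ⁅y, a⁆ * (a * ⁅y, b⁆ * a⁻¹) by simp only [commutatorElement_def]; group]
          exact mul_mem (ha.2 y hy) ((mem_normalizer_iff.1 (hnorm ha.1) _).1 (hb.2 y hy))⟩)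
      exact ((show X ⊔ Q ≤ Z from sup_le
        (fun x hx => mem_finSub.2 ⟨mem_sup_left hx, fun y hy => mem_sup_right (commutator_mem_commutator hy hx)⟩)
        (fun x hx => mem_finSub.2 ⟨mem_sup_right hx, fun y hy => mem_sup_left (commutator_mem_commutator hy hx)⟩))
          hg).2 y hy
    refine (hmin ⁅Y, X ⊔ Q⁆ inferInstance (commutator_le_left _ _) fun h => hDnc ?_).ge.trans hle
    exact h.trans (centralizer_le (commutator_mono le_rfl le_sup_right))
  have hspan : ∀ i, Y ≤ closure {c | ∃ v ∈ Y, (∃ B, Hyp p A B ∧ v ∈ centralizer (B : Set Γ)) ∧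
      ∃ x ∈ Q, (∃ B, Hyp p A B ∧ x ∈ centralizer (B : Set Γ)) ∧ cw v (List.replicate i x) = c} ⊔ Y₁ :=
    fun i => hDY₁.trans (sup_le (hA.cw_span hQG hAQ hYG hY₁Y hYY hQY₁ hcop i) le_sup_right)
  set Hs := X ⊓ centralizer (Y₁ : Set Γ) with hHs
  haveI : Hs.Normal := inferInstance
  have hYH : Y ≤ Hs := le_inf hYX hYc
  by_cases hN : ⁅Hs, Y⁆ = ⊥
  · -- `Y` is abelian and centralised by `X`
    have hHY : ∀ h ∈ Hs, ∀ y ∈ Y, y * h = h * y := fun h hh y hy =>
      mem_centralizer_iff.1 (commutator_eq_bot_iff_le_centralizer.1 hN hh) y hy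
    have hYab : ∀ x ∈ Y, ∀ y ∈ Y, x * y = y * x := fun x hx y hy => (hHY x (hYH hx) y hy).symm
    haveI : IsMulCommutative Y := ⟨⟨fun x y => Subtype.ext (hYab x x.2 y y.2)⟩⟩
    have hdis := CfsgLib.Solvable.inf_centralizer_inf_commutator Q Y hQnY hcop
    have hXD : X ≤ centralizer (D : Set Γ) := by
      intro x hx
      have hXn : Q ≤ normalizer (X : Set Γ) := by rw [normalizer_eq_top]; exact le_top
      obtain ⟨u, hu, c, hc, rfl⟩ := CfsgLib.Solvable.exists_commutator_mul_centralizer hXn (by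
        obtain ⟨a, ha⟩ := IsPGroup.iff_card.1 hQ
        obtain ⟨b, hb⟩ := IsPGroup.iff_card.1 hX
        rw [ha, hb]
        exact Nat.Coprime.pow _ _ ((Nat.coprime_primes (Fact.out) (Fact.out)).2 hrq.symm)) (Or.inl hQsol) hx
      have hu' : u ∈ Hs := by
        refine ⟨commutator_le_left X Q hu, ?_⟩
        refine (commutator_le.2 fun a _ b hb => ?_ : ⁅X, Q⁆ ≤ centralizer (Y₁ : Set Γ)) hu
        rw [commutatorElement_def]
        exact Subgroup.mul_mem _ ((inferInstance : (centralizer (Y₁ : Set Γ)).Normal).conj_mem _ (hQY₁ hb) a)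
          (Subgroup.inv_mem _ (hQY₁ hb))
      refine Subgroup.mul_mem _ (mem_centralizer_iff.2 fun d hd => hHY u hu' d (hDY hd)) ?_
      refine mem_centralizer_iff.2 fun d hd => ?_
      have hcQ : c ∈ normalizer (Q : Set Γ) := centralizer_le_normalizer _ hc.2
      have hcY : c ∈ normalizer (Y : Set Γ) := by rw [normalizer_eq_top]; exact mem_top c
      have hcD : c * d * c⁻¹ ∈ D :=
        (mem_normalizer_iff.1 (CfsgLib.Solvable.normalizer_le_normalizer_commutator Y Q ⟨hcY, hcQ⟩) d).1 hd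
      have h1 : ⁅d, c⁆ ∈ Y₁ := commutator_mem_commutator (hDY hd) hc.1
      have h2 : ⁅d, c⁆ ∈ D := by
        rw [show ⁅d, c⁆ = d * (c * d * c⁻¹)⁻¹ by simp only [commutatorElement_def]; group]
        exact mul_mem hd (inv_mem hcD)
      have h3 : ⁅d, c⁆ ∈ (Y ⊓ centralizer (Q : Set Γ)) ⊓ ⁅Y, Q⁆ :=
        ⟨⟨hY₁Y h1, mem_centralizer_iff.2 fun a ha => (mem_centralizer_iff.1 (hQY₁ ha) _ h1).symm⟩, h2⟩
      rw [hdis, Subgroup.mem_bot, commutatorElement_eq_one_iff_mul_comm] at h3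
      exact h3
    have hY₁bot : Y₁ = ⊥ := by
      refine hlcs Y₁ (hY₁Y.trans hYX) (commutator_le.2 fun y hy x hx => ?_)
      obtain ⟨Z, hZdef⟩ : ∃ Z : Subgroup Γ, Z = ⁅Y₁, X⁆ := ⟨_, rfl⟩
      rw [← hZdef]
      haveI : Z.Normal := hZdef ▸ inferInstance
      let S := finSub {y | y ∈ Y ∧ ⁅y, x⁆ ∈ Z} ⟨one_mem _, by rw [commutatorElement_one_left]; exact one_mem _⟩
        (fun a ha b hb => ⟨mul_mem ha.1 hb.1, by
          rw [show ⁅a * b, x⁆ = a * ⁅b, x⁆ * a⁻¹ * ⁅a, x⁆ by simp only [commutatorElement_def]; group]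
          exact mul_mem ((inferInstance : Z.Normal).conj_mem _ hb.2 a) ha.2⟩)
      refine ((hDY₁.trans (show D ⊔ Y₁ ≤ S from sup_le (fun d hd => mem_finSub.2 ⟨hDY hd, ?_⟩)
        (fun d hd => mem_finSub.2 ⟨hY₁Y hd, hZdef ▸ commutator_mem_commutator hd hx⟩))) hy).2
      rw [commutatorElement_eq_one_iff_mul_comm.2 (mem_centralizer_iff.1 (hXD hx) d hd)]
      exact one_mem _
    refine ⟨Y, hYn, hYne, hYG, hYab, ?_⟩
    have := hspan m
    rw [hY₁bot, sup_bot_eq] at this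
    refine this.trans (closure_mono ?_)
    rintro _ ⟨v, hv, -, x, hxQ, ⟨B, hB, hxB⟩, rfl⟩
    have hlen := List.length_replicate (n := m) (a := x)
    have hY' : ∀ (l : List Γ) (v : Γ), v ∈ Y → cw v l ∈ Y := by
      intro l
      induction l with
      | nil => intro v hv; exact hv
      | cons g l ih => intro v hv; exact ih _ (commutator_le_left Y ⊤ (commutator_mem_commutator hv (mem_top g)))
    have hmul : ∀ (l : List Γ) (a b : Γ), a ∈ Y → b ∈ Y → cw (a * b) l = cw a l * cw b l := by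
      intro l
      induction l with
      | nil => intro a b _ _; rfl
      | cons g l ih =>
        intro a b ha hb
        have hag := commutator_le_left Y ⊤ (commutator_mem_commutator ha (mem_top g))
        have hbg := commutator_le_left Y ⊤ (commutator_mem_commutator hb (mem_top g))
        rw [cw, cw, cw, ← ih _ _ hag hbg]
        congr 1
        rw [show ⁅a * b, g⁆ = a * ⁅b, g⁆ * a⁻¹ * ⁅a, g⁆ by simp only [commutatorElement_def]; group,
          hYab a ha _ hbg, mul_inv_cancel_right, hYab _ hbg _ hag]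
    refine ⟨B, Y, fun w => cw w (List.replicate m x), hB.1, hB.coB.card_ge hk (by omega), hYG,
      by rw [normalizer_eq_top]; exact le_top, fun w hw => hY' _ w hw, fun a ha b hb => hmul _ a b ha hb,
      fun w hw y _ => cw_conj w _ (fun z hz => by
        rw [List.eq_of_mem_replicate hz]; exact conj_fix hxB hw) y, fun B₀ hB₀ _ h hh => ?_, v, hv, rfl⟩
    have := cw_mem_lcs (H := fixH G B₀) (List.replicate m x) (fun z hz => by
      rw [List.eq_of_mem_replicate hz]; exact ⟨hQG hxQ, centralizer_le hB₀ hxB⟩) (i := 0) (x := h) ⟨hYG hh.1, hh.2⟩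
    rwa [zero_add, hlen] at this
  · -- the bilinear pairing of `Hs` with `Y`
    set N := ⁅Hs, Y⁆ with hNdef
    have hNY₁ : N ≤ Y₁ := by rw [hY₁, commutator_comm Y X]; exact commutator_mono inf_le_left le_rfl
    have hNab : ∀ x ∈ N, ∀ y ∈ N, x * y = y * x := fun x hx y hy =>
      mem_centralizer_iff.1 (hYc (hY₁Y (hNY₁ hy))) x (hNY₁ hx)
    refine ⟨N, inferInstance, hN, hNY₁.trans (hY₁Y.trans hYG), hNab, ?_⟩
    conv_lhs => rw [hNdef]
    rw [commutator_le]
    intro h hh y hy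
    let T := closure {c | Good p m A G N c}
    let S := finSub {y | y ∈ Y ∧ ⁅h, y⁆ ∈ T} ⟨one_mem _, by rw [commutatorElement_one_right]; exact one_mem _⟩
      (fun a ha b hb => ⟨mul_mem ha.1 hb.1, by
        rw [show ⁅h, a * b⁆ = ⁅h, a⁆ * (a * ⁅h, b⁆ * a⁻¹) by simp only [commutatorElement_def]; group]
        have hcen := mem_centralizer_iff.1 (hYc ha.1) _ (hNY₁ (hNdef ▸ commutator_mem_commutator hh hb.1))
        rw [← hcen, mul_inv_cancel_right]
        exact mul_mem ha.2 hb.2⟩)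
    refine ((hspan (m - 1)).trans (show _ ≤ S from sup_le ((closure_le _).2 ?_) fun d hd =>
      mem_finSub.2 ⟨hY₁Y hd, ?_⟩) hy).2
    swap
    · rw [commutatorElement_eq_one_iff_mul_comm.2 (mem_centralizer_iff.1 hh.2 d hd).symm]
      exact one_mem _
    rintro _ ⟨v, hv, ⟨B₂, hB₂, hvB⟩, x, hxQ, ⟨B₁, hB₁, hxB⟩, rfl⟩
    obtain ⟨W, hWA, hW3, hWv, hWl⟩ : ∃ W, W ≤ A ∧ p ^ 3 ≤ Nat.card W ∧ v ∈ centralizer (W : Set Γ) ∧
        ∀ z ∈ List.replicate (m - 1) x, z ∈ centralizer (W : Set Γ) := by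
      by_cases h1 : m = 1
      · refine ⟨B₂, hB₂.1, hB₂.coB.card_ge hk (by omega), hvB, fun z hz => ?_⟩
        subst h1; simp at hz
      · refine ⟨B₂ ⊓ B₁, (hB₂.coB.inf hB₁.coB).1, (hB₂.coB.inf hB₁.coB).card_ge hk (by omega),
          centralizer_le inf_le_left hvB, fun z hz => ?_⟩
        rw [List.eq_of_mem_replicate hz]; exact centralizer_le inf_le_right hxB
    set d := cw v (List.replicate (m - 1) x)
    have hdY : d ∈ Y := by
      have : ∀ (l : List Γ) (v : Γ), v ∈ Y → cw v l ∈ Y := by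
        intro l
        induction l with
        | nil => intro v hv; exact hv
        | cons g l ih => intro v hv; exact ih _ (commutator_le_left Y ⊤ (commutator_mem_commutator hv (mem_top g)))
      exact this _ v hv
    refine mem_finSub.2 ⟨hdY, subset_closure ?_⟩
    refine ⟨W, Hs, fun a => ⁅a, d⁆, hWA, hW3, inf_le_left.trans hXG, by rw [normalizer_eq_top]; exact le_top,
      fun a ha => commutator_mem_commutator ha hdY, fun a ha b hb => ?_, fun w hw a _ => ?_,
      fun B₀ hB₀ _ a ha => ?_, h, hh, rfl⟩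
    · have hb1 := hNY₁ (hNdef ▸ commutator_mem_commutator hb hdY : ⁅b, d⁆ ∈ N)
      show ⁅a * b, d⁆ = _
      rw [show ⁅a * b, d⁆ = a * ⁅b, d⁆ * a⁻¹ * ⁅a, d⁆ by simp only [commutatorElement_def]; group,
        ← mem_centralizer_iff.1 ha.2 _ hb1, mul_inv_cancel_right]
      exact hNab _ (commutator_mem_commutator hb hdY) _ (commutator_mem_commutator ha hdY)
    · have hd : w * d * w⁻¹ = d := by
        rw [← cw_conj w _ (fun z hz => conj_fix (hWl z hz) hw), conj_fix hWv hw]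
      calc ⁅w * a * w⁻¹, d⁆ = ⁅w * a * w⁻¹, w * d * w⁻¹⁆ := by rw [hd]
        _ = w * ⁅a, d⁆ * w⁻¹ := by simp only [commutatorElement_def]; group
    · have hd : d ∈ (fixH G B₀).lowerCentralSeries (m - 1) := by
        have := cw_mem_lcs (H := fixH G B₀) (List.replicate (m - 1) x) (fun z hz =>
          ⟨by rw [List.eq_of_mem_replicate hz]; exact hQG hxQ, centralizer_le hB₀ (hWl z hz)⟩) (i := 0) (x := v)
          ⟨hYG hv, centralizer_le hB₀ hWv⟩
        rwa [zero_add, List.length_replicate] at this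
      show ⁅a, d⁆ ∈ _
      rw [← commutatorElement_inv]
      refine inv_mem ?_
      rw [show m = m - 1 + 1 by omega]
      exact commutator_mem_commutator hd ⟨hXG ha.1.1, ha.2⟩

end CfsgLib.CoprimeClass
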