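import Cfsg.Agent.Lib.CoprimeClass.Avg

/-!
Iterated commutators and the two sources of abelian sections used in the generation theorem.
-/

set_option autoImplicit false
set_option linter.unusedSectionVars false
set_option linter.style.haveILetI false

namespace CfsgLib.CoprimeClass

open Subgroup Cfsg
open scoped commutatorElement

variable {Γ : Type*} [Group Γ]

/-- Iterated commutator from the right. -/
def cw (x : Γ) : List Γ → Γ
  | [] => x
  | y :: l => cw ⁅x, y⁆ l

theorem cw_append (l₁ : List Γ) : ∀ (x : Γ) (l₂ : List Γ), cw x (l₁ ++ l₂) = cw (cw x l₁) l₂ := by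
  induction l₁ with
  | nil => intro x l₂; rfl
  | cons s l ih => intro x l₂; exact ih _ _

theorem cw_conj (g : Γ) : ∀ (l : List Γ), (∀ y ∈ l, g * y * g⁻¹ = y) → ∀ x,
    cw (g * x * g⁻¹) l = g * cw x l * g⁻¹ := by
  intro l
  induction l with
  | nil => intro _ x; rfl
  | cons y l ih =>
    intro hl x
    rw [cw, cw, ← ih (fun z hz => hl z (List.mem_cons_of_mem _ hz))]
    congr 1
    have hy := hl y List.mem_cons_self
    calc ⁅g * x * g⁻¹, y⁆ = ⁅g * x * g⁻¹, g * y * g⁻¹⁆ := by rw [hy]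
      _ = g * ⁅x, y⁆ * g⁻¹ := by simp only [commutatorElement_def]; group

theorem cw_mem_lcs {H : Subgroup Γ} : ∀ (l : List Γ), (∀ y ∈ l, y ∈ H) → ∀ {i : ℕ} {x : Γ},
    x ∈ H.lowerCentralSeries i → cw x l ∈ H.lowerCentralSeries (i + l.length) := by
  intro l
  induction l with
  | nil => intro _ i x hx; exact hx
  | cons y l ih =>
    intro hl i x hx
    have := ih (fun z hz => hl z (List.mem_cons_of_mem _ hz))
      (i := i + 1) (commutator_mem_commutator hx (hl y List.mem_cons_self))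
    rwa [add_assoc, add_comm 1] at this

theorem lcs_normal (G : Subgroup Γ) [G.Normal] (i : ℕ) : (G.lowerCentralSeries i).Normal := by
  induction i with
  | zero => rw [Subgroup.lowerCentralSeries_zero]; infer_instance
  | succ i ih => rw [Subgroup.lowerCentralSeries_succ]; infer_instance

section Quot

variable (G : Subgroup Γ) [G.Normal]

theorem comm_congr {i : ℕ} {x y z g : Γ} (hx : x ∈ G.lowerCentralSeries i) (hy : y ∈ G.lowerCentralSeries i)
    (hz : z ∈ G.lowerCentralSeries (i + 1)) (hg : g ∈ G) :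
    (⁅x, g⁆ * ⁅y, g⁆)⁻¹ * ⁅x * y * z, g⁆ ∈ G.lowerCentralSeries (i + 2) := by
  haveI := lcs_normal G (i + 2)
  set π := QuotientGroup.mk' (G.lowerCentralSeries (i + 2))
  have hc : ∀ u ∈ G.lowerCentralSeries (i + 1), ∀ t ∈ G, π u * π t = π t * π u := fun u hu t ht => by
    rw [← commutatorElement_eq_one_iff_mul_comm, ← map_commutatorElement]
    exact (QuotientGroup.eq_one_iff _).2 (commutator_mem_commutator hu ht)
  have hxG := lowerCentralSeries_le_self G i hx
  have hyG := lowerCentralSeries_le_self G i hy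
  have c1 : ⁅x, g⁆ ∈ G.lowerCentralSeries (i + 1) := commutator_mem_commutator hx hg
  have c2 : ⁅y, g⁆ ∈ G.lowerCentralSeries (i + 1) := commutator_mem_commutator hy hg
  refine (QuotientGroup.eq_one_iff _).1 ?_
  show π _ = 1
  rw [map_mul, map_inv, inv_mul_eq_one, map_mul, map_commutatorElement π (x * y * z), map_mul, map_mul]
  have h1 : ⁅π x * π y * π z, π g⁆ = ⁅π x * π y, π g⁆ := by
    rw [commutatorElement_def, commutatorElement_def]
    calc π x * π y * π z * π g * (π x * π y * π z)⁻¹ * (π g)⁻¹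
        = π x * π y * (π z * π g) * (π z)⁻¹ * (π x * π y)⁻¹ * (π g)⁻¹ := by group
      _ = π x * π y * π g * (π x * π y)⁻¹ * (π g)⁻¹ := by rw [hc z hz g hg]; group
  have h2 : ⁅π x * π y, π g⁆ = π x * π ⁅y, g⁆ * (π x)⁻¹ * π ⁅x, g⁆ := by
    rw [map_commutatorElement, map_commutatorElement]
    simp only [commutatorElement_def]
    group
  rw [h1, h2, ← hc _ c2 x hxG, mul_inv_cancel_right, hc _ c2 _ (lowerCentralSeries_le_self G _ c1)]

theorem cw_mul_congr : ∀ (l : List Γ), (∀ y ∈ l, y ∈ G) → ∀ {i : ℕ} {x y z : Γ},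
    x ∈ G.lowerCentralSeries i → y ∈ G.lowerCentralSeries i → z ∈ G.lowerCentralSeries (i + 1) →
    (cw x l * cw y l)⁻¹ * cw (x * y * z) l ∈ G.lowerCentralSeries (i + l.length + 1) := by
  intro l
  induction l with
  | nil =>
    intro _ i x y z _ _ hz
    rw [cw, cw, cw, inv_mul_cancel_left]
    exact hz
  | cons g l ih =>
    intro hl i x y z hx hy hz
    have hg := hl g List.mem_cons_self
    have := ih (fun w hw => hl w (List.mem_cons_of_mem _ hw)) (i := i + 1)
      (commutator_mem_commutator hx hg) (commutator_mem_commutator hy hg) (comm_congr G hx hy hz hg)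
    rw [mul_inv_cancel_left] at this
    rw [List.length_cons, show i + (l.length + 1) + 1 = i + 1 + l.length + 1 by omega]
    exact this

theorem cw_mul_eq {i : ℕ} {l : List Γ} (hl : ∀ y ∈ l, y ∈ G) (hbot : G.lowerCentralSeries (i + l.length + 1) = ⊥)
    {x y : Γ} (hx : x ∈ G.lowerCentralSeries i) (hy : y ∈ G.lowerCentralSeries i) :
    cw (x * y) l = cw x l * cw y l := by
  have := cw_mul_congr G l hl hx hy (one_mem _)
  rw [hbot, Subgroup.mem_bot, inv_mul_eq_one, mul_one] at this
  exact this.symm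

theorem lcs_span {S : Set Γ} (hS : S ⊆ G) (hgen : G ≤ closure S) (M : ℕ) : ∀ i,
    G.lowerCentralSeries (M + i) ≤
      closure {c | ∃ a ∈ G.lowerCentralSeries M, ∃ l : List Γ, l.length = i ∧ (∀ y ∈ l, y ∈ S) ∧ cw a l = c} ⊔
        G.lowerCentralSeries (M + i + 1) := by
  intro i
  induction i with
  | zero => exact fun x hx => mem_sup_left (subset_closure ⟨x, hx, [], rfl, by simp, rfl⟩)
  | succ i ih =>
    set T := closure {c | ∃ a ∈ G.lowerCentralSeries M, ∃ l : List Γ, l.length = i + 1 ∧ (∀ y ∈ l, y ∈ S) ∧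
      cw a l = c} ⊔ G.lowerCentralSeries (M + (i + 1) + 1) with hT
    have hTle : T ≤ G.lowerCentralSeries (M + i + 1) := sup_le ((closure_le _).2 (by
        rintro _ ⟨a, ha, l, hlen, hl, rfl⟩
        have := cw_mem_lcs l (fun y hy => hS (hl y hy)) ha
        rwa [hlen] at this)) (Subgroup.lowerCentralSeries_antitone G (by omega))
    have hTn : ∀ g ∈ G, ∀ t ∈ T, g * t * g⁻¹ ∈ T := by
      intro g hg t ht
      rw [show g * t * g⁻¹ = ⁅t, g⁆⁻¹ * t by simp only [commutatorElement_def]; group]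
      exact mul_mem (inv_mem (mem_sup_right (commutator_mem_commutator (hTle ht) hg))) ht
    show ⁅G.lowerCentralSeries (M + i), G⁆ ≤ T
    rw [commutator_le]
    intro x hx g hg
    -- first for generators `g`
    have hS' : ∀ s ∈ S, ∀ x ∈ G.lowerCentralSeries (M + i), ⁅x, s⁆ ∈ T := by
      intro s hs x hx
      let Z : Subgroup Γ :=
        { carrier := {x | x ∈ G ∧ ⁅x, s⁆ ∈ T}
          one_mem' := ⟨one_mem _, by rw [commutatorElement_one_left]; exact one_mem _⟩
          mul_mem' := fun {a b} ha hb => ⟨mul_mem ha.1 hb.1, by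
            rw [show ⁅a * b, s⁆ = a * ⁅b, s⁆ * a⁻¹ * ⁅a, s⁆ by simp only [commutatorElement_def]; group]
            exact mul_mem (hTn a ha.1 _ hb.2) ha.2⟩
          inv_mem' := fun {a} ha => ⟨inv_mem ha.1, by
            rw [show ⁅a⁻¹, s⁆ = a⁻¹ * ⁅a, s⁆⁻¹ * a⁻¹⁻¹ by simp only [commutatorElement_def]; group]
            exact hTn _ (inv_mem ha.1) _ (inv_mem ha.2)⟩ }
      refine (show G.lowerCentralSeries (M + i) ≤ Z from ih.trans (sup_le ((closure_le _).2 ?_) ?_)) hx |>.2
      · rintro _ ⟨a, ha, l, hlen, hl, rfl⟩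
        refine ⟨lowerCentralSeries_le_self G _ (cw_mem_lcs l (fun y hy => hS (hl y hy)) ha), ?_⟩
        exact mem_sup_left (subset_closure ⟨a, ha, l ++ [s], by simp [hlen],
          fun y hy => (List.mem_append.1 hy).elim (hl y) (fun h => List.mem_singleton.1 h ▸ hs),
          cw_append l a [s]⟩)
      · exact fun y hy => ⟨lowerCentralSeries_le_self G _ hy,
          mem_sup_right (commutator_mem_commutator hy (hS hs))⟩
    let Z : Subgroup Γ :=
      { carrier := {g | g ∈ G ∧ ⁅x, g⁆ ∈ T}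
        one_mem' := ⟨one_mem _, by rw [commutatorElement_one_right]; exact one_mem _⟩
        mul_mem' := fun {a b} ha hb => ⟨mul_mem ha.1 hb.1, by
          rw [show ⁅x, a * b⁆ = ⁅x, a⁆ * (a * ⁅x, b⁆ * a⁻¹) by simp only [commutatorElement_def]; group]
          exact mul_mem ha.2 (hTn a ha.1 _ hb.2)⟩
        inv_mem' := fun {a} ha => ⟨inv_mem ha.1, by
          rw [show ⁅x, a⁻¹⁆ = a⁻¹ * ⁅x, a⁆⁻¹ * a⁻¹⁻¹ by simp only [commutatorElement_def]; group]
          exact hTn _ (inv_mem ha.1) _ (inv_mem ha.2)⟩ }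
    exact ((hgen.trans ((closure_le Z).2 fun s hs => ⟨hS hs, hS' s hs x hx⟩)) hg).2

end Quot

variable [Finite Γ] {p : ℕ} [hp : Fact p.Prime] {A G : Subgroup Γ}

theorem CopAct.exists_coB_fix (hA : CopAct p A G) {l : List Γ}
    (h : ∀ y ∈ l, ∃ B, Hyp p A B ∧ y ∈ centralizer (B : Set Γ)) :
    ∃ W, CoB p l.length A W ∧ ∀ y ∈ l, y ∈ centralizer (W : Set Γ) := by
  induction l with
  | nil => exact ⟨A, ⟨le_rfl, by simp⟩, by simp⟩
  | cons y l ih =>
    obtain ⟨W, hW, hl⟩ := ih fun z hz => h z (List.mem_cons_of_mem _ hz)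
    obtain ⟨B, hB, hy⟩ := h y List.mem_cons_self
    refine ⟨W ⊓ B, hW.inf hB.coB, fun z hz => ?_⟩
    rcases List.mem_cons.1 hz with rfl | hz
    · exact centralizer_le inf_le_right hy
    · exact centralizer_le inf_le_left (hl z hz)

theorem conj_fix {S : Subgroup Γ} {y s : Γ} (hy : y ∈ centralizer (S : Set Γ)) (hs : s ∈ S) :
    s * y * s⁻¹ = y := by
  rw [mem_centralizer_iff.1 hy s hs, mul_inv_cancel_right]

/-- The last relevant term of the lower central series of a nilpotent group is good. -/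
theorem CopAct.good_lcs (hA : CopAct p A G) {k m M : ℕ} (hk : Nat.card A = p ^ k) (hmk : m + 3 ≤ k)
    (hmM : m ≤ M) (hbot : G.lowerCentralSeries (M + 1) = ⊥) :
    G.lowerCentralSeries M ≤ closure {c | Good p m A G (G.lowerCentralSeries M) c} := by
  haveI := hA.normal
  let S : Set Γ := {y | y ∈ G ∧ ∃ B, Hyp p A B ∧ y ∈ centralizer (B : Set Γ)}
  have hgen : G ≤ closure S := hA.le_of_hyps le_rfl hA.le_normalizer fun B hB x hx =>
    subset_closure ⟨hx.1, B, hB, hx.2⟩
  have h := lcs_span G (S := S) (fun y hy => hy.1) hgen (M - m) m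
  rw [show M - m + m = M by omega, hbot, sup_bot_eq] at h
  refine h.trans (closure_mono ?_)
  rintro _ ⟨a, ha, l, hlen, hl, rfl⟩
  obtain ⟨W, hW, hWl⟩ := hA.exists_coB_fix fun y hy => (hl y hy).2
  rw [hlen] at hW
  have hN := lcs_normal G (M - m)
  refine ⟨W, G.lowerCentralSeries (M - m), fun x => cw x l, hW.1, hW.card_ge hk hmk,
    lowerCentralSeries_le_self G _, by rw [normalizer_eq_top]; exact le_top,
    fun x hx => ?_, fun x hx y hy => ?_, fun w hw x _ => ?_, fun B₀ hB₀ _ x hx => ?_, a, ha, rfl⟩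
  · have := cw_mem_lcs l (fun y hy => (hl y hy).1) hx
    rwa [hlen, show M - m + m = M by omega] at this
  · exact cw_mul_eq G (fun y hy => (hl y hy).1) (by rw [hlen, show M - m + m = M by omega]; exact hbot) hx hy
  · exact cw_conj w l (fun y hy => conj_fix (hWl y hy) hw) x
  · have := cw_mem_lcs (H := fixH G B₀) l (fun y hy => ⟨(hl y hy).1, centralizer_le hB₀ (hWl y hy)⟩) (i := 0)
      (x := x) ⟨lowerCentralSeries_le_self G _ hx.1, hx.2⟩
    rwa [zero_add, hlen] at this

end CfsgLib.CoprimeClass
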